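import Cfsg.Agent.H6.ChevFacts
import Cfsg.Prelude.Def_ChevD4

/-! Certificate `H6.Chev.certD4 : Cert chevD4` (kernel-checked tables). -/

namespace H6.Chev

open Cfsg.Lie

def tceD4 : Tr := (.node (.node (.node (.node (.node (.leaf 0x309508507306000504303302501000000000000000000000000000000000000000000) (.leaf 0x31700051500000000000000031100030e50d00000050b000000000305000503)) (.leaf 0x31500000051200000030d00000030b000509000506000000000000303000000500000000)) (.node (.node (.leaf 0x31100030d30c000309000000000505000000503502000000000500000000000000000000) (.leaf 0x51700000031600031300000031200000050f50c00000050a307)) (.leaf 0x51600051400000051100050f000000000000000309000307000000304000302000))) (.node (.node (.node (.leaf 0x50f30c00000030a307000505000000504000501000000300000000000000000000000000) (.leaf 0x316315314313000000000000000000000000000509508507506000)) (.leaf 0x51451300000000050f50e000000000000000000307306000000000302301000000000)) (.node (.node (.leaf 0x51351200000000000000030b30a000508507000000000000000000301300000000000000) (.leaf 0x31700000031531400000000031251100050d50c000509)) (.leaf 0x51700000000051300000000000031030f00000000050b50a000000305000000000301)))) (.node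 (.node (.node (.node (.leaf 0x30e00030b30a000306505000000000503502000000500000000000000000000000000000) (.leaf 0x51751600000000000000000031030f00050d50c000000000000000305304)) (.leaf 0x51600000000051200000030d30c000000000508507000000000000304000000000300000)) (.node (.node (.leaf 0x31131030f30e000000000000000000000000000504503502501000000000000000000) (.leaf 0x51700000031600031300000031200051050d00000050b308)) (.leaf 0x516515000000000511510000000000000000000309308000000000304303000))) (.node (.node (.node (.leaf 0x51030d00000030b308000000505000000504000501000000300000000000000000000000) (.leaf 0x31700000000031531400000031200000000050e00050b50a000506)) (.leaf 0x51500051300000051000050e000000000000000308000306000000303000301000000)) (.node (.node (.leaf 0x31400051200000000030c00000030a509000506000000000000000302000500000000000) (.leaf 0x31651551431300051131030f50e000)) (.leaf 0x31700000051400000000000031100030e00050c00000050a000000305000000502)))))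

def tcoD4 : Tr := (.node (.node (.leaf 0x999999888888888888777777) (.leaf 0x999888998898878877888777)) (.node (.leaf 0xa99998999988887777877776) (.leaf 0x998988989889788787887877)))

def tcaD4 : Tr := (.node (.node (.leaf 0x89999a777788889999677778) (.leaf 0x8997789977a8869977899778)) (.node (.leaf 0x978897899a77996778978897) (.leaf 0x89797897978a689797897978)))

def trfD4 : Tr := (.node (.node (.leaf 0x1711100f0e05161514130d0c0b0a04030201120908070600) (.leaf 0x1714131615120f0e11100a0c0b0d07060908050201040300)) (.node (.leaf 0x161715141213110d0c09100f08070e0b0a06040503020001) (.leaf 0x17151613141210110e0f0d0b0c0a08090607050304010200)))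

def tetD4 : Tr := (.node (.node (.leaf 0x7c3e0) (.leaf 0x6324c6)) (.node (.leaf 0x887e11) (.leaf 0x52994a)))

def tvcD4 : Tr := (.node (.node (.leaf 0x999999888888888888777777) (.leaf 0x999888998898878877888777)) (.node (.leaf 0xa99998999988887777877776) (.leaf 0x998988989889788787887877)))

/-- fast tables for type D4 -/
noncomputable def fastD4 : Fast :=
  mkFast 24 4 12 4095 tceD4 tcoD4 tcaD4 trfD4 tetD4 tvcD4 0xc0d0e12 [(23, 0), (23, 9), (23, 12), (23, 13), (23, 18), (23, 22), (23, 23)]

theorem chainD4 : chkChain chevD4 fastD4 = true := by decide +kernel
theorem tabsD4 : chkTabs chevD4 fastD4 = true := by decide +kernel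
theorem compatD4 : chkCompat chevD4 24 4 12 4095 tceD4 trfD4 tetD4 = true := by decide +kernel
theorem rsaD4 : chkRS1 fastD4 = true := by decide +kernel
theorem rsbD4 : chkRS2 fastD4 = true := by decide +kernel
theorem domD4 : chkDom fastD4 = true := by decide +kernel
theorem pairsD4 : chkPairs chevD4 fastD4 = true := by decide +kernel
theorem nmD4 : chkN fastD4 = true := by decide +kernel
theorem linkD4 : Link chevD4 fastD4 := link_of_chk chainD4 tabsD4

/-- the certificate -/
noncomputable def certD4 : Cert chevD4 :=
  ⟨fastD4, linkD4, chainD4, compat_of_chk linkD4 compatD4, rsaD4, rsbD4, domD4, pairsD4, nmD4⟩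

end H6.Chev
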