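import Cfsg.Agent.H6.WeylChk
import Cfsg.Agent.H6.ChevAll

/-!
Cartan matrices, Coxeter presentations and Poincaré polynomials of the seven Weyl groups.
-/

namespace H6.Chev

open Cfsg.Lie

def cartB2 : List (List ℤ) := [[2, -2], [-1, 2]]

theorem cartB2OK : CartOK certB2.R cartB2 := certB2.cartOK (by decide +kernel)

theorem coxB2 : ∃ e : certB2.R.W ≃* (CoxeterMatrix.B 2).Group, ∀ i, e (certB2.R.s i) = (CoxeterMatrix.B 2).simple i :=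
  cartB2OK.coxeter (CoxeterMatrix.B 2) (by decide +kernel)

def orbpoinB2_0 : List (ℤ × List ℤ) :=
  [(0, [1, 0]), (1, [-1, 2]), (2, [1, -2]), (3, [-1, 0])]

def orbpoinB2_1 : List (ℤ × List ℤ) :=
  [(0, [0, 1]), (1, [1, -1])]

theorem poinB2 {M : Type*} [CommSemiring M] (x : M) : certB2.R.poin (Sym.triv certB2.R).W1 x =
    poly [1, 1, 1, 1] x * (poly [1, 1] x) := by
  rw [(Sym.triv certB2.R).poin_top (ks := [⟨0, by decide⟩, ⟨1, by decide⟩]) (by decide +kernel),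
    (Sym.triv certB2.R).stage cartB2OK [⟨0, by decide⟩, ⟨1, by decide⟩] [⟨1, by decide⟩] [1, 0] orbpoinB2_0 [1, 1, 1, 1]
      (by decide +kernel) (by decide +kernel),
    (Sym.triv certB2.R).stage cartB2OK [⟨1, by decide⟩] [] [0, 1] orbpoinB2_1 [1, 1]
      (by decide +kernel) (by decide +kernel),
    (Sym.triv certB2.R).poin_nil, mul_one]

def cartG2 : List (List ℤ) := [[2, -3], [-1, 2]]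

theorem cartG2OK : CartOK certG2.R cartG2 := certG2.cartOK (by decide +kernel)

theorem coxG2 : ∃ e : certG2.R.W ≃* (CoxeterMatrix.G₂).Group, ∀ i, e (certG2.R.s i) = (CoxeterMatrix.G₂).simple i :=
  cartG2OK.coxeter (CoxeterMatrix.G₂) (by decide +kernel)

def orbpoinG2_0 : List (ℤ × List ℤ) :=
  [(0, [1, 0]), (1, [-1, 3]), (2, [2, -3]), (3, [-2, 3]), (4, [1, -3]), (5, [-1, 0])]

def orbpoinG2_1 : List (ℤ × List ℤ) :=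
  [(0, [0, 1]), (1, [1, -1])]

theorem poinG2 {M : Type*} [CommSemiring M] (x : M) : certG2.R.poin (Sym.triv certG2.R).W1 x =
    poly [1, 1, 1, 1, 1, 1] x * (poly [1, 1] x) := by
  rw [(Sym.triv certG2.R).poin_top (ks := [⟨0, by decide⟩, ⟨1, by decide⟩]) (by decide +kernel),
    (Sym.triv certG2.R).stage cartG2OK [⟨0, by decide⟩, ⟨1, by decide⟩] [⟨1, by decide⟩] [1, 0] orbpoinG2_0 [1, 1, 1, 1, 1, 1]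
      (by decide +kernel) (by decide +kernel),
    (Sym.triv certG2.R).stage cartG2OK [⟨1, by decide⟩] [] [0, 1] orbpoinG2_1 [1, 1]
      (by decide +kernel) (by decide +kernel),
    (Sym.triv certG2.R).poin_nil, mul_one]

def cartD4 : List (List ℤ) := [[2, -1, 0, 0], [-1, 2, -1, -1], [0, -1, 2, 0], [0, -1, 0, 2]]

theorem cartD4OK : CartOK certD4.R cartD4 := certD4.cartOK (by decide +kernel)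

theorem coxD4 : ∃ e : certD4.R.W ≃* (coxeterD4).Group, ∀ i, e (certD4.R.s i) = (coxeterD4).simple i :=
  cartD4OK.coxeter (coxeterD4) (by decide +kernel)

def orbpoinD4_0 : List (ℤ × List ℤ) :=
  [(0, [1, 0, 0, 0]), (1, [-1, 1, 0, 0]), (2, [0, -1, 1, 1]), (3, [0, 0, -1, 1]), (3, [0, 0, 1, -1]), (4, [0, 1, -1, -1]), (5, [1, -1, 0, 0]), (6, [-1, 0, 0, 0])]

def orbpoinD4_1 : List (ℤ × List ℤ) :=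
  [(0, [0, 0, 1, 0]), (1, [0, 1, -1, 0]), (2, [1, -1, 0, 1]), (3, [1, 0, 0, -1])]

def orbpoinD4_2 : List (ℤ × List ℤ) :=
  [(0, [0, 1, 0, 0]), (1, [1, -1, 1, 1]), (2, [1, 0, 1, -1])]

def orbpoinD4_3 : List (ℤ × List ℤ) :=
  [(0, [0, 0, 0, 1]), (1, [0, 1, 0, -1])]

theorem poinD4 {M : Type*} [CommSemiring M] (x : M) : certD4.R.poin (Sym.triv certD4.R).W1 x =
    poly [1, 1, 1, 2, 1, 1, 1] x * (poly [1, 1, 1, 1] x * (poly [1, 1, 1] x * (poly [1, 1] x))) := by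
  rw [(Sym.triv certD4.R).poin_top (ks := [⟨0, by decide⟩, ⟨1, by decide⟩, ⟨2, by decide⟩, ⟨3, by decide⟩]) (by decide +kernel),
    (Sym.triv certD4.R).stage cartD4OK [⟨0, by decide⟩, ⟨1, by decide⟩, ⟨2, by decide⟩, ⟨3, by decide⟩] [⟨1, by decide⟩, ⟨2, by decide⟩, ⟨3, by decide⟩] [1, 0, 0, 0] orbpoinD4_0 [1, 1, 1, 2, 1, 1, 1]
      (by decide +kernel) (by decide +kernel),
    (Sym.triv certD4.R).stage cartD4OK [⟨1, by decide⟩, ⟨2, by decide⟩, ⟨3, by decide⟩] [⟨1, by decide⟩, ⟨3, by decide⟩] [0, 0, 1, 0] orbpoinD4_1 [1, 1, 1, 1]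
      (by decide +kernel) (by decide +kernel),
    (Sym.triv certD4.R).stage cartD4OK [⟨1, by decide⟩, ⟨3, by decide⟩] [⟨3, by decide⟩] [0, 1, 0, 0] orbpoinD4_2 [1, 1, 1]
      (by decide +kernel) (by decide +kernel),
    (Sym.triv certD4.R).stage cartD4OK [⟨3, by decide⟩] [] [0, 0, 0, 1] orbpoinD4_3 [1, 1]
      (by decide +kernel) (by decide +kernel),
    (Sym.triv certD4.R).poin_nil, mul_one]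

def cartF4 : List (List ℤ) := [[2, -1, 0, 0], [-1, 2, -2, 0], [0, -1, 2, -1], [0, 0, -1, 2]]

theorem cartF4OK : CartOK certF4.R cartF4 := certF4.cartOK (by decide +kernel)

theorem coxF4 : ∃ e : certF4.R.W ≃* (CoxeterMatrix.F₄).Group, ∀ i, e (certF4.R.s i) = (CoxeterMatrix.F₄).simple i :=
  cartF4OK.coxeter (CoxeterMatrix.F₄) (by decide +kernel)

def orbpoinF4_0 : List (ℤ × List ℤ) :=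
  [(0, [0, 0, 0, 1]), (1, [0, 0, 1, -1]), (2, [0, 1, -1, 0]), (3, [1, -1, 1, 0]), (4, [-1, 0, 1, 0]), (4, [1, 0, -1, 1]), (5, [-1, 1, -1, 1]), (5, [1, 0, 0, -1]), (6, [0, -1, 1, 1]), (6, [-1, 1, 0, -1]), (7, [0, 0, -1, 2]), (7, [0, -1, 2, -1]), (8, [0, 0, 1, -2]), (8, [0, 1, -2, 1]), (9, [0, 1, -1, -1]), (9, [1, -1, 0, 1]), (10, [1, -1, 1, -1]), (10, [-1, 0, 0, 1]), (11, [-1, 0, 1, -1]), (11, [1, 0, -1, 0]), (12, [-1, 1, -1, 0]), (13, [0, -1, 1, 0]), (14, [0, 0, -1, 1]), (15, [0, 0, 0, -1])]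

def orbpoinF4_1 : List (ℤ × List ℤ) :=
  [(0, [0, 0, 1, 0]), (1, [0, 1, -1, 1]), (2, [1, -1, 1, 1]), (3, [-1, 0, 1, 1]), (3, [1, 0, -1, 2]), (4, [-1, 1, -1, 2]), (5, [0, -1, 1, 2]), (6, [0, 0, -1, 3])]

def orbpoinF4_2 : List (ℤ × List ℤ) :=
  [(0, [0, 1, 0, 0]), (1, [1, -1, 2, 0]), (2, [-1, 0, 2, 0])]

def orbpoinF4_3 : List (ℤ × List ℤ) :=
  [(0, [1, 0, 0, 0]), (1, [-1, 1, 0, 0])]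

theorem poinF4 {M : Type*} [CommSemiring M] (x : M) : certF4.R.poin (Sym.triv certF4.R).W1 x =
    poly [1, 1, 1, 1, 2, 2, 2, 2, 2, 2, 2, 2, 1, 1, 1, 1] x * (poly [1, 1, 1, 2, 1, 1, 1] x * (poly [1, 1, 1] x * (poly [1, 1] x))) := by
  rw [(Sym.triv certF4.R).poin_top (ks := [⟨0, by decide⟩, ⟨1, by decide⟩, ⟨2, by decide⟩, ⟨3, by decide⟩]) (by decide +kernel),
    (Sym.triv certF4.R).stage cartF4OK [⟨0, by decide⟩, ⟨1, by decide⟩, ⟨2, by decide⟩, ⟨3, by decide⟩] [⟨0, by decide⟩, ⟨1, by decide⟩, ⟨2, by decide⟩] [0, 0, 0, 1] orbpoinF4_0 [1, 1, 1, 1, 2, 2, 2, 2, 2, 2, 2, 2, 1, 1, 1, 1]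
      (by decide +kernel) (by decide +kernel),
    (Sym.triv certF4.R).stage cartF4OK [⟨0, by decide⟩, ⟨1, by decide⟩, ⟨2, by decide⟩] [⟨0, by decide⟩, ⟨1, by decide⟩] [0, 0, 1, 0] orbpoinF4_1 [1, 1, 1, 2, 1, 1, 1]
      (by decide +kernel) (by decide +kernel),
    (Sym.triv certF4.R).stage cartF4OK [⟨0, by decide⟩, ⟨1, by decide⟩] [⟨0, by decide⟩] [0, 1, 0, 0] orbpoinF4_2 [1, 1, 1]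
      (by decide +kernel) (by decide +kernel),
    (Sym.triv certF4.R).stage cartF4OK [⟨0, by decide⟩] [] [1, 0, 0, 0] orbpoinF4_3 [1, 1]
      (by decide +kernel) (by decide +kernel),
    (Sym.triv certF4.R).poin_nil, mul_one]

def cartE6 : List (List ℤ) := [[2, 0, -1, 0, 0, 0], [0, 2, 0, -1, 0, 0], [-1, 0, 2, -1, 0, 0], [0, -1, -1, 2, -1, 0], [0, 0, 0, -1, 2, -1], [0, 0, 0, 0, -1, 2]]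

theorem cartE6OK : CartOK certE6.R cartE6 := certE6.cartOK (by decide +kernel)

theorem coxE6 : ∃ e : certE6.R.W ≃* (CoxeterMatrix.E₆).Group, ∀ i, e (certE6.R.s i) = (CoxeterMatrix.E₆).simple i :=
  cartE6OK.coxeter (CoxeterMatrix.E₆) (by decide +kernel)

def orbpoinE6_0 : List (ℤ × List ℤ) :=
  [(0, [0, 0, 0, 0, 0, 1]), (1, [0, 0, 0, 0, 1, -1]), (2, [0, 0, 0, 1, -1, 0]), (3, [0, 1, 1, -1, 0, 0]), (4, [0, -1, 1, 0, 0, 0]), (4, [1, 1, -1, 0, 0, 0]), (5, [1, -1, -1, 1, 0, 0]), (5, [-1, 1, 0, 0, 0, 0]), (6, [-1, -1, 0, 1, 0, 0]), (6, [1, 0, 0, -1, 1, 0]), (7, [-1, 0, 1, -1, 1, 0]), (7, [1, 0, 0, 0, -1, 1]), (8, [0, 0, -1, 0, 1, 0]), (8, [-1, 0, 1, 0, -1, 1]), (8, [1, 0, 0, 0, 0, -1]), (9, [0, 0, -1, 1, -1, 1]), (9, [-1, 0, 1, 0, 0, -1]), (10, [0, 1, 0, -1, 0, 1]),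 (10, [0, 0, -1, 1, 0, -1]), (11, [0, -1, 0, 0, 0, 1]), (11, [0, 1, 0, -1, 1, -1]), (12, [0, -1, 0, 0, 1, -1]), (12, [0, 1, 0, 0, -1, 0]), (13, [0, -1, 0, 1, -1, 0]), (14, [0, 0, 1, -1, 0, 0]), (15, [1, 0, -1, 0, 0, 0]), (16, [-1, 0, 0, 0, 0, 0])]

def orbpoinE6_1 : List (ℤ × List ℤ) :=
  [(0, [0, 1, 0, 0, 0, 0]), (1, [0, -1, 0, 1, 0, 0]), (2, [0, 0, 1, -1, 1, 0]), (3, [1, 0, -1, 0, 1, 0]), (3, [0, 0, 1, 0, -1, 1]), (4, [-1, 0, 0, 0, 1, 0]), (4, [1, 0, -1, 1, -1, 1]), (5, [-1, 0, 0, 1, -1, 1]), (5, [1, 1, 0, -1, 0, 1]), (6, [-1, 1, 1, -1, 0, 1]), (6, [1, -1, 0, 0, 0, 1]), (7, [-1, -1, 1, 0, 0, 1]), (7, [0, 1, -1, 0, 0, 1]), (8, [0, -1, -1, 1, 0, 1]), (9, [0, 0, 0, -1, 1, 1]), (10, [0, 0, 0, 0, -1, 2])]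

def orbpoinE6_2 : List (ℤ × List ℤ) :=
  [(0, [1, 0, 0, 0, 0, 0]), (1, [-1, 0, 1, 0, 0, 0]), (2, [0, 0, -1, 1, 0, 0]), (3, [0, 1, 0, -1, 1, 0]), (4, [0, 1, 0, 0, -1, 1])]

def orbpoinE6_3 : List (ℤ × List ℤ) :=
  [(0, [0, 0, 1, 0, 0, 0]), (1, [1, 0, -1, 1, 0, 0]), (2, [1, 1, 0, -1, 1, 0]), (3, [1, 1, 0, 0, -1, 1])]

def orbpoinE6_4 : List (ℤ × List ℤ) :=
  [(0, [0, 0, 0, 1, 0, 0]), (1, [0, 1, 1, -1, 1, 0]), (2, [0, 1, 1, 0, -1, 1])]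

def orbpoinE6_5 : List (ℤ × List ℤ) :=
  [(0, [0, 0, 0, 0, 1, 0]), (1, [0, 0, 0, 1, -1, 1])]

theorem poinE6 {M : Type*} [CommSemiring M] (x : M) : certE6.R.poin (Sym.triv certE6.R).W1 x =
    poly [1, 1, 1, 1, 2, 2, 2, 2, 3, 2, 2, 2, 2, 1, 1, 1, 1] x * (poly [1, 1, 1, 2, 2, 2, 2, 2, 1, 1, 1] x * (poly [1, 1, 1, 1, 1] x * (poly [1, 1, 1, 1] x * (poly [1, 1, 1] x * (poly [1, 1] x))))) := by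
  rw [(Sym.triv certE6.R).poin_top (ks := [⟨0, by decide⟩, ⟨1, by decide⟩, ⟨2, by decide⟩, ⟨3, by decide⟩, ⟨4, by decide⟩, ⟨5, by decide⟩]) (by decide +kernel),
    (Sym.triv certE6.R).stage cartE6OK [⟨0, by decide⟩, ⟨1, by decide⟩, ⟨2, by decide⟩, ⟨3, by decide⟩, ⟨4, by decide⟩, ⟨5, by decide⟩] [⟨0, by decide⟩, ⟨1, by decide⟩, ⟨2, by decide⟩, ⟨3, by decide⟩, ⟨4, by decide⟩] [0, 0, 0, 0, 0, 1] orbpoinE6_0 [1, 1, 1, 1, 2, 2, 2, 2, 3, 2, 2, 2, 2, 1, 1, 1, 1]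
      (by decide +kernel) (by decide +kernel),
    (Sym.triv certE6.R).stage cartE6OK [⟨0, by decide⟩, ⟨1, by decide⟩, ⟨2, by decide⟩, ⟨3, by decide⟩, ⟨4, by decide⟩] [⟨0, by decide⟩, ⟨2, by decide⟩, ⟨3, by decide⟩, ⟨4, by decide⟩] [0, 1, 0, 0, 0, 0] orbpoinE6_1 [1, 1, 1, 2, 2, 2, 2, 2, 1, 1, 1]
      (by decide +kernel) (by decide +kernel),
    (Sym.triv certE6.R).stage cartE6OK [⟨0, by decide⟩, ⟨2, by decide⟩, ⟨3, by decide⟩, ⟨4, by decide⟩] [⟨2, by decide⟩, ⟨3, by decide⟩, ⟨4, by decide⟩] [1, 0, 0, 0, 0, 0] orbpoinE6_2 [1, 1, 1, 1, 1]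
      (by decide +kernel) (by decide +kernel),
    (Sym.triv certE6.R).stage cartE6OK [⟨2, by decide⟩, ⟨3, by decide⟩, ⟨4, by decide⟩] [⟨3, by decide⟩, ⟨4, by decide⟩] [0, 0, 1, 0, 0, 0] orbpoinE6_3 [1, 1, 1, 1]
      (by decide +kernel) (by decide +kernel),
    (Sym.triv certE6.R).stage cartE6OK [⟨3, by decide⟩, ⟨4, by decide⟩] [⟨4, by decide⟩] [0, 0, 0, 1, 0, 0] orbpoinE6_4 [1, 1, 1]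
      (by decide +kernel) (by decide +kernel),
    (Sym.triv certE6.R).stage cartE6OK [⟨4, by decide⟩] [] [0, 0, 0, 0, 1, 0] orbpoinE6_5 [1, 1]
      (by decide +kernel) (by decide +kernel),
    (Sym.triv certE6.R).poin_nil, mul_one]

def cartE7 : List (List ℤ) := [[2, 0, -1, 0, 0, 0, 0], [0, 2, 0, -1, 0, 0, 0], [-1, 0, 2, -1, 0, 0, 0], [0, -1, -1, 2, -1, 0, 0], [0, 0, 0, -1, 2, -1, 0], [0, 0, 0, 0, -1, 2, -1], [0, 0, 0, 0, 0, -1, 2]]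

theorem cartE7OK : CartOK certE7.R cartE7 := certE7.cartOK (by decide +kernel)

theorem coxE7 : ∃ e : certE7.R.W ≃* (CoxeterMatrix.E₇).Group, ∀ i, e (certE7.R.s i) = (CoxeterMatrix.E₇).simple i :=
  cartE7OK.coxeter (CoxeterMatrix.E₇) (by decide +kernel)

def orbpoinE7_0_0 : List (ℤ × List ℤ) :=
  [(0, [0, 0, 0, 0, 0, 0, 1]), (1, [0, 0, 0, 0, 0, 1, -1]), (2, [0, 0, 0, 0, 1, -1, 0]), (3, [0, 0, 0, 1, -1, 0, 0]), (4, [0, 1, 1, -1, 0, 0, 0]), (5, [0, -1, 1, 0, 0, 0, 0]), (5, [1, 1, -1, 0, 0, 0, 0]), (6, [1, -1, -1, 1, 0, 0, 0]), (6, [-1, 1, 0, 0, 0, 0, 0]), (7, [-1, -1, 0, 1, 0, 0, 0]), (7, [1, 0, 0, -1, 1, 0, 0]), (8, [-1, 0, 1, -1, 1, 0, 0]), (8, [1, 0, 0, 0, -1, 1, 0]), (9, [0, 0, -1, 0, 1, 0, 0]), (9, [-1, 0, 1, 0, -1, 1, 0]), (9, [1, 0, 0, 0, 0, -1, 1]), (10,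 [0, 0, -1, 1, -1, 1, 0]), (10, [-1, 0, 1, 0, 0, -1, 1]), (10, [1, 0, 0, 0, 0, 0, -1]), (11, [0, 1, 0, -1, 0, 1, 0]), (11, [0, 0, -1, 1, 0, -1, 1]), (11, [-1, 0, 1, 0, 0, 0, -1]), (12, [0, -1, 0, 0, 0, 1, 0]), (12, [0, 1, 0, -1, 1, -1, 1]), (12, [0, 0, -1, 1, 0, 0, -1]), (13, [0, -1, 0, 0, 1, -1, 1]), (13, [0, 1, 0, 0, -1, 0, 1]), (13, [0, 1, 0, -1, 1, 0, -1]), (14, [0, -1, 0, 1, -1, 0, 1]), (14, [0, -1, 0, 0, 1, 0, -1])]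

def orbpoinE7_0_1 : List (ℤ × List ℤ) :=
  [(14, [0, 1, 0, 0, -1, 1, -1]), (15, [0, 0, 1, -1, 0, 0, 1]), (15, [0, -1, 0, 1, -1, 1, -1]), (15, [0, 1, 0, 0, 0, -1, 0]), (16, [1, 0, -1, 0, 0, 0, 1]), (16, [0, 0, 1, -1, 0, 1, -1]), (16, [0, -1, 0, 1, 0, -1, 0]), (17, [-1, 0, 0, 0, 0, 0, 1]), (17, [1, 0, -1, 0, 0, 1, -1]), (17, [0, 0, 1, -1, 1, -1, 0]), (18, [-1, 0, 0, 0, 0, 1, -1]), (18, [1, 0, -1, 0, 1, -1, 0]), (18, [0, 0, 1, 0, -1, 0, 0]), (19, [-1, 0, 0, 0, 1, -1, 0]), (19, [1, 0, -1, 1, -1, 0, 0]), (20, [-1, 0, 0, 1, -1, 0, 0]), (20, [1, 1, 0, -1, 0, 0, 0]), (21, [-1, 1, 1, -1, 0, 0, 0]), (21, [1, -1, 0, 0, 0, 0, 0]), (22, [-1, -1, 1, 0, 0, 0, 0]), (22, [0, 1, -1, 0, 0, 0, 0]), (23, [0, -1, -1, 1, 0, 0, 0]), (24, [0, 0, 0, -1, 1, 0, 0]), (25, [0, 0, 0, 0, -1,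 1, 0]), (26, [0, 0, 0, 0, 0, -1, 1]), (27, [0, 0, 0, 0, 0, 0, -1])]

def orbpoinE7_0 : List (ℤ × List ℤ) :=
  orbpoinE7_0_0 ++ (orbpoinE7_0_1)

def orbpoinE7_1 : List (ℤ × List ℤ) :=
  [(0, [0, 0, 0, 0, 0, 1, 0]), (1, [0, 0, 0, 0, 1, -1, 1]), (2, [0, 0, 0, 1, -1, 0, 1]), (3, [0, 1, 1, -1, 0, 0, 1]), (4, [0, -1, 1, 0, 0, 0, 1]), (4, [1, 1, -1, 0, 0, 0, 1]), (5, [1, -1, -1, 1, 0, 0, 1]), (5, [-1, 1, 0, 0, 0, 0, 1]), (6, [-1, -1, 0, 1, 0, 0, 1]), (6, [1, 0, 0, -1, 1, 0, 1]), (7, [-1, 0, 1, -1, 1, 0, 1]), (7, [1, 0, 0, 0, -1, 1, 1]), (8, [0, 0, -1, 0, 1, 0, 1]), (8, [-1, 0, 1, 0, -1, 1, 1]), (8, [1, 0, 0, 0, 0, -1, 2]), (9, [0, 0, -1, 1, -1, 1, 1]), (9, [-1, 0, 1, 0, 0, -1, 2]), (10, [0, 1, 0, -1, 0, 1, 1]), (10, [0, 0, -1, 1, 0, -1, 2]), (11, [0, -1, 0, 0, 0, 1,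 1]), (11, [0, 1, 0, -1, 1, -1, 2]), (12, [0, -1, 0, 0, 1, -1, 2]), (12, [0, 1, 0, 0, -1, 0, 2]), (13, [0, -1, 0, 1, -1, 0, 2]), (14, [0, 0, 1, -1, 0, 0, 2]), (15, [1, 0, -1, 0, 0, 0, 2]), (16, [-1, 0, 0, 0, 0, 0, 2])]

def orbpoinE7_2 : List (ℤ × List ℤ) :=
  [(0, [0, 1, 0, 0, 0, 0, 0]), (1, [0, -1, 0, 1, 0, 0, 0]), (2, [0, 0, 1, -1, 1, 0, 0]), (3, [1, 0, -1, 0, 1, 0, 0]), (3, [0, 0, 1, 0, -1, 1, 0]), (4, [-1, 0, 0, 0, 1, 0, 0]), (4, [1, 0, -1, 1, -1, 1, 0]), (5, [-1, 0, 0, 1, -1, 1, 0]), (5, [1, 1, 0, -1, 0, 1, 0]), (6, [-1, 1, 1, -1, 0, 1, 0]), (6, [1, -1, 0, 0, 0, 1, 0]), (7, [-1, -1, 1, 0, 0, 1, 0]), (7, [0, 1, -1, 0, 0, 1, 0]), (8, [0, -1, -1, 1, 0, 1, 0]), (9, [0, 0, 0, -1, 1, 1, 0]), (10, [0, 0, 0, 0, -1, 2, 0])]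

def orbpoinE7_3 : List (ℤ × List ℤ) :=
  [(0, [1, 0, 0, 0, 0, 0, 0]), (1, [-1, 0, 1, 0, 0, 0, 0]), (2, [0, 0, -1, 1, 0, 0, 0]), (3, [0, 1, 0, -1, 1, 0, 0]), (4, [0, 1, 0, 0, -1, 1, 0])]

def orbpoinE7_4 : List (ℤ × List ℤ) :=
  [(0, [0, 0, 1, 0, 0, 0, 0]), (1, [1, 0, -1, 1, 0, 0, 0]), (2, [1, 1, 0, -1, 1, 0, 0]), (3, [1, 1, 0, 0, -1, 1, 0])]

def orbpoinE7_5 : List (ℤ × List ℤ) :=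
  [(0, [0, 0, 0, 1, 0, 0, 0]), (1, [0, 1, 1, -1, 1, 0, 0]), (2, [0, 1, 1, 0, -1, 1, 0])]

def orbpoinE7_6 : List (ℤ × List ℤ) :=
  [(0, [0, 0, 0, 0, 1, 0, 0]), (1, [0, 0, 0, 1, -1, 1, 0])]

theorem poinE7 {M : Type*} [CommSemiring M] (x : M) : certE7.R.poin (Sym.triv certE7.R).W1 x =
    poly [1, 1, 1, 1, 1, 2, 2, 2, 2, 3, 3, 3, 3, 3, 3, 3, 3, 3, 3, 2, 2, 2, 2, 1, 1, 1, 1, 1] x * (poly [1, 1, 1, 1, 2, 2, 2, 2, 3, 2, 2, 2, 2, 1, 1, 1, 1] x * (poly [1, 1, 1, 2, 2, 2, 2, 2, 1, 1, 1] x * (poly [1, 1, 1, 1, 1] x * (poly [1, 1, 1, 1] x * (poly [1, 1, 1] x * (poly [1, 1] x)))))) := by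
  rw [(Sym.triv certE7.R).poin_top (ks := [⟨0, by decide⟩, ⟨1, by decide⟩, ⟨2, by decide⟩, ⟨3, by decide⟩, ⟨4, by decide⟩, ⟨5, by decide⟩, ⟨6, by decide⟩]) (by decide +kernel),
    (Sym.triv certE7.R).stage cartE7OK [⟨0, by decide⟩, ⟨1, by decide⟩, ⟨2, by decide⟩, ⟨3, by decide⟩, ⟨4, by decide⟩, ⟨5, by decide⟩, ⟨6, by decide⟩] [⟨0, by decide⟩, ⟨1, by decide⟩, ⟨2, by decide⟩, ⟨3, by decide⟩, ⟨4, by decide⟩, ⟨5, by decide⟩] [0, 0, 0, 0, 0, 0, 1] orbpoinE7_0 [1, 1, 1, 1, 1, 2, 2, 2, 2, 3, 3, 3, 3, 3, 3, 3, 3, 3, 3, 2, 2, 2, 2, 1, 1, 1, 1, 1]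
      (by decide +kernel) (by decide +kernel),
    (Sym.triv certE7.R).stage cartE7OK [⟨0, by decide⟩, ⟨1, by decide⟩, ⟨2, by decide⟩, ⟨3, by decide⟩, ⟨4, by decide⟩, ⟨5, by decide⟩] [⟨0, by decide⟩, ⟨1, by decide⟩, ⟨2, by decide⟩, ⟨3, by decide⟩, ⟨4, by decide⟩] [0, 0, 0, 0, 0, 1, 0] orbpoinE7_1 [1, 1, 1, 1, 2, 2, 2, 2, 3, 2, 2, 2, 2, 1, 1, 1, 1]
      (by decide +kernel) (by decide +kernel),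
    (Sym.triv certE7.R).stage cartE7OK [⟨0, by decide⟩, ⟨1, by decide⟩, ⟨2, by decide⟩, ⟨3, by decide⟩, ⟨4, by decide⟩] [⟨0, by decide⟩, ⟨2, by decide⟩, ⟨3, by decide⟩, ⟨4, by decide⟩] [0, 1, 0, 0, 0, 0, 0] orbpoinE7_2 [1, 1, 1, 2, 2, 2, 2, 2, 1, 1, 1]
      (by decide +kernel) (by decide +kernel),
    (Sym.triv certE7.R).stage cartE7OK [⟨0, by decide⟩, ⟨2, by decide⟩, ⟨3, by decide⟩, ⟨4, by decide⟩] [⟨2, by decide⟩, ⟨3, by decide⟩, ⟨4, by decide⟩] [1, 0, 0, 0, 0, 0, 0] orbpoinE7_3 [1, 1, 1, 1, 1]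
      (by decide +kernel) (by decide +kernel),
    (Sym.triv certE7.R).stage cartE7OK [⟨2, by decide⟩, ⟨3, by decide⟩, ⟨4, by decide⟩] [⟨3, by decide⟩, ⟨4, by decide⟩] [0, 0, 1, 0, 0, 0, 0] orbpoinE7_4 [1, 1, 1, 1]
      (by decide +kernel) (by decide +kernel),
    (Sym.triv certE7.R).stage cartE7OK [⟨3, by decide⟩, ⟨4, by decide⟩] [⟨4, by decide⟩] [0, 0, 0, 1, 0, 0, 0] orbpoinE7_5 [1, 1, 1]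
      (by decide +kernel) (by decide +kernel),
    (Sym.triv certE7.R).stage cartE7OK [⟨4, by decide⟩] [] [0, 0, 0, 0, 1, 0, 0] orbpoinE7_6 [1, 1]
      (by decide +kernel) (by decide +kernel),
    (Sym.triv certE7.R).poin_nil, mul_one]

def cartE8 : List (List ℤ) := [[2, 0, -1, 0, 0, 0, 0, 0], [0, 2, 0, -1, 0, 0, 0, 0], [-1, 0, 2, -1, 0, 0, 0, 0], [0, -1, -1, 2, -1, 0, 0, 0], [0, 0, 0, -1, 2, -1, 0, 0], [0, 0, 0, 0, -1, 2, -1, 0], [0, 0, 0, 0, 0, -1, 2, -1], [0, 0, 0, 0, 0, 0, -1, 2]]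

theorem cartE8OK : CartOK certE8.R cartE8 := certE8.cartOK (by decide +kernel)

theorem coxE8 : ∃ e : certE8.R.W ≃* (CoxeterMatrix.E₈).Group, ∀ i, e (certE8.R.s i) = (CoxeterMatrix.E₈).simple i :=
  cartE8OK.coxeter (CoxeterMatrix.E₈) (by decide +kernel)

def orbpoinE8_0_0 : List (ℤ × List ℤ) :=
  [(0, [0, 0, 0, 0, 0, 0, 0, 1]), (1, [0, 0, 0, 0, 0, 0, 1, -1]), (2, [0, 0, 0, 0, 0, 1, -1, 0]), (3, [0, 0, 0, 0, 1, -1, 0, 0]), (4, [0, 0, 0, 1, -1, 0, 0, 0]), (5, [0, 1, 1, -1, 0, 0, 0, 0]), (6, [0, -1, 1, 0, 0, 0, 0, 0]), (6, [1, 1, -1, 0, 0, 0, 0, 0]), (7, [1, -1, -1, 1, 0, 0, 0, 0]), (7, [-1, 1, 0, 0, 0, 0, 0, 0]), (8, [-1, -1, 0, 1, 0, 0, 0, 0]), (8, [1, 0, 0, -1, 1, 0, 0, 0]), (9, [-1, 0, 1, -1, 1, 0, 0, 0]), (9, [1, 0, 0, 0, -1, 1, 0, 0]), (10, [0, 0, -1, 0,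 1, 0, 0, 0]), (10, [-1, 0, 1, 0, -1, 1, 0, 0]), (10, [1, 0, 0, 0, 0, -1, 1, 0]), (11, [0, 0, -1, 1, -1, 1, 0, 0]), (11, [-1, 0, 1, 0, 0, -1, 1, 0]), (11, [1, 0, 0, 0, 0, 0, -1, 1]), (12, [0, 1, 0, -1, 0, 1, 0, 0]), (12, [0, 0, -1, 1, 0, -1, 1, 0]), (12, [-1, 0, 1, 0, 0, 0, -1, 1]), (12, [1, 0, 0, 0, 0, 0, 0, -1]), (13, [0, -1, 0, 0, 0, 1, 0, 0]), (13, [0, 1, 0, -1, 1, -1, 1, 0]), (13, [0, 0, -1, 1, 0, 0, -1, 1]), (13, [-1, 0, 1, 0, 0, 0, 0, -1]), (14, [0, -1, 0, 0, 1, -1, 1, 0]), (14, [0, 1, 0, 0, -1, 0, 1, 0])]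

def orbpoinE8_0_1 : List (ℤ × List ℤ) :=
  [(14, [0, 1, 0, -1, 1, 0, -1, 1]), (14, [0, 0, -1, 1, 0, 0, 0, -1]), (15, [0, -1, 0, 1, -1, 0, 1, 0]), (15, [0, -1, 0, 0, 1, 0, -1, 1]), (15, [0, 1, 0, 0, -1, 1, -1, 1]), (15, [0, 1, 0, -1, 1, 0, 0, -1]), (16, [0, 0, 1, -1, 0, 0, 1, 0]), (16, [0, -1, 0, 1, -1, 1, -1, 1]), (16, [0, -1, 0, 0, 1, 0, 0, -1]), (16, [0, 1, 0, 0, 0, -1, 0, 1]), (16, [0, 1, 0, 0, -1, 1, 0, -1]), (17, [1, 0, -1, 0, 0, 0, 1, 0]), (17, [0, 0, 1, -1, 0, 1, -1, 1]), (17, [0, -1, 0, 1, 0, -1, 0, 1]), (17, [0, -1, 0, 1, -1, 1, 0, -1]), (17, [0, 1, 0, 0, 0, -1, 1, -1]), (18, [-1, 0, 0, 0, 0, 0, 1, 0]), (18, [1, 0, -1, 0, 0, 1, -1, 1]), (18, [0, 0, 1, -1, 1, -1, 0, 1]), (18, [0, 0, 1, -1, 0, 1, 0, -1]), (18, [0, -1, 0, 1, 0, -1, 1, -1]), (18, [0, 1,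 0, 0, 0, 0, -1, 0]), (19, [-1, 0, 0, 0, 0, 1, -1, 1]), (19, [1, 0, -1, 0, 1, -1, 0, 1]), (19, [1, 0, -1, 0, 0, 1, 0, -1]), (19, [0, 0, 1, 0, -1, 0, 0, 1]), (19, [0, 0, 1, -1, 1, -1, 1, -1]), (19, [0, -1, 0, 1, 0, 0, -1, 0]), (20, [-1, 0, 0, 0, 1, -1, 0, 1]), (20, [-1, 0, 0, 0, 0, 1, 0, -1])]

def orbpoinE8_0_2 : List (ℤ × List ℤ) :=
  [(20, [1, 0, -1, 1, -1, 0, 0, 1]), (20, [1, 0, -1, 0, 1, -1, 1, -1]), (20, [0, 0, 1, 0, -1, 0, 1, -1]), (20, [0, 0, 1, -1, 1, 0, -1, 0]), (21, [-1, 0, 0, 1, -1, 0, 0, 1]), (21, [-1, 0, 0, 0, 1, -1, 1, -1]), (21, [1, 1, 0, -1, 0, 0, 0, 1]), (21, [1, 0, -1, 1, -1, 0, 1, -1]), (21, [1, 0, -1, 0, 1, 0, -1, 0]), (21, [0, 0, 1, 0, -1, 1, -1, 0]), (22, [-1, 1, 1, -1, 0, 0, 0, 1]), (22, [-1, 0, 0, 1, -1, 0, 1, -1]), (22, [-1, 0, 0, 0, 1,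 0, -1, 0]), (22, [1, -1, 0, 0, 0, 0, 0, 1]), (22, [1, 1, 0, -1, 0, 0, 1, -1]), (22, [1, 0, -1, 1, -1, 1, -1, 0]), (22, [0, 0, 1, 0, 0, -1, 0, 0]), (23, [-1, -1, 1, 0, 0, 0, 0, 1]), (23, [0, 1, -1, 0, 0, 0, 0, 1]), (23, [-1, 1, 1, -1, 0, 0, 1, -1]), (23, [-1, 0, 0, 1, -1, 1, -1, 0]), (23, [1, -1, 0, 0, 0, 0, 1, -1]), (23, [1, 1, 0, -1, 0, 1, -1, 0]), (23, [1, 0, -1, 1, 0, -1, 0, 0]), (24, [0, -1, -1, 1, 0, 0, 0, 1]), (24, [-1, -1, 1, 0, 0, 0, 1, -1]), (24, [0, 1, -1, 0, 0, 0, 1, -1]), (24, [-1, 1, 1, -1, 0, 1, -1, 0]), (24, [-1, 0, 0, 1, 0, -1, 0, 0]), (24, [1, -1, 0, 0, 0, 1, -1, 0])]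

def orbpoinE8_0_3 : List (ℤ × List ℤ) :=
  [(24, [1, 1, 0, -1, 1, -1, 0, 0]), (25, [0, 0, 0, -1, 1, 0, 0, 1]), (25, [0, -1, -1, 1, 0, 0, 1, -1]), (25, [-1, -1, 1, 0, 0, 1, -1, 0]), (25, [0, 1, -1, 0, 0, 1, -1, 0]), (25, [-1, 1, 1, -1, 1, -1, 0, 0]), (25, [1, -1, 0, 0, 1, -1, 0, 0]), (25, [1, 1, 0, 0, -1, 0, 0, 0]), (26, [0, 0, 0, 0, -1, 1, 0, 1]), (26, [0, 0, 0, -1, 1, 0, 1, -1]), (26, [0, -1, -1, 1, 0, 1, -1, 0]), (26, [-1, -1, 1, 0, 1, -1, 0, 0]), (26, [0, 1, -1, 0, 1, -1, 0, 0]), (26, [-1, 1, 1, 0, -1, 0, 0, 0]), (26, [1, -1, 0, 1, -1, 0, 0, 0]), (27, [0, 0, 0, 0, 0, -1, 1, 1]), (27, [0, 0, 0, 0, -1, 1, 1, -1]), (27, [0, 0, 0, -1, 1, 1, -1, 0]), (27, [0, -1, -1, 1, 1, -1, 0, 0]), (27, [-1, -1, 1, 1, -1, 0, 0, 0]), (27, [0, 1, -1, 1, -1, 0, 0, 0]), (27, [1,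 0, 1, -1, 0, 0, 0, 0]), (28, [0, 0, 0, 0, 0, 0, -1, 2]), (28, [0, 0, 0, 0, 0, -1, 2, -1]), (28, [0, 0, 0, 0, -1, 2, -1, 0]), (28, [0, 0, 0, -1, 2, -1, 0, 0]), (28, [0, -1, -1, 2, -1, 0, 0, 0]), (28, [-1, 0, 2, -1, 0, 0, 0, 0]), (28, [0, 2, 0, -1, 0, 0, 0, 0]), (28, [2, 0, -1, 0, 0, 0, 0, 0])]

def orbpoinE8_0_4 : List (ℤ × List ℤ) :=
  [(29, [0, 0, 0, 0, 0, 0, 1, -2]), (29, [0, 0, 0, 0, 0, 1, -2, 1]), (29, [0, 0, 0, 0, 1, -2, 1, 0]), (29, [0, 0, 0, 1, -2, 1, 0, 0]), (29, [0, 1, 1, -2, 1, 0, 0, 0]), (29, [1, 0, -2, 1, 0, 0, 0, 0]), (29, [0, -2, 0, 1, 0, 0, 0, 0]), (29, [-2, 0, 1, 0, 0, 0, 0, 0]), (30, [0, 0, 0, 0, 0, 1, -1, -1]), (30, [0, 0, 0, 0, 1, -1, -1, 1]), (30, [0, 0, 0, 1, -1, -1, 1, 0]), (30, [0, 1, 1, -1, -1, 1, 0, 0]), (30, [0, -1, 1, -1, 1, 0, 0, 0]),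 (30, [1, 1, -1, -1, 1, 0, 0, 0]), (30, [-1, 0, -1, 1, 0, 0, 0, 0]), (31, [0, 0, 0, 0, 1, -1, 0, -1]), (31, [0, 0, 0, 1, -1, 0, -1, 1]), (31, [0, 1, 1, -1, 0, -1, 1, 0]), (31, [0, -1, 1, 0, -1, 1, 0, 0]), (31, [1, 1, -1, 0, -1, 1, 0, 0]), (31, [1, -1, -1, 0, 1, 0, 0, 0]), (31, [-1, 1, 0, -1, 1, 0, 0, 0]), (32, [0, 0, 0, 1, -1, 0, 0, -1]), (32, [0, 1, 1, -1, 0, 0, -1, 1]), (32, [0, -1, 1, 0, 0, -1, 1, 0]), (32, [1, 1, -1, 0, 0, -1, 1, 0]), (32, [1, -1, -1, 1, -1, 1, 0, 0]), (32, [-1, 1, 0, 0, -1, 1, 0, 0]), (32, [-1, -1, 0, 0, 1, 0, 0, 0]), (33, [0, 1, 1, -1, 0, 0, 0, -1])]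

def orbpoinE8_0_5 : List (ℤ × List ℤ) :=
  [(33, [0, -1, 1, 0, 0, 0, -1, 1]), (33, [1, 1, -1, 0, 0, 0, -1, 1]), (33, [1, -1, -1, 1, 0, -1, 1, 0]), (33, [-1, 1, 0, 0, 0, -1, 1, 0]), (33, [-1, -1, 0, 1, -1, 1, 0, 0]), (33, [1, 0, 0, -1, 0, 1, 0, 0]), (34, [0, -1, 1, 0, 0, 0, 0, -1]), (34, [1, 1, -1, 0, 0, 0, 0, -1]), (34, [1, -1, -1, 1, 0, 0, -1, 1]), (34, [-1, 1, 0, 0, 0, 0, -1, 1]), (34, [-1, -1, 0, 1, 0, -1, 1, 0]), (34, [1, 0, 0, -1, 1, -1, 1, 0]), (34, [-1, 0, 1, -1, 0, 1, 0, 0]), (35, [1, -1, -1, 1, 0, 0, 0, -1]), (35, [-1, 1, 0, 0, 0, 0, 0, -1]), (35, [-1, -1, 0, 1, 0, 0, -1, 1]), (35, [1, 0, 0, -1, 1, 0, -1, 1]), (35, [-1, 0, 1, -1, 1, -1, 1, 0]), (35, [1, 0, 0, 0, -1, 0, 1, 0]), (35, [0, 0, -1, 0, 0, 1, 0, 0]), (36, [-1, -1, 0, 1, 0, 0, 0, -1]), (36,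 [1, 0, 0, -1, 1, 0, 0, -1]), (36, [-1, 0, 1, -1, 1, 0, -1, 1]), (36, [1, 0, 0, 0, -1, 1, -1, 1]), (36, [0, 0, -1, 0, 1, -1, 1, 0]), (36, [-1, 0, 1, 0, -1, 0, 1, 0]), (37, [-1, 0, 1, -1, 1, 0, 0, -1]), (37, [1, 0, 0, 0, -1, 1, 0, -1]), (37, [0, 0, -1, 0, 1, 0, -1, 1]), (37, [-1, 0, 1, 0, -1, 1, -1, 1])]

def orbpoinE8_0_6 : List (ℤ × List ℤ) :=
  [(37, [1, 0, 0, 0, 0, -1, 0, 1]), (37, [0, 0, -1, 1, -1, 0, 1, 0]), (38, [0, 0, -1, 0, 1, 0, 0, -1]), (38, [-1, 0, 1, 0, -1, 1, 0, -1]), (38, [1, 0, 0, 0, 0, -1, 1, -1]), (38, [0, 0, -1, 1, -1, 1, -1, 1]), (38, [-1, 0, 1, 0, 0, -1, 0, 1]), (38, [0, 1, 0, -1, 0, 0, 1, 0]), (39, [0, 0, -1, 1, -1, 1, 0, -1]), (39, [-1, 0, 1, 0, 0, -1, 1, -1]), (39, [1, 0, 0, 0, 0, 0, -1, 0]), (39, [0, 1, 0, -1, 0, 1, -1, 1]), (39, [0, 0,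 -1, 1, 0, -1, 0, 1]), (39, [0, -1, 0, 0, 0, 0, 1, 0]), (40, [0, 1, 0, -1, 0, 1, 0, -1]), (40, [0, 0, -1, 1, 0, -1, 1, -1]), (40, [-1, 0, 1, 0, 0, 0, -1, 0]), (40, [0, -1, 0, 0, 0, 1, -1, 1]), (40, [0, 1, 0, -1, 1, -1, 0, 1]), (41, [0, -1, 0, 0, 0, 1, 0, -1]), (41, [0, 1, 0, -1, 1, -1, 1, -1]), (41, [0, 0, -1, 1, 0, 0, -1, 0]), (41, [0, -1, 0, 0, 1, -1, 0, 1]), (41, [0, 1, 0, 0, -1, 0, 0, 1]), (42, [0, -1, 0, 0, 1, -1, 1, -1]), (42, [0, 1, 0, 0, -1, 0, 1, -1]), (42, [0, 1, 0, -1, 1, 0, -1, 0]), (42, [0, -1, 0, 1, -1, 0, 0, 1]), (43, [0, -1, 0, 1, -1, 0, 1, -1]), (43, [0, -1, 0, 0, 1, 0, -1, 0])]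

def orbpoinE8_0_7 : List (ℤ × List ℤ) :=
  [(43, [0, 1, 0, 0, -1, 1, -1, 0]), (43, [0, 0, 1, -1, 0, 0, 0, 1]), (44, [0, 0, 1, -1, 0, 0, 1, -1]), (44, [0, -1, 0, 1, -1, 1, -1, 0]), (44, [0, 1, 0, 0, 0, -1, 0, 0]), (44, [1, 0, -1, 0, 0, 0, 0, 1]), (45, [1, 0, -1, 0, 0, 0, 1, -1]), (45, [0, 0, 1, -1, 0, 1, -1, 0]), (45, [0, -1, 0, 1, 0, -1, 0, 0]), (45, [-1, 0, 0, 0, 0, 0, 0, 1]), (46, [-1, 0, 0, 0, 0, 0, 1, -1]), (46, [1, 0, -1, 0, 0, 1, -1, 0]), (46, [0, 0, 1, -1, 1, -1, 0, 0]), (47, [-1, 0, 0, 0, 0, 1, -1, 0]), (47, [1, 0, -1, 0, 1, -1, 0, 0]), (47, [0, 0, 1, 0, -1, 0, 0, 0]), (48, [-1, 0, 0, 0, 1, -1, 0, 0]), (48, [1, 0, -1, 1, -1, 0, 0, 0]), (49, [-1, 0, 0, 1, -1, 0, 0, 0]), (49, [1, 1, 0, -1, 0, 0, 0, 0]), (50, [-1, 1, 1, -1, 0, 0, 0, 0]), (50, [1, -1, 0,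 0, 0, 0, 0, 0]), (51, [-1, -1, 1, 0, 0, 0, 0, 0]), (51, [0, 1, -1, 0, 0, 0, 0, 0]), (52, [0, -1, -1, 1, 0, 0, 0, 0]), (53, [0, 0, 0, -1, 1, 0, 0, 0]), (54, [0, 0, 0, 0, -1, 1, 0, 0]), (55, [0, 0, 0, 0, 0, -1, 1, 0]), (56, [0, 0, 0, 0, 0, 0, -1, 1]), (57, [0, 0, 0, 0, 0, 0, 0, -1])]

def orbpoinE8_0 : List (ℤ × List ℤ) :=
  orbpoinE8_0_0 ++ (orbpoinE8_0_1 ++ (orbpoinE8_0_2 ++ (orbpoinE8_0_3 ++ (orbpoinE8_0_4 ++ (orbpoinE8_0_5 ++ (orbpoinE8_0_6 ++ (orbpoinE8_0_7)))))))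

def orbpoinE8_1_0 : List (ℤ × List ℤ) :=
  [(0, [0, 0, 0, 0, 0, 0, 1, 0]), (1, [0, 0, 0, 0, 0, 1, -1, 1]), (2, [0, 0, 0, 0, 1, -1, 0, 1]), (3, [0, 0, 0, 1, -1, 0, 0, 1]), (4, [0, 1, 1, -1, 0, 0, 0, 1]), (5, [0, -1, 1, 0, 0, 0, 0, 1]), (5, [1, 1, -1, 0, 0, 0, 0, 1]), (6, [1, -1, -1, 1, 0, 0, 0, 1]), (6, [-1, 1, 0, 0, 0, 0, 0, 1]), (7, [-1, -1, 0, 1, 0, 0, 0, 1]), (7, [1, 0, 0, -1, 1, 0, 0, 1]), (8, [-1, 0, 1, -1, 1, 0, 0, 1]), (8, [1, 0, 0, 0, -1, 1, 0, 1]), (9, [0, 0, -1, 0, 1, 0, 0, 1]), (9, [-1, 0, 1, 0, -1, 1, 0, 1]), (9, [1, 0, 0, 0, 0, -1, 1, 1]), (10, [0, 0, -1, 1, -1, 1, 0, 1]), (10, [-1, 0, 1, 0, 0, -1, 1, 1]), (10, [1, 0, 0, 0, 0, 0, -1, 2]), (11, [0, 1, 0, -1, 0, 1, 0, 1]), (11, [0, 0, -1, 1, 0, -1, 1, 1]), (11, [-1, 0, 1, 0, 0, 0, -1, 2]), (12, [0,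 -1, 0, 0, 0, 1, 0, 1]), (12, [0, 1, 0, -1, 1, -1, 1, 1]), (12, [0, 0, -1, 1, 0, 0, -1, 2]), (13, [0, -1, 0, 0, 1, -1, 1, 1]), (13, [0, 1, 0, 0, -1, 0, 1, 1]), (13, [0, 1, 0, -1, 1, 0, -1, 2]), (14, [0, -1, 0, 1, -1, 0, 1, 1]), (14, [0, -1, 0, 0, 1, 0, -1, 2])]

def orbpoinE8_1_1 : List (ℤ × List ℤ) :=
  [(14, [0, 1, 0, 0, -1, 1, -1, 2]), (15, [0, 0, 1, -1, 0, 0, 1, 1]), (15, [0, -1, 0, 1, -1, 1, -1, 2]), (15, [0, 1, 0, 0, 0, -1, 0, 2]), (16, [1, 0, -1, 0, 0, 0, 1, 1]), (16, [0, 0, 1, -1, 0, 1, -1, 2]), (16, [0, -1, 0, 1, 0, -1, 0, 2]), (17, [-1, 0, 0, 0, 0, 0, 1, 1]), (17, [1, 0, -1, 0, 0, 1, -1, 2]), (17, [0, 0, 1, -1, 1, -1, 0, 2]), (18, [-1, 0, 0, 0, 0, 1, -1, 2]), (18, [1, 0, -1, 0, 1, -1, 0, 2]), (18, [0, 0, 1, 0, -1, 0, 0, 2]), (19, [-1, 0, 0, 0, 1, -1,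 0, 2]), (19, [1, 0, -1, 1, -1, 0, 0, 2]), (20, [-1, 0, 0, 1, -1, 0, 0, 2]), (20, [1, 1, 0, -1, 0, 0, 0, 2]), (21, [-1, 1, 1, -1, 0, 0, 0, 2]), (21, [1, -1, 0, 0, 0, 0, 0, 2]), (22, [-1, -1, 1, 0, 0, 0, 0, 2]), (22, [0, 1, -1, 0, 0, 0, 0, 2]), (23, [0, -1, -1, 1, 0, 0, 0, 2]), (24, [0, 0, 0, -1, 1, 0, 0, 2]), (25, [0, 0, 0, 0, -1, 1, 0, 2]), (26, [0, 0, 0, 0, 0, -1, 1, 2]), (27, [0, 0, 0, 0, 0, 0, -1, 3])]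

def orbpoinE8_1 : List (ℤ × List ℤ) :=
  orbpoinE8_1_0 ++ (orbpoinE8_1_1)

def orbpoinE8_2 : List (ℤ × List ℤ) :=
  [(0, [0, 0, 0, 0, 0, 1, 0, 0]), (1, [0, 0, 0, 0, 1, -1, 1, 0]), (2, [0, 0, 0, 1, -1, 0, 1, 0]), (3, [0, 1, 1, -1, 0, 0, 1, 0]), (4, [0, -1, 1, 0, 0, 0, 1, 0]), (4, [1, 1, -1, 0, 0, 0, 1, 0]), (5, [1, -1, -1, 1, 0, 0, 1, 0]), (5, [-1, 1, 0, 0, 0, 0, 1, 0]), (6, [-1, -1, 0, 1, 0, 0, 1, 0]), (6, [1, 0, 0, -1, 1, 0, 1, 0]), (7, [-1, 0, 1, -1, 1, 0, 1, 0]), (7, [1, 0, 0, 0, -1, 1, 1, 0]), (8, [0, 0, -1, 0, 1, 0, 1, 0]), (8, [-1, 0, 1, 0, -1, 1, 1, 0]), (8, [1, 0, 0, 0, 0, -1, 2, 0]), (9, [0, 0, -1, 1, -1, 1, 1, 0]), (9, [-1, 0, 1, 0, 0, -1, 2, 0]), (10, [0, 1, 0, -1, 0, 1, 1, 0]), (10, [0, 0, -1, 1, 0, -1, 2, 0]), (11, [0, -1, 0, 0, 0, 1, 1, 0]), (11,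 [0, 1, 0, -1, 1, -1, 2, 0]), (12, [0, -1, 0, 0, 1, -1, 2, 0]), (12, [0, 1, 0, 0, -1, 0, 2, 0]), (13, [0, -1, 0, 1, -1, 0, 2, 0]), (14, [0, 0, 1, -1, 0, 0, 2, 0]), (15, [1, 0, -1, 0, 0, 0, 2, 0]), (16, [-1, 0, 0, 0, 0, 0, 2, 0])]

def orbpoinE8_3 : List (ℤ × List ℤ) :=
  [(0, [0, 1, 0, 0, 0, 0, 0, 0]), (1, [0, -1, 0, 1, 0, 0, 0, 0]), (2, [0, 0, 1, -1, 1, 0, 0, 0]), (3, [1, 0, -1, 0, 1, 0, 0, 0]), (3, [0, 0, 1, 0, -1, 1, 0, 0]), (4, [-1, 0, 0, 0, 1, 0, 0, 0]), (4, [1, 0, -1, 1, -1, 1, 0, 0]), (5, [-1, 0, 0, 1, -1, 1, 0, 0]), (5, [1, 1, 0, -1, 0, 1, 0, 0]), (6, [-1, 1, 1, -1, 0, 1, 0, 0]), (6, [1, -1, 0, 0, 0, 1, 0, 0]), (7, [-1, -1, 1, 0, 0, 1, 0, 0]), (7, [0, 1, -1, 0, 0, 1, 0, 0]), (8, [0, -1, -1, 1, 0, 1, 0, 0]), (9, [0, 0, 0, -1, 1, 1, 0, 0]), (10, [0, 0, 0,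 0, -1, 2, 0, 0])]

def orbpoinE8_4 : List (ℤ × List ℤ) :=
  [(0, [1, 0, 0, 0, 0, 0, 0, 0]), (1, [-1, 0, 1, 0, 0, 0, 0, 0]), (2, [0, 0, -1, 1, 0, 0, 0, 0]), (3, [0, 1, 0, -1, 1, 0, 0, 0]), (4, [0, 1, 0, 0, -1, 1, 0, 0])]

def orbpoinE8_5 : List (ℤ × List ℤ) :=
  [(0, [0, 0, 1, 0, 0, 0, 0, 0]), (1, [1, 0, -1, 1, 0, 0, 0, 0]), (2, [1, 1, 0, -1, 1, 0, 0, 0]), (3, [1, 1, 0, 0, -1, 1, 0, 0])]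

def orbpoinE8_6 : List (ℤ × List ℤ) :=
  [(0, [0, 0, 0, 1, 0, 0, 0, 0]), (1, [0, 1, 1, -1, 1, 0, 0, 0]), (2, [0, 1, 1, 0, -1, 1, 0, 0])]

def orbpoinE8_7 : List (ℤ × List ℤ) :=
  [(0, [0, 0, 0, 0, 1, 0, 0, 0]), (1, [0, 0, 0, 1, -1, 1, 0, 0])]

theorem poinE8 {M : Type*} [CommSemiring M] (x : M) : certE8.R.poin (Sym.triv certE8.R).W1 x =
    poly [1, 1, 1, 1, 1, 1, 2, 2, 2, 2, 3, 3, 4, 4, 4, 4, 5, 5, 6, 6, 6, 6, 7, 7, 7, 7, 7, 7, 8, 8, 7, 7, 7, 7, 7, 7, 6, 6, 6, 6, 5, 5, 4, 4, 4, 4, 3, 3, 2, 2, 2, 2, 1, 1, 1, 1, 1, 1] x * (poly [1, 1, 1, 1, 1, 2, 2, 2, 2, 3, 3, 3, 3, 3, 3, 3, 3, 3, 3, 2, 2, 2, 2, 1, 1, 1, 1, 1] x * (poly [1, 1, 1, 1, 2, 2, 2, 2, 3, 2, 2, 2, 2, 1, 1, 1, 1] x * (poly [1, 1, 1, 2, 2, 2, 2, 2, 1, 1, 1] x * (poly [1, 1, 1, 1, 1] x * (poly [1, 1, 1,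 1] x * (poly [1, 1, 1] x * (poly [1, 1] x))))))) := by
  rw [(Sym.triv certE8.R).poin_top (ks := [⟨0, by decide⟩, ⟨1, by decide⟩, ⟨2, by decide⟩, ⟨3, by decide⟩, ⟨4, by decide⟩, ⟨5, by decide⟩, ⟨6, by decide⟩, ⟨7, by decide⟩]) (by decide +kernel),
    (Sym.triv certE8.R).stage cartE8OK [⟨0, by decide⟩, ⟨1, by decide⟩, ⟨2, by decide⟩, ⟨3, by decide⟩, ⟨4, by decide⟩, ⟨5, by decide⟩, ⟨6, by decide⟩, ⟨7, by decide⟩] [⟨0, by decide⟩, ⟨1, by decide⟩, ⟨2, by decide⟩, ⟨3, by decide⟩, ⟨4, by decide⟩, ⟨5, by decide⟩, ⟨6, by decide⟩] [0, 0, 0, 0, 0, 0, 0, 1] orbpoinE8_0 [1, 1, 1, 1, 1, 1, 2, 2, 2, 2, 3, 3, 4, 4, 4, 4, 5, 5, 6, 6, 6, 6, 7, 7, 7, 7, 7, 7, 8, 8, 7, 7, 7, 7, 7, 7, 6, 6, 6, 6, 5, 5, 4, 4, 4, 4, 3, 3, 2, 2, 2, 2, 1, 1, 1, 1, 1, 1]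
      (by decide +kernel) (by decide +kernel),
    (Sym.triv certE8.R).stage cartE8OK [⟨0, by decide⟩, ⟨1, by decide⟩, ⟨2, by decide⟩, ⟨3, by decide⟩, ⟨4, by decide⟩, ⟨5, by decide⟩, ⟨6, by decide⟩] [⟨0, by decide⟩, ⟨1, by decide⟩, ⟨2, by decide⟩, ⟨3, by decide⟩, ⟨4, by decide⟩, ⟨5, by decide⟩] [0, 0, 0, 0, 0, 0, 1, 0] orbpoinE8_1 [1, 1, 1, 1, 1, 2, 2, 2, 2, 3, 3, 3, 3, 3, 3, 3, 3, 3, 3, 2, 2, 2, 2, 1, 1, 1, 1, 1]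
      (by decide +kernel) (by decide +kernel),
    (Sym.triv certE8.R).stage cartE8OK [⟨0, by decide⟩, ⟨1, by decide⟩, ⟨2, by decide⟩, ⟨3, by decide⟩, ⟨4, by decide⟩, ⟨5, by decide⟩] [⟨0, by decide⟩, ⟨1, by decide⟩, ⟨2, by decide⟩, ⟨3, by decide⟩, ⟨4, by decide⟩] [0, 0, 0, 0, 0, 1, 0, 0] orbpoinE8_2 [1, 1, 1, 1, 2, 2, 2, 2, 3, 2, 2, 2, 2, 1, 1, 1, 1]
      (by decide +kernel) (by decide +kernel),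
    (Sym.triv certE8.R).stage cartE8OK [⟨0, by decide⟩, ⟨1, by decide⟩, ⟨2, by decide⟩, ⟨3, by decide⟩, ⟨4, by decide⟩] [⟨0, by decide⟩, ⟨2, by decide⟩, ⟨3, by decide⟩, ⟨4, by decide⟩] [0, 1, 0, 0, 0, 0, 0, 0] orbpoinE8_3 [1, 1, 1, 2, 2, 2, 2, 2, 1, 1, 1]
      (by decide +kernel) (by decide +kernel),
    (Sym.triv certE8.R).stage cartE8OK [⟨0, by decide⟩, ⟨2, by decide⟩, ⟨3, by decide⟩, ⟨4, by decide⟩] [⟨2, by decide⟩, ⟨3, by decide⟩, ⟨4, by decide⟩] [1, 0, 0, 0, 0, 0, 0, 0] orbpoinE8_4 [1, 1, 1, 1, 1]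
      (by decide +kernel) (by decide +kernel),
    (Sym.triv certE8.R).stage cartE8OK [⟨2, by decide⟩, ⟨3, by decide⟩, ⟨4, by decide⟩] [⟨3, by decide⟩, ⟨4, by decide⟩] [0, 0, 1, 0, 0, 0, 0, 0] orbpoinE8_5 [1, 1, 1, 1]
      (by decide +kernel) (by decide +kernel),
    (Sym.triv certE8.R).stage cartE8OK [⟨3, by decide⟩, ⟨4, by decide⟩] [⟨4, by decide⟩] [0, 0, 0, 1, 0, 0, 0, 0] orbpoinE8_6 [1, 1, 1]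
      (by decide +kernel) (by decide +kernel),
    (Sym.triv certE8.R).stage cartE8OK [⟨4, by decide⟩] [] [0, 0, 0, 0, 1, 0, 0, 0] orbpoinE8_7 [1, 1]
      (by decide +kernel) (by decide +kernel),
    (Sym.triv certE8.R).poin_nil, mul_one]

end H6.Chev
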