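import Cfsg.Agent.H6.InvChk

/-! The classes of involutions of `E7` in characteristic two. -/

namespace H6.Chev
open Cfsg.Lie

/-- representatives -/
def repsE7 : List (List ℕ × List ℤ × List ℤ) :=
  [([], [0, 0, 0, 0, 0, 0, 0], [1, 1, 1, 1, 1, 1, 1]), ([125], [1, 0, 0, 0, 0, 0, 0], [1, 1, 1, 1, 1, 1, 1]), ([118, 121], [0, 0, 0, 0, 0, 1, 0], [1, 1, 1, 1, 1, 1, 1]), ([92, 107, 111], [0, 0, 0, 0, 0, 0, 2], [1, 1, 1, 1, 1, 1, 1]), ([114, 116, 119], [0, 0, 1, 0, 0, 0, 0], [1, 1, 1, 1, 1, 1, 1]), ([92, 107, 111, 119], [0, 1, 0, 0, 0, 0, 1], [1, 1, 1, 1, 1, 1, 3])]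

/-- conjugations -/
def tblE7 : List (List ℕ × List Stp) :=
  [([], []),
   ([125], []),
   ([92, 125], [.w [1, 3, 2, 0, 0, 2, 3, 4, 1, 3, 2, 0]]),
   ([63, 92, 125], [.w [0, 2, 3, 1, 4, 3, 2, 0, 2, 3, 4, 5, 5, 4, 3, 2, 1, 3, 4, 5, 0, 2, 3, 4, 5, 1, 3, 4, 2, 3, 0, 2, 1, 3, 4, 5]]),
   ([87, 92, 125], [.w [3, 1, 4, 3, 2, 0, 4, 5, 5, 6, 4, 5, 0, 2, 3, 4, 5, 6, 1, 3, 4, 5, 2, 0]]),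
   ([63, 92, 125, 87], [.w [0, 2, 3, 1, 4, 3, 2, 0, 2, 3, 4, 5, 5, 4, 3, 2, 1, 3, 4, 5, 0, 2, 3, 4, 5, 1, 3, 4, 2, 3, 0, 2, 1, 3, 4, 5]]),
   ([66, 87, 125, 92], [.w [0, 2, 3, 1, 4, 3, 2, 0, 2, 3, 4, 5, 5, 4, 3, 2, 1, 3, 4, 5, 0, 2, 3, 4, 5, 6, 1, 3, 4, 5, 2, 3, 0, 2, 1, 3]]),
   ([87, 92, 125, 73], [.w [0, 2, 5, 4, 3, 1, 6, 5, 4, 3, 2, 0, 5, 4, 6, 5, 5, 6, 4, 5, 0, 2, 3, 4, 5, 6, 1, 3, 4, 5, 2, 0], .f, .w [3, 1, 4, 3, 2, 0, 4, 5, 5, 6, 4, 5, 0, 2, 3, 4, 5, 6, 1, 3, 4, 5, 2, 0]]),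
   ([78, 87, 92, 125], [.w [0, 2, 3, 1, 4, 3, 2, 0, 2, 3, 4, 5, 5, 6, 4, 5, 3, 2, 1, 3, 0, 2, 3, 4, 5, 6, 1, 3, 4, 5, 2, 3, 4, 0, 2, 3]]),
   ([66, 87, 92, 63, 125], [.w [0, 2, 5, 4, 3, 1, 6, 5, 4, 3, 2, 0, 5, 4, 6, 5, 5, 4, 3, 2, 1, 3, 4, 5, 0, 2, 3, 4, 5, 6, 1, 3, 4, 5, 2, 3, 0, 2, 1, 3], .f, .p [87, 92, 78, 125], .w [0, 2, 3, 1, 4, 3, 2, 0, 2, 3, 4, 5, 5, 6, 4, 5, 0, 2, 3, 4, 5, 6, 1, 3, 4, 5, 2, 0]]),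
   ([87, 92, 125, 73, 63], [.w [0, 2, 5, 4, 3, 1, 6, 5, 4, 3, 2, 0, 5, 4, 6, 5, 5, 6, 4, 5, 0, 2, 3, 4, 5, 6, 1, 3, 4, 5, 2, 0], .f, .p [92, 125, 63, 87], .w [0, 2, 3, 1, 4, 3, 2, 0, 2, 3, 4, 5, 0, 2, 3, 4, 1, 3, 2, 0]]),
   ([78, 87, 125, 63, 92], [.w [0, 2, 5, 4, 3, 1, 6, 5, 4, 3, 2, 0, 5, 4, 6, 5, 5, 6, 4, 5, 3, 2, 1, 3, 0, 2, 3, 4, 5, 6, 1, 3, 4, 5, 2, 3, 4, 0, 2, 3], .f, .p [87, 92, 78, 125], .w [0, 2, 3, 1, 4, 3, 2, 0, 2, 3, 4, 5, 5, 6, 4, 5, 0, 2, 3, 4, 5, 6, 1, 3, 4, 5, 2, 0]]),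
   ([87, 92, 125, 73, 66], [.w [0, 2, 5, 4, 3, 1, 6, 5, 4, 3, 2, 0, 5, 4, 6, 5, 5, 6, 4, 5, 0, 2, 3, 4, 5, 6, 1, 3, 4, 5, 2, 0], .f, .p [87, 125, 66, 92], .w [0, 2, 3, 1, 4, 3, 2, 0, 2, 3, 4, 5, 0, 2, 3, 4, 5, 6, 1, 3, 4, 5, 2, 0]]),
   ([78, 92, 125, 66, 87], [.w [0, 2, 5, 4, 3, 1, 6, 5, 4, 3, 2, 0, 5, 4, 6, 5, 5, 6, 4, 5, 0, 2, 3, 4, 5, 6, 1, 3, 4, 5, 2, 3, 4, 0, 2, 3], .f, .p [87, 92, 78, 125], .w [0, 2, 3, 1, 4, 3, 2, 0, 2, 3, 4, 5, 5, 6, 4, 5, 0, 2, 3, 4, 5, 6, 1, 3, 4, 5, 2, 0]]),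
   ([87, 92, 125, 73, 78], [.w [0, 2, 5, 4, 3, 1, 6, 5, 4, 3, 2, 0, 5, 4, 6, 5, 5, 6, 4, 5, 0, 2, 3, 4, 5, 6, 1, 3, 4, 5, 2, 0], .f, .p [87, 92, 78, 125], .w [0, 2, 3, 1, 4, 3, 2, 0, 2, 3, 4, 5, 5, 6, 4, 5, 0, 2, 3, 4, 5, 6, 1, 3, 4, 5, 2, 0]]),
   ([66, 73, 125, 63, 87, 92], [.w [0, 2, 5, 4, 3, 1, 6, 5, 4, 3, 2, 0, 5, 4, 6, 5, 5, 6, 4, 5, 3, 2, 1, 3, 0, 2, 3, 4, 5, 6, 1, 3, 4, 5, 2, 3, 0, 2, 1, 3], .f, .p [125, 66, 78, 92, 87], .w [0, 2, 5, 4, 3, 1, 6, 5, 4, 3, 2, 0, 5, 4, 6, 5, 3, 4, 1, 3, 5, 6, 4, 5, 3, 2, 1, 3], .f, .p [87, 92, 78, 125], .w [0, 2, 3, 1, 4, 3, 2, 0, 2, 3, 4, 5, 5, 6, 4, 5, 0, 2, 3, 4, 5, 6, 1, 3, 4, 5, 2, 0]]),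
   ([66, 87, 92, 63, 78, 125], [.w [0, 2, 5, 4, 3, 1, 6, 5, 4, 3, 2, 0, 5, 4, 6, 5, 5, 4, 3, 2, 1, 3, 4, 5, 0, 2, 3, 4, 5, 6, 1, 3, 4, 5, 2, 3, 0, 2, 1, 3], .f, .p [125, 63, 78, 87, 92], .w [0, 2, 5, 4, 3, 1, 6, 5, 4, 3, 2, 0, 5, 4, 6, 5, 3, 4, 1, 3, 5, 4, 3, 2, 1, 3, 4, 5], .f, .p [87, 92, 78, 125], .w [0, 2, 3, 1, 4, 3, 2, 0, 2, 3, 4, 5, 5, 6, 4, 5, 0, 2, 3, 4, 5, 6, 1, 3, 4, 5, 2, 0]]),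
   ([73, 78, 92, 63, 87, 125], [.w [0, 2, 5, 4, 3, 1, 6, 5, 4, 3, 2, 0, 5, 4, 6, 5, 5, 4, 3, 2, 1, 3, 4, 5, 0, 2, 3, 4, 5, 6, 1, 3, 4, 5, 2, 3, 4, 1, 3, 0], .f, .p [125, 63, 78, 87, 92], .w [0, 2, 5, 4, 3, 1, 6, 5, 4, 3, 2, 0, 5, 4, 6, 5, 3, 4, 1, 3, 5, 4, 3, 2, 1, 3, 4, 5], .f, .p [87, 92, 78, 125], .w [0, 2, 3, 1, 4, 3, 2, 0, 2, 3, 4, 5, 5, 6, 4, 5, 0, 2, 3, 4, 5, 6, 1, 3, 4, 5, 2, 0]]),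
   ([73, 78, 87, 66, 92, 125], [.w [0, 2, 5, 4, 3, 1, 6, 5, 4, 3, 2, 0, 5, 4, 6, 5, 3, 4, 2, 3, 5, 4, 3, 2, 1, 3, 4, 5, 0, 2, 3, 4, 5, 6, 1, 3, 4, 5, 2, 3, 4, 1, 3, 0], .f, .p [125, 63, 78, 87, 92], .w [0, 2, 5, 4, 3, 1, 6, 5, 4, 3, 2, 0, 5, 4, 6, 5, 3, 4, 1, 3, 5, 4, 3, 2, 1, 3, 4, 5], .f, .p [87, 92, 78, 125], .w [0, 2, 3, 1, 4, 3, 2, 0, 2, 3, 4, 5, 5, 6, 4, 5, 0, 2, 3, 4, 5, 6, 1, 3, 4, 5, 2, 0]]),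
   ([66, 73, 125, 63, 78, 87, 92], [.w [0, 2, 5, 4, 3, 1, 6, 5, 4, 3, 2, 0, 5, 4, 6, 5, 5, 6, 4, 5, 3, 2, 1, 3, 0, 2, 3, 4, 5, 6, 1, 3, 4, 5, 2, 3, 0, 2, 1, 3], .f, .p [92, 63, 66, 87, 125, 78], .w [0, 2, 5, 4, 3, 1, 6, 5, 4, 3, 2, 0, 5, 4, 6, 5, 3, 4, 1, 3, 5, 4, 3, 2, 1, 3, 4, 5, 0, 2, 3, 4, 1, 3, 2, 0], .f, .p [125, 78, 63, 87, 92], .w [0, 2, 5, 4, 3, 1, 6, 5, 4, 3, 2, 0, 5, 4, 6, 5, 3, 2, 1, 3, 5, 6, 4, 5, 3, 4, 2, 3], .f, .p [87, 125, 66, 92], .w [0, 2, 3, 1, 4, 3, 2, 0, 2, 3, 4, 5, 0, 2, 3, 4, 5, 6, 1, 3, 4, 5, 2, 0]])]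

/-- the fusion -/
def fzE7 : List ℕ × List ℕ × List ℕ :=
  ([2, 87, 92, 125, 2, 87, 92, 125], [87, 92, 125, 73], [87, 92, 125])

theorem strE7 : ∀ i, certE7.R.Str i := by decide +kernel

theorem runE7 : (tblE7.all fun e => chkRun certE7.Z ([] :: [[125], [118, 121], [92, 107, 111], [114, 116, 119], [92, 107, 111, 119]]) fzE7 e.2 e.1) = true := by
  decide +kernel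

theorem chkFzE7 : chkFz certE7.Z fzE7 = true := by decide +kernel

theorem sqE7 : (([[125], [118, 121], [92, 107, 111], [114, 116, 119], [92, 107, 111, 119]] : List (List ℕ)).all fun L => L.all (Nat.blt · certE7.Z.n) &&
      eqWordsN certE7.Z 2 (oneW (L ++ L)) (oneW [])) = true := by decide +kernel

theorem treeE7 : tree certE7.Z (fun L => tblE7.any fun e => L.isPerm e.1) (certE7.Z.l + 1)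
    (List.range certE7.Z.l) [] = true := by decide +kernel

theorem classesE7 (F : Type*) [Field F] [Finite F] [CharP F 2] :
    certE7.Classes F [[125], [118, 121], [92, 107, 111], [114, 116, 119], [92, 107, 111, 119]] :=
  certE7.classes_of (reps := repsE7) chkFzE7 rfl (by decide +kernel)
    (fun _ i hi => ChevSys.red_J (strE7 i) hi) treeE7 runE7 sqE7
    (by decide +kernel) (by decide +kernel) (by decide)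

end H6.Chev
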