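import Cfsg.Agent.H6.InvChk

/-! The classes of involutions of `E8` in characteristic two. -/

namespace H6.Chev
open Cfsg.Lie

/-- representatives -/
def repsE8 : List (List ℕ × List ℤ × List ℤ) :=
  [([], [0, 0, 0, 0, 0, 0, 0, 0], [1, 1, 1, 1, 1, 1, 1, 1]), ([239], [0, 0, 0, 0, 0, 0, 0, 1], [1, 1, 1, 1, 1, 1, 1, 1]), ([232, 233], [1, 0, 0, 0, 0, 0, 0, 0], [1, 1, 1, 1, 1, 1, 1, 1]), ([228, 222, 218], [0, 0, 0, 0, 0, 0, 1, 0], [1, 1, 1, 1, 1, 1, 1, 1]), ([226, 220, 213, 216], [0, 1, 0, 0, 0, 0, 0, 0], [1, 1, 1, 1, 1, 1, 1, 1])]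

/-- conjugations -/
def tblE8 : List (List ℕ × List Stp) :=
  [([], []),
   ([239], []),
   ([226, 239], [.w [1, 3, 4, 5, 6, 7, 7, 6, 5, 4, 3, 2, 1, 3, 4, 5, 6, 7]]),
   ([159, 226, 239], [.w [5, 4, 3, 1, 2, 3, 4, 5, 6, 7, 4, 3, 2, 0, 0, 2, 3, 4, 1, 3, 2, 0, 7, 6, 5, 4, 3, 2, 1, 3, 4, 5, 6, 7, 0, 2, 3, 4, 1, 3, 2, 0]]),
   ([159, 226, 239, 121], [.w [0, 2, 3, 1, 4, 3, 2, 0, 7, 6, 5, 4, 3, 1, 2, 3, 4, 5, 6, 7, 0, 2, 3, 1, 4, 3, 2, 0, 0, 2, 3, 4, 1, 3, 2, 0, 7, 6, 5, 4, 3, 2, 1, 3, 4, 5, 6, 7, 0, 2, 3, 4, 1, 3, 2, 0], .f, .w [5, 4, 3, 1, 2, 3, 4, 5, 6, 7, 4, 3, 2, 0, 0, 2, 3, 4, 1, 3, 2, 0, 7, 6, 5, 4, 3, 2, 1, 3, 4, 5, 6, 7, 0, 2, 3, 4, 1, 3, 2, 0]]),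
   ([152, 159, 226, 239], [.w [7, 6, 5, 4, 3, 1, 2, 3, 4, 5, 6, 7, 6, 5, 4, 3, 2, 0, 4, 5, 5, 6, 4, 5, 0, 2, 3, 4, 5, 6, 1, 3, 4, 5, 2, 0, 7, 6, 5, 4, 3, 2, 1, 3, 4, 5, 6, 7, 0, 2, 3, 4, 5, 6, 1, 3, 4, 5, 2, 0]]),
   ([159, 226, 239, 121, 152], [.w [0, 2, 3, 1, 4, 3, 2, 0, 7, 6, 5, 4, 3, 1, 2, 3, 4, 5, 6, 7, 0, 2, 3, 1, 4, 3, 2, 0, 0, 2, 3, 4, 1, 3, 2, 0, 7, 6, 5, 4, 3, 2, 1, 3, 4, 5, 6, 7, 0, 2, 3, 4, 1, 3, 2, 0], .f, .w [7, 6, 5, 4, 3, 1, 2, 3, 4, 5, 6, 7, 6, 5, 4, 3, 2, 0, 4, 5, 0, 2, 3, 4, 1, 3, 2, 0, 7, 6, 5, 4, 3, 2, 1, 3, 4, 5, 6, 7, 0, 2, 3, 4, 1, 3, 2, 0]]),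
   ([152, 226, 239, 126, 159], [.w [0, 2, 3, 1, 4, 3, 2, 0, 7, 6, 5, 4, 3, 1, 2, 3, 4, 5, 6, 7, 0, 2, 3, 1, 4, 3, 2, 0, 0, 2, 3, 4, 1, 3, 2, 0, 7, 6, 5, 4, 3, 2, 1, 3, 4, 5, 6, 7, 0, 2, 3, 4, 5, 6, 1, 3, 4, 5, 2, 0], .f, .w [7, 6, 5, 4, 3, 1, 2, 3, 4, 5, 6, 7, 6, 5, 4, 3, 2, 0, 4, 5, 0, 2, 3, 4, 1, 3, 2, 0, 7, 6, 5, 4, 3, 2, 1, 3, 4, 5, 6, 7, 0, 2, 3, 4, 1, 3, 2, 0]]),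
   ([152, 159, 226, 135, 239], [.w [0, 2, 3, 1, 4, 3, 2, 0, 7, 6, 5, 4, 3, 1, 2, 3, 4, 5, 6, 7, 0, 2, 3, 1, 4, 3, 2, 0, 5, 6, 4, 5, 0, 2, 3, 4, 5, 6, 1, 3, 4, 5, 2, 0, 7, 6, 5, 4, 3, 2, 1, 3, 4, 5, 6, 7, 0, 2, 3, 4, 5, 6, 1, 3, 4, 5, 2, 0], .f, .w [7, 6, 5, 4, 3, 1, 2, 3, 4, 5, 6, 7, 6, 5, 4, 3, 2, 0, 4, 5, 0, 2, 3, 4, 1, 3, 2, 0, 7, 6, 5, 4, 3, 2, 1, 3, 4, 5, 6, 7, 0, 2, 3, 4, 1, 3, 2, 0]]),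
   ([152, 159, 239, 141, 226], [.w [0, 2, 3, 1, 4, 3, 2, 0, 7, 6, 5, 4, 3, 1, 2, 3, 4, 5, 6, 7, 0, 2, 3, 1, 4, 3, 2, 0, 0, 2, 3, 4, 5, 6, 1, 3, 4, 5, 2, 0, 7, 6, 5, 4, 3, 2, 1, 3, 4, 5, 6, 7, 0, 2, 3, 4, 5, 6, 1, 3, 4, 5, 2, 0], .f, .w [7, 6, 5, 4, 3, 1, 2, 3, 4, 5, 6, 7, 6, 5, 4, 3, 2, 0, 4, 5, 0, 2, 3, 4, 1, 3, 2, 0, 7, 6, 5, 4, 3, 2, 1, 3, 4, 5, 6, 7, 0, 2, 3, 4, 1, 3, 2, 0]]),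
   ([126, 152, 159, 121, 226, 239], [.w [0, 2, 3, 1, 4, 3, 2, 0, 7, 6, 5, 4, 3, 1, 2, 3, 4, 5, 6, 7, 0, 2, 3, 1, 4, 3, 2, 0, 5, 6, 4, 5, 0, 2, 3, 4, 5, 1, 3, 4, 2, 3, 0, 2, 1, 3, 4, 5, 7, 6, 5, 4, 3, 2, 1, 3, 4, 5, 6, 7, 0, 2, 3, 4, 5, 6, 1, 3, 4, 5, 2, 3, 0, 2, 1, 3], .f, .p [226, 135, 152, 159, 239], .w [0, 2, 3, 1, 4, 3, 2, 0, 7, 6, 5, 4, 3, 1, 2, 3, 4, 5, 6, 7, 0, 2, 3, 1, 4, 3, 2, 0, 5, 6, 4, 5, 3, 2, 1, 3, 0, 2, 3, 4, 5, 6, 1, 3, 4, 5, 2, 3, 4, 0, 2, 3, 7, 6, 5, 4, 3, 2, 1, 3, 4, 5, 6, 7], .f, .w [7, 6, 5, 4, 3, 1, 2, 3, 4, 5, 6, 7, 6, 5, 4, 3, 2, 0, 4, 5, 0, 2, 3, 4, 1, 3, 2, 0, 7, 6, 5, 4, 3, 2, 1, 3, 4, 5, 6, 7, 0, 2, 3, 4, 1, 3, 2, 0]]),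
   ([135, 152, 239, 121, 159, 226], [.w [0, 2, 3, 1, 4, 3, 2, 0, 7, 6, 5, 4, 3, 1, 2, 3, 4, 5, 6, 7, 0, 2, 3, 1, 4, 3, 2, 0, 0, 2, 3, 4, 5, 6, 1, 3, 4, 5, 2, 3, 4, 0, 2, 3, 7, 6, 5, 4, 3, 2, 1, 3, 4, 5, 6, 7, 0, 2, 3, 4, 5, 6, 1, 3, 4, 5, 2, 3, 4, 1, 3, 0], .f, .p [226, 135, 152, 159, 239], .w [0, 2, 3, 1, 4, 3, 2, 0, 7, 6, 5, 4, 3, 1, 2, 3, 4, 5, 6, 7, 0, 2, 3, 1, 4, 3, 2, 0, 5, 6, 4, 5, 3, 2, 1, 3, 0, 2, 3, 4, 5, 6, 1, 3, 4, 5, 2, 3, 4, 0, 2, 3, 7, 6, 5, 4, 3, 2, 1, 3, 4, 5, 6, 7], .f, .w [7, 6, 5, 4, 3, 1, 2, 3, 4, 5, 6, 7, 6, 5, 4, 3, 2, 0, 4, 5, 0, 2, 3, 4, 1, 3, 2, 0, 7, 6, 5, 4, 3, 2, 1, 3, 4, 5, 6, 7, 0, 2, 3, 4, 1, 3, 2, 0]]),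
   ([141, 152, 226, 121, 159, 239], [.w [0, 2, 3, 1, 4, 3, 2, 0, 7, 6, 5, 4, 3, 1, 2, 3, 4, 5, 6, 7, 0, 2, 3, 1, 4, 3, 2, 0, 5, 6, 4, 5, 0, 2, 3, 4, 5, 6, 1, 3, 4, 5, 2, 3, 0, 2, 1, 3, 7, 6, 5, 4, 3, 2, 1, 3, 4, 5, 6, 7, 0, 2, 3, 4, 5, 6, 1, 3, 4, 5, 2, 3, 4, 0, 2, 3], .f, .p [226, 135, 152, 159, 239], .w [0, 2, 3, 1, 4, 3, 2, 0, 7, 6, 5, 4, 3, 1, 2, 3, 4, 5, 6, 7, 0, 2, 3, 1, 4, 3, 2, 0, 5, 6, 4, 5, 3, 2, 1, 3, 0, 2, 3, 4, 5, 6, 1, 3, 4, 5, 2, 3, 4, 0, 2, 3, 7, 6, 5, 4, 3, 2, 1, 3, 4, 5, 6, 7], .f, .w [7, 6, 5, 4, 3, 1, 2, 3, 4, 5, 6, 7, 6, 5, 4, 3, 2, 0, 4, 5, 0, 2, 3, 4, 1, 3, 2, 0, 7, 6, 5, 4, 3, 2, 1, 3, 4, 5, 6, 7, 0, 2, 3, 4, 1, 3, 2, 0]]),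
   ([135, 159, 239, 126, 152, 226], [.w [0, 2, 3, 1, 4, 3, 2, 0, 7, 6, 5, 4, 3, 1, 2, 3, 4, 5, 6, 7, 0, 2, 3, 1, 4, 3, 2, 0, 0, 2, 3, 4, 5, 6, 1, 3, 4, 5, 2, 0, 7, 6, 5, 4, 3, 2, 1, 3, 4, 5, 6, 7, 0, 2, 3, 4, 5, 6, 1, 3, 4, 5, 2, 3, 4, 1, 3, 0], .f, .p [226, 135, 152, 159, 239], .w [0, 2, 3, 1, 4, 3, 2, 0, 7, 6, 5, 4, 3, 1, 2, 3, 4, 5, 6, 7, 0, 2, 3, 1, 4, 3, 2, 0, 5, 6, 4, 5, 3, 2, 1, 3, 0, 2, 3, 4, 5, 6, 1, 3, 4, 5, 2, 3, 4, 0, 2, 3, 7, 6, 5, 4, 3, 2, 1, 3, 4, 5, 6, 7], .f, .w [7, 6, 5, 4, 3, 1, 2, 3, 4, 5, 6, 7, 6, 5, 4, 3, 2, 0, 4, 5, 0, 2, 3, 4, 1, 3, 2, 0, 7, 6, 5, 4, 3, 2, 1, 3, 4, 5, 6, 7, 0, 2, 3, 4, 1, 3, 2, 0]]),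
   ([141, 159, 226, 126, 152, 239], [.w [0, 2, 3, 1, 4, 3, 2, 0, 7, 6, 5, 4, 3, 1, 2, 3, 4, 5, 6, 7, 0, 2, 3, 1, 4, 3, 2, 0, 5, 6, 4, 5, 0, 2, 3, 4, 5, 6, 1, 3, 4, 5, 2, 0, 7, 6, 5, 4, 3, 2, 1, 3, 4, 5, 6, 7, 0, 2, 3, 4, 5, 6, 1, 3, 4, 5, 2, 3, 4, 0, 2, 3], .f, .p [226, 135, 152, 159, 239], .w [0, 2, 3, 1, 4, 3, 2, 0, 7, 6, 5, 4, 3, 1, 2, 3, 4, 5, 6, 7, 0, 2, 3, 1, 4, 3, 2, 0, 5, 6, 4, 5, 3, 2, 1, 3, 0, 2, 3, 4, 5, 6, 1, 3, 4, 5, 2, 3, 4, 0, 2, 3, 7, 6, 5, 4, 3, 2, 1, 3, 4, 5, 6, 7], .f, .w [7, 6, 5, 4, 3, 1, 2, 3, 4, 5, 6, 7, 6, 5, 4, 3, 2, 0, 4, 5, 0, 2, 3, 4, 1, 3, 2, 0, 7, 6, 5, 4, 3, 2, 1, 3, 4, 5, 6, 7, 0, 2, 3, 4, 1, 3, 2, 0]]),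
   ([141, 226, 239, 135, 152, 159], [.w [0, 2, 3, 1, 4, 3, 2, 0, 7, 6, 5, 4, 3, 1, 2, 3, 4, 5, 6, 7, 0, 2, 3, 1, 4, 3, 2, 0, 0, 2, 3, 4, 1, 3, 2, 0, 7, 6, 5, 4, 3, 2, 1, 3, 4, 5, 6, 7, 0, 2, 3, 4, 5, 6, 1, 3, 4, 5, 2, 3, 4, 0, 2, 3], .f, .p [239, 141, 152, 159, 226], .w [0, 2, 3, 1, 4, 3, 2, 0, 7, 6, 5, 4, 3, 1, 2, 3, 4, 5, 6, 7, 0, 2, 3, 1, 4, 3, 2, 0, 5, 6, 4, 5, 3, 2, 1, 3, 0, 2, 3, 4, 5, 6, 1, 3, 4, 5, 2, 3, 4, 0, 2, 3], .f, .w [7, 6, 5, 4, 3, 1, 2, 3, 4, 5, 6, 7, 6, 5, 4, 3, 2, 0, 4, 5, 0, 2, 3, 4, 1, 3, 2, 0, 7, 6, 5, 4, 3, 2, 1, 3, 4, 5, 6, 7, 0, 2, 3, 4, 1, 3, 2, 0]]),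
   ([126, 135, 226, 121, 152, 159, 239], [.w [0, 2, 3, 1, 4, 3, 2, 0, 7, 6, 5, 4, 3, 1, 2, 3, 4, 5, 6, 7, 0, 2, 3, 1, 4, 3, 2, 0, 5, 6, 4, 5, 0, 2, 3, 4, 5, 6, 1, 3, 4, 5, 2, 3, 0, 2, 1, 3, 7, 6, 5, 4, 3, 2, 1, 3, 4, 5, 6, 7, 0, 2, 3, 4, 5, 6, 1, 3, 4, 5, 2, 3, 0, 2, 1, 3], .f, .p [226, 135, 152, 159, 239, 141], .w [0, 2, 3, 1, 4, 3, 2, 0, 7, 6, 5, 4, 3, 1, 2, 3, 4, 5, 6, 7, 0, 2, 3, 1, 4, 3, 2, 0, 5, 6, 4, 5, 3, 2, 1, 3, 0, 2, 3, 4, 5, 6, 1, 3, 4, 5, 2, 3, 4, 0, 2, 3, 7, 6, 5, 4, 3, 2, 1, 3, 4, 5, 6, 7], .f, .p [226, 152, 135, 159, 239], .w [0, 2, 3, 1, 4, 3, 2, 0, 7, 6, 5, 4, 3, 1, 2, 3, 4, 5, 6, 7, 0, 2, 3, 1, 4, 3, 2, 0, 5, 6, 4, 5, 3, 2, 1, 3, 0, 2, 3, 4, 5, 6,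 1, 3, 4, 5, 2, 0, 7, 6, 5, 4, 3, 2, 1, 3, 4, 5, 6, 7], .f, .w [7, 6, 5, 4, 3, 1, 2, 3, 4, 5, 6, 7, 6, 5, 4, 3, 2, 0, 4, 5, 0, 2, 3, 4, 1, 3, 2, 0, 7, 6, 5, 4, 3, 2, 1, 3, 4, 5, 6, 7, 0, 2, 3, 4, 1, 3, 2, 0]]),
   ([126, 141, 239, 121, 152, 159, 226], [.w [0, 2, 3, 1, 4, 3, 2, 0, 7, 6, 5, 4, 3, 1, 2, 3, 4, 5, 6, 7, 0, 2, 3, 1, 4, 3, 2, 0, 0, 2, 3, 4, 5, 6, 1, 3, 4, 5, 2, 3, 4, 0, 2, 3, 7, 6, 5, 4, 3, 2, 1, 3, 4, 5, 6, 7, 0, 2, 3, 4, 5, 6, 1, 3, 4, 5, 2, 3, 0, 2, 1, 3], .f, .p [226, 135, 152, 159, 239, 141], .w [0, 2, 3, 1, 4, 3, 2, 0, 7, 6, 5, 4, 3, 1, 2, 3, 4, 5, 6, 7, 0, 2, 3, 1, 4, 3, 2, 0, 5, 6, 4, 5, 3, 2, 1, 3, 0, 2, 3, 4, 5, 6, 1, 3, 4, 5, 2, 3, 4, 0, 2, 3, 7,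 6, 5, 4, 3, 2, 1, 3, 4, 5, 6, 7], .f, .p [226, 152, 135, 159, 239], .w [0, 2, 3, 1, 4, 3, 2, 0, 7, 6, 5, 4, 3, 1, 2, 3, 4, 5, 6, 7, 0, 2, 3, 1, 4, 3, 2, 0, 5, 6, 4, 5, 3, 2, 1, 3, 0, 2, 3, 4, 5, 6, 1, 3, 4, 5, 2, 0, 7, 6, 5, 4, 3, 2, 1, 3, 4, 5, 6, 7], .f, .w [7, 6, 5, 4, 3, 1, 2, 3, 4, 5, 6, 7, 6, 5, 4, 3, 2, 0, 4, 5, 0, 2, 3, 4, 1, 3, 2, 0, 7, 6, 5, 4, 3, 2, 1, 3, 4, 5, 6, 7, 0, 2, 3, 4, 1, 3, 2, 0]]),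
   ([135, 141, 159, 121, 152, 226, 239], [.w [0, 2, 3, 1, 4, 3, 2, 0, 7, 6, 5, 4, 3, 1, 2, 3, 4, 5, 6, 7, 0, 2, 3, 1, 4, 3, 2, 0, 5, 6, 4, 5, 0, 2, 3, 4, 5, 1, 3, 4, 2, 3, 0, 2, 1, 3, 4, 5, 7, 6, 5, 4, 3, 2, 1, 3, 4, 5, 6, 7, 0, 2, 3, 4, 5, 6, 1, 3, 4, 5, 2, 3, 4, 1, 3, 0], .f, .p [226, 135, 152, 159, 239, 126], .w [0, 2, 3, 1, 4, 3, 2, 0, 7, 6, 5, 4, 3, 1, 2, 3, 4, 5, 6, 7, 0, 2, 3, 1, 4, 3, 2, 0, 5, 6, 4, 5, 3, 2, 1, 3, 0, 2, 3, 4, 5, 6, 1, 3, 4, 5, 2, 3, 4, 0, 2, 3, 7, 6, 5, 4, 3, 2, 1, 3, 4, 5, 6, 7], .f, .p [239, 152, 141, 159, 226], .w [0, 2, 3, 1, 4, 3, 2, 0, 7, 6, 5, 4, 3, 1, 2, 3, 4, 5, 6, 7, 0, 2, 3, 1, 4, 3, 2, 0, 5, 6, 4, 5, 3, 2, 1, 3, 0, 2, 3, 4, 5, 6,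 1, 3, 4, 5, 2, 0], .f, .w [7, 6, 5, 4, 3, 1, 2, 3, 4, 5, 6, 7, 6, 5, 4, 3, 2, 0, 4, 5, 0, 2, 3, 4, 1, 3, 2, 0, 7, 6, 5, 4, 3, 2, 1, 3, 4, 5, 6, 7, 0, 2, 3, 4, 1, 3, 2, 0]]),
   ([135, 141, 152, 126, 159, 226, 239], [.w [0, 2, 3, 1, 4, 3, 2, 0, 7, 6, 5, 4, 3, 1, 2, 3, 4, 5, 6, 7, 0, 2, 3, 1, 4, 3, 2, 0, 5, 6, 4, 5, 3, 4, 1, 3, 0, 2, 3, 4, 5, 1, 3, 4, 2, 3, 0, 2, 1, 3, 4, 5, 7, 6, 5, 4, 3, 2, 1, 3, 4, 5, 6, 7, 0, 2, 3, 4, 5, 6, 1, 3, 4, 5, 2, 3, 4, 1, 3, 0], .f, .p [226, 135, 152, 159, 239, 126], .w [0, 2, 3, 1, 4, 3, 2, 0, 7, 6, 5, 4, 3, 1, 2, 3, 4, 5, 6, 7, 0, 2, 3, 1, 4, 3, 2, 0, 5, 6, 4, 5, 3, 2, 1, 3, 0, 2, 3, 4, 5, 6, 1, 3, 4, 5, 2, 3, 4, 0, 2, 3, 7, 6, 5, 4, 3,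 2, 1, 3, 4, 5, 6, 7], .f, .p [239, 152, 141, 159, 226], .w [0, 2, 3, 1, 4, 3, 2, 0, 7, 6, 5, 4, 3, 1, 2, 3, 4, 5, 6, 7, 0, 2, 3, 1, 4, 3, 2, 0, 5, 6, 4, 5, 3, 2, 1, 3, 0, 2, 3, 4, 5, 6, 1, 3, 4, 5, 2, 0], .f, .w [7, 6, 5, 4, 3, 1, 2, 3, 4, 5, 6, 7, 6, 5, 4, 3, 2, 0, 4, 5, 0, 2, 3, 4, 1, 3, 2, 0, 7, 6, 5, 4, 3, 2, 1, 3, 4, 5, 6, 7, 0, 2, 3, 4, 1, 3, 2, 0]]),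
   ([126, 135, 226, 121, 141, 152, 159, 239], [.w [0, 2, 3, 1, 4, 3, 2, 0, 7, 6, 5, 4, 3, 1, 2, 3, 4, 5, 6, 7, 0, 2, 3, 1, 4, 3, 2, 0, 5, 6, 4, 5, 0, 2, 3, 4, 5, 6, 1, 3, 4, 5, 2, 3, 0, 2, 1, 3, 7, 6, 5, 4, 3, 2, 1, 3, 4, 5, 6, 7, 0, 2, 3, 4, 5, 6, 1, 3, 4, 5, 2, 3, 0, 2, 1, 3], .f, .p [226, 126, 141, 159, 239, 135, 152], .w [0, 2, 3, 1, 4, 3, 2, 0, 7, 6, 5, 4, 3, 1, 2, 3, 4, 5, 6, 7, 0, 2, 3, 1, 4, 3, 2, 0, 5, 6, 4, 5, 3, 2, 1, 3, 0, 2, 3, 4, 5, 6, 1, 3, 4, 5, 2, 3, 0, 2, 1, 3, 7, 6, 5, 4, 3, 2, 1, 3, 4, 5, 6, 7], .f, .p [226, 152, 135, 159, 239, 141], .w [0, 2, 3, 1, 4, 3, 2, 0, 7, 6, 5, 4, 3, 1, 2, 3, 4, 5, 6, 7, 0, 2, 3, 1, 4, 3, 2, 0, 5, 6, 4, 5, 3, 2, 1, 3, 0,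 2, 3, 4, 5, 6, 1, 3, 4, 5, 2, 0, 7, 6, 5, 4, 3, 2, 1, 3, 4, 5, 6, 7], .f, .p [239, 152, 141, 159, 226], .w [0, 2, 3, 1, 4, 3, 2, 0, 7, 6, 5, 4, 3, 1, 2, 3, 4, 5, 6, 7, 0, 2, 3, 1, 4, 3, 2, 0, 5, 6, 4, 5, 3, 2, 1, 3, 0, 2, 3, 4, 5, 6, 1, 3, 4, 5, 2, 0], .f, .w [7, 6, 5, 4, 3, 1, 2, 3, 4, 5, 6, 7, 6, 5, 4, 3, 2, 0, 4, 5, 0, 2, 3, 4, 1, 3, 2, 0, 7, 6, 5, 4, 3, 2, 1, 3, 4, 5, 6, 7, 0, 2, 3, 4, 1, 3, 2, 0]])]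

/-- the fusion -/
def fzE8 : List ℕ × List ℕ × List ℕ :=
  ([2, 159, 226, 239, 2, 159, 226, 239], [159, 226, 239, 121], [159, 226, 239])

theorem strE8 : ∀ i, certE8.R.Str i := by decide +kernel

theorem runE8 : (tblE8.all fun e => chkRun certE8.Z ([] :: [[239], [232, 233], [228, 222, 218], [226, 220, 213, 216]]) fzE8 e.2 e.1) = true := by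
  decide +kernel

theorem chkFzE8 : chkFz certE8.Z fzE8 = true := by decide +kernel

theorem sqE8 : (([[239], [232, 233], [228, 222, 218], [226, 220, 213, 216]] : List (List ℕ)).all fun L => L.all (Nat.blt · certE8.Z.n) &&
      eqWordsN certE8.Z 2 (oneW (L ++ L)) (oneW [])) = true := by decide +kernel

theorem treeE8 : tree certE8.Z (fun L => tblE8.any fun e => L.isPerm e.1) (certE8.Z.l + 1)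
    (List.range certE8.Z.l) [] = true := by decide +kernel

theorem classesE8 (F : Type*) [Field F] [Finite F] [CharP F 2] :
    certE8.Classes F [[239], [232, 233], [228, 222, 218], [226, 220, 213, 216]] :=
  certE8.classes_of (reps := repsE8) chkFzE8 rfl (by decide +kernel)
    (fun _ i hi => ChevSys.red_J (strE8 i) hi) treeE8 runE8 sqE8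
    (by decide +kernel) (by decide +kernel) (by decide)

end H6.Chev
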