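import Mathlib

/-! Products of two conjugacy classes in `PSL_d`, `d ≥ 3`. -/

set_option autoImplicit false
set_option linter.unusedSectionVars false

namespace H6.RU2
open Matrix

variable {F : Type*} [Field F] {d : ℕ} {E X : Matrix (Fin d) (Fin d) F} {v w w' φ φ' : Fin d → F}

lemma sep (S : Submodule F (Fin d → F)) {x : Fin d → F} (h : x ∉ S) : ∃ φ : Fin d → F, (∀ y ∈ S, φ ⬝ᵥ y = 0) ∧ φ ⬝ᵥ x = 1 := by
  obtain ⟨f, a, b⟩ := S.exists_dual_map_eq_bot_of_notMem h inferInstance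
  obtain ⟨φ, rfl⟩ := (dotProductEquiv F (Fin d)).surjective f
  refine ⟨(φ ⬝ᵥ x)⁻¹ • φ, fun y hy => ?_, by rw [smul_dotProduct]; exact inv_mul_cancel₀ a⟩
  have : φ ⬝ᵥ y = 0 := (Submodule.mem_bot F).1 (b ▸ Submodule.mem_map_of_mem hy)
  simp [this]

lemma sep1 {x y : Fin d → F} (h : ∀ c : F, c • y ≠ x) : ∃ φ : Fin d → F, φ ⬝ᵥ y = 0 ∧ φ ⬝ᵥ x = 1 :=
  let ⟨φ, a, b⟩ := sep (F ∙ y) (x := x) fun e => let ⟨c, hc⟩ := Submodule.mem_span_singleton.1 e; h c hc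
  ⟨φ, a _ (Submodule.mem_span_singleton_self y), b⟩

lemma sep2 (hd : 3 ≤ d) (x y : Fin d → F) : ∃ φ : Fin d → F, φ ≠ 0 ∧ φ ⬝ᵥ x = 0 ∧ φ ⬝ᵥ y = 0 := by
  classical
  obtain ⟨z, hz⟩ : ∃ z, z ∉ Submodule.span F (({x, y} : Finset (Fin d → F)) : Set (Fin d → F)) := by
    by_contra! h
    have := finrank_span_finset_le_card (R := F) ({x, y} : Finset (Fin d → F))
    rw [Set.finrank, Submodule.eq_top_iff'.2 h, finrank_top, Module.finrank_fin_fun] at this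
    have := Finset.card_le_two (a := x) (b := y)
    omega
  obtain ⟨φ, a, b⟩ := sep _ hz
  exact ⟨φ, fun e => by simp [e] at b, a _ (Submodule.subset_span (by simp)), a _ (Submodule.subset_span (by simp))⟩

lemma cm (a b : SpecialLinearGroup (Fin d) F) : (a * b).1 = a.1 * b.1 := rfl
lemma co : (1 : SpecialLinearGroup (Fin d) F).1 = 1 := rfl

/-- transvections -/
def tv (h : φ ⬝ᵥ v = 0) : SpecialLinearGroup (Fin d) F := ⟨1 + vecMulVec v φ, by
  rw [vecMulVec_eq Unit, det_one_add_replicateCol_mul_replicateRow, h, add_zero]⟩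

lemma tv_inv (h : φ ⬝ᵥ v = 0) : ((tv h)⁻¹).1 = 1 - vecMulVec v φ := by
  have : (tv h).1 * (1 - vecMulVec v φ) = 1 := by simp [tv, mul_sub, add_mul, vecMulVec_mul_vecMulVec, h]
  calc _ = ((tv h)⁻¹).1 * ((tv h).1 * (1 - vecMulVec v φ)) := by rw [this, mul_one]
    _ = _ := by rw [← mul_assoc, ← cm, inv_mul_cancel, co, one_mul]

/-- the class of `X` is orthogonal to `E` -/
def W (E X : Matrix (Fin d) (Fin d) F) : Prop := ∀ g : SpecialLinearGroup (Fin d) F, trace (g.1 * X * (g⁻¹).1 * E) = 0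

lemma W.smul (h : W E X) (c : F) : W E (c • X) := fun g => by
  rw [Matrix.mul_smul, Matrix.smul_mul, Matrix.smul_mul, trace_smul, h, smul_zero]

lemma W.D (h : W E X) (e : φ ⬝ᵥ v = 0) : W E (vecMulVec v φ * X - X * vecMulVec v φ - vecMulVec v φ * X * vecMulVec v φ) := fun g => by
  have a := h (g * tv e)
  rw [_root_.mul_inv_rev, cm, cm, tv_inv] at a
  rw [← sub_zero (0 : F)]; nth_rw 1 [← a]; rw [← h g, ← trace_sub]
  congr 1; simp only [tv]; noncomm_ring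

lemma W.left (h : W E (vecMulVec w φ)) (w0 : w ≠ 0) (e : φ ⬝ᵥ w' = 0) : W E (vecMulVec w' φ) := by
  by_cases c : ∀ c : F, c • w' ≠ w
  · obtain ⟨ψ, a, b⟩ := sep1 c
    simpa [vecMulVec_mul_vecMulVec, e, b] using h.D a
  · push Not at c
    obtain ⟨c, rfl⟩ := c
    simpa [smul_smul, inv_mul_cancel₀ (left_ne_zero_of_smul w0)] using h.smul c⁻¹

lemma W.right (h : W E (vecMulVec w φ)) (w0 : φ ≠ 0) (e : φ' ⬝ᵥ w = 0) : W E (vecMulVec w φ') := by
  by_cases c : ∀ c : F, c • φ' ≠ φ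
  · obtain ⟨u, a, b⟩ := sep1 c
    rw [dotProduct_comm] at a b
    simpa [vecMulVec_mul_vecMulVec, e, b] using (h.D a).smul (-1)
  · push Not at c
    obtain ⟨c, rfl⟩ := c
    simpa [smul_smul, inv_mul_cancel₀ (left_ne_zero_of_smul w0)] using h.smul c⁻¹

lemma W.zero (hd : 3 ≤ d) (h : W E X) (hX : ∀ c : F, c • w ≠ X *ᵥ w) (e : φ ⬝ᵥ v = 0) : φ ⬝ᵥ (E *ᵥ v) = 0 := by
  obtain ⟨χ₂, a, b⟩ := sep1 hX
  obtain ⟨χ₁, n, a', b'⟩ := sep2 hd w (X *ᵥ w)
  have w0 : w ≠ 0 := fun e => hX 0 (by simp [e])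
  have k : W E (vecMulVec w χ₁) := by
    simpa [← mulVec_mulVec, vecMulVec_mulVec, b, b'] using (show W E (vecMulVec ((vecMulVec w χ₁ * X) *ᵥ w) χ₂ +
      vecMulVec ((vecMulVec w χ₂ * X) *ᵥ w) χ₁) by
        simpa [mul_sub, sub_mul, mul_assoc, mul_vecMulVec, vecMulVec_mul_vecMulVec, vecMulVec_mulVec, ← vecMulVec_mul,
          ← mul_assoc _ _ X, a, b, a', b'] using ((h.D a').D a).smul (-1))
  obtain ⟨u, u0, p, q⟩ := sep2 hd χ₁ φ
  rw [dotProduct_comm] at p q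
  have := (((k.left w0 p).right n q).left u0 e) 1
  rwa [inv_one, co, one_mul, mul_one, trace_mul_comm, mul_vecMulVec, trace_vecMulVec, dotProduct_comm] at this

lemma nonscal {A : SpecialLinearGroup (Fin d) F} (h : A ∉ Subgroup.center _) : ∃ v, ∀ c : F, c • v ≠ A.1 *ᵥ v := by
  by_contra! k
  obtain ⟨c, hc⟩ := LinearMap.exists_eq_smul_id_of_forall_notLinearIndependent (f := toLin' A.1) fun v hv => by
    obtain ⟨c, hc⟩ := k v
    have := (LinearIndependent.pair_iff.1 hv c (-1) (by simp [hc])).2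
    simp at this
  have : A.1 = c • 1 := toLin'.injective (by rw [hc, map_smul, toLin'_one]; rfl)
  exact h (Subgroup.mem_center_iff.2 fun g => Subtype.ext (by simp [this]))

theorem tr_surj (hd : 3 ≤ d) {A B : SpecialLinearGroup (Fin d) F} (hA : A ∉ Subgroup.center _) (hB : B ∉ Subgroup.center _) (s : F) :
    ∃ k : SpecialLinearGroup (Fin d) F, trace (A * (k * B * k⁻¹)).1 = s := by
  obtain ⟨v, hv⟩ := nonscal hA
  obtain ⟨w, hw⟩ := nonscal hB
  obtain ⟨φ, n, a, b⟩ := sep2 hd v (A.1 *ᵥ v)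
  obtain ⟨g, hg⟩ : ∃ g : SpecialLinearGroup (Fin d) F,
      trace (g.1 * B.1 * (g⁻¹).1 * (vecMulVec (A.1 *ᵥ v) φ - vecMulVec v (φ ᵥ* A.1))) ≠ 0 := by
    by_contra! k
    obtain ⟨x, -, hx⟩ := sep1 (x := φ) (y := 0) (by simpa using n.symm)
    rw [dotProduct_comm] at hx
    have e : (vecMulVec (A.1 *ᵥ v) φ - vecMulVec v (φ ᵥ* A.1)) *ᵥ x = A.1 *ᵥ v - (φ ᵥ* A.1 ⬝ᵥ x) • v := by
      simp [sub_mulVec, vecMulVec_mulVec, hx]
    obtain ⟨χ, p, q⟩ := sep1 (x := A.1 *ᵥ v - (φ ᵥ* A.1 ⬝ᵥ x) • v) (y := x) fun c hc => by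
      have := congrArg (φ ⬝ᵥ ·) hc
      simp only [dotProduct_smul, hx, dotProduct_sub, a, b, smul_eq_mul, mul_one, mul_zero, sub_zero] at this
      rw [this, zero_smul, eq_comm, sub_eq_zero] at hc
      exact hv _ hc.symm
    have := W.zero hd k hw p
    rw [e, q] at this
    exact one_ne_zero this
  have gB : g.1 * B.1 * (g⁻¹).1 = (g * B * g⁻¹).1 := rfl
  rw [gB] at hg
  have key : ∀ (t : F) (h : φ ⬝ᵥ (t • v) = 0), trace (A * (tv h * g * B * (tv h * g)⁻¹)).1 = trace (A * (g * B * g⁻¹)).1 +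
      t * trace ((g * B * g⁻¹).1 * (vecMulVec (A.1 *ᵥ v) φ - vecMulVec v (φ ᵥ* A.1))) := fun t h => by
    rw [show tv h * g * B * (tv h * g)⁻¹ = tv h * (g * B * g⁻¹) * (tv h)⁻¹ by group]
    generalize g * B * g⁻¹ = Y
    rw [cm, cm, cm, tv_inv, cm]
    simp only [tv, mul_sub, add_mul, mul_add, one_mul, mul_one, trace_sub, trace_add, vecMulVec_mul, mul_vecMulVec, trace_vecMulVec,
      vecMulVec_mulVec, mulVec_smul, smul_dotProduct, dotProduct_comm _ (φ ᵥ* _), dotProduct_comm _ φ, ← dotProduct_mulVec,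
      add_mulVec, mulVec_add, dotProduct_add, dotProduct_smul, b, smul_eq_mul, op_smul_eq_smul, mul_zero]
    ring
  exact ⟨_, (key ((s - trace (A * (g * B * g⁻¹)).1) / _) (by simp [a])).trans (by rw [div_mul_cancel₀ _ hg]; ring)⟩

theorem main (hd : 3 ≤ d) (a b : ProjectiveSpecialLinearGroup (Fin d) F) (ha : a ≠ 1) (hb : b ≠ 1) :
    ∃ g h : ProjectiveSpecialLinearGroup (Fin d) F, ¬ IsConj (a * b) (g * a * g⁻¹ * (h * b * h⁻¹)) := by
  by_contra! k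
  obtain ⟨A, rfl⟩ := QuotientGroup.mk_surjective a
  obtain ⟨B, rfl⟩ := QuotientGroup.mk_surjective b
  obtain ⟨k0, h0⟩ := tr_surj hd (mt (QuotientGroup.eq_one_iff A).2 ha) (mt (QuotientGroup.eq_one_iff B).2 hb) 0
  obtain ⟨k1, h1⟩ := tr_surj hd (mt (QuotientGroup.eq_one_iff A).2 ha) (mt (QuotientGroup.eq_one_iff B).2 hb) 1
  obtain ⟨c, hc⟩ := isConj_iff.1 ((k 1 k0).symm.trans (k 1 k1))
  obtain ⟨C, rfl⟩ := QuotientGroup.mk_surjective c
  simp only [one_mul, inv_one, mul_one, ← QuotientGroup.mk_inv, ← QuotientGroup.mk_mul, QuotientGroup.eq] at hc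
  obtain ⟨r, -, hr⟩ := Matrix.SpecialLinearGroup.mem_center_iff.1 hc
  generalize A * (k0 * B * k0⁻¹) = X0 at h0 hr
  generalize A * (k1 * B * k1⁻¹) = X1 at h1 hr
  have : X1.1 = (C * X0 * C⁻¹).1 * scalar _ r := by rw [hr, ← cm, mul_inv_cancel_left]
  rw [this, scalar_apply, ← smul_one_eq_diagonal, Matrix.mul_smul, mul_one, trace_smul, cm,
    cm, trace_mul_comm, ← mul_assoc, ← cm, inv_mul_cancel, co,
    one_mul, h0, smul_zero] at h1
  exact zero_ne_one h1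

end H6.RU2
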