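import Cfsg.Agent.H6.TwRee
import Cfsg.Agent.H5.SL2X

/-!
Steinberg's presentation of `SL₂` (`exists_sl2_hom`), the root homomorphisms `SL₂ → G`, and the abstract
description `Ree.ReS` of the small Ree groups together with its model `Ree.model`.
-/

namespace H6

open H5 Matrix

section sl2

variable {F : Type*} [Field F] {G : Type*} [Group G]

/-- lower unitriangular matrices -/
abbrev lo (b : F) : SL2 F := sl2 1 0 b 1 (by simp)
/-- the Weyl element -/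
abbrev w2 : SL2 F := sl2 0 1 (-1) 0 (by simp)
/-- diagonal matrices -/
abbrev dg (b : Fˣ) : SL2 F := sl2 b 0 0 (b⁻¹ : Fˣ) (by simp)

lemma up_mul (a b : F) : up a * up b = up (a + b) := by simp [sl2_mul, sl2_eq_iff, add_comm]

lemma w2_eq : (w2 : SL2 F) = up 1 * lo (-1) * up 1 := by simp [sl2_mul, sl2_eq_iff]

lemma w2_up (t : F) : w2 * up t * w2⁻¹ = lo (-t) := by simp [sl2_mul, sl2_eq_iff, sl2_inv]

lemma sl2_bruhat (g : SL2 F) : (∃ t b, g = up t * dg b) ∨ ∃ t b s, g = up t * dg b * w2 * up s := by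
  obtain ⟨a, b, c, d, h, rfl⟩ := exists_sl2 g
  by_cases hc : c = 0
  · subst hc
    have ha : a ≠ 0 := by rintro rfl; simp at h
    refine Or.inl ⟨a * b, Units.mk0 a ha, ?_⟩
    simp only [sl2_mul, sl2_eq_iff, Units.val_mk0, Units.val_inv_eq_inv_val]
    grind
  · refine Or.inr ⟨a / c, Units.mk0 (-c⁻¹) (by simpa), d / c, ?_⟩
    simp only [sl2_mul, sl2_eq_iff, Units.val_mk0, Units.val_inv_eq_inv_val]
    grind

lemma dg_eq (b : Fˣ) : (dg b : SL2 F) = up b.1 * lo (-(b : F)⁻¹) * up b.1 * (up (-1) * lo (-(-1)⁻¹) * up (-1)) := by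
  simp [sl2_mul, sl2_eq_iff]

lemma sl2_ind {M : Submonoid (SL2 F)} (h1 : ∀ t, up t ∈ M) (h2 : w2 ∈ M) (g : SL2 F) : g ∈ M := by
  have h3 : ∀ t, lo t ∈ M := fun t => by
    have : lo t = w2 * up (-t) * (w2 * w2 * w2) := by simp [sl2_mul, sl2_eq_iff]
    exact this ▸ mul_mem (mul_mem h2 (h1 _)) (mul_mem (mul_mem h2 h2) h2)
  have h4 : ∀ b, dg b ∈ M := fun b => dg_eq b ▸
    mul_mem (mul_mem (mul_mem (h1 _) (h3 _)) (h1 _)) (mul_mem (mul_mem (h1 _) (h3 _)) (h1 _))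
  obtain ⟨t, b, rfl⟩ | ⟨t, b, s, rfl⟩ := sl2_bruhat g
  exacts [mul_mem (h1 _) (h4 _), mul_mem (mul_mem (mul_mem (h1 _) (h4 _)) h2) (h1 _)]

lemma hom_mem {φ : SL2 F →* G} {M : Subgroup G} (h1 : ∀ t, φ (up t) ∈ M) (h2 : ∀ t, φ (lo t) ∈ M)
    (g : SL2 F) : φ g ∈ M :=
  sl2_ind (M := (M.comap φ).toSubmonoid) h1 (w2_eq (F := F) ▸
    (M.comap φ).mul_mem ((M.comap φ).mul_mem (h1 _) (h2 _)) (h1 _)) g

open Classical in
theorem exists_sl2_hom (x y n : F → G) (hx : ∀ t u, x (t + u) = x t * x u)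
    (hn : ∀ t, n t = x t * y (-t⁻¹) * x t) (hi : ∀ t, n (-t) = (n t)⁻¹)
    (hA : ∀ t ≠ 0, ∀ u, n t * x u * (n t)⁻¹ = y (-(t⁻¹ ^ 2 * u)))
    (hB : ∀ t ≠ 0, ∀ u ≠ 0, n t * n (-1) * (n u * n (-1)) = n (t * u) * n (-1)) :
    ∃ φ : SL2 F →* G, (∀ t, φ (up t) = x t) ∧ ∀ t, φ (lo t) = y t := by
  have x0 : x 0 = 1 := by simpa using hx 0 0
  have hxx : ∀ t u g, x t * (x u * g) = x (t + u) * g := fun t u g => by rw [hx, mul_assoc]
  have hh : ∀ a ≠ 0, ∀ t, n a * n (-1) * x t = x (a ^ 2 * t) * (n a * n (-1)) := fun a ha t => by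
    have h1 := hA (-1) (by simp) t
    have h2 := hA (-a) (by simpa) (a ^ 2 * t)
    rw [show (-a)⁻¹ ^ 2 * (a ^ 2 * t) = (-1)⁻¹ ^ 2 * t by field_simp, ← h1, hi a] at h2
    simpa [mul_assoc] using congrArg (fun z => n a * z * n (-1)) h2.symm
  have hn1 : ∀ a ≠ 0, ∀ b ≠ 0, n a * n (-1) * n b = n (a * b) := fun a ha b hb => by
    exact mul_right_cancel (b := n (-1)) ((mul_assoc _ _ _).trans (hB a ha b hb))
  have h11 : ∀ a ≠ 0, n a * n 1 = n (-a) * n (-1) := fun a ha => by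
    have := hn1 (-a) (by simpa) (-1) (by simp)
    rw [neg_mul_neg, mul_one] at this
    rw [← this, hi 1]; simp
  let ψ : SL2 F → G := fun g => if g 1 0 = 0 then x (g 0 0 * g 0 1) * (n (g 0 0) * n (-1)) else
    x (g 0 0 / g 1 0) * n (-(g 1 0)⁻¹) * x (g 1 1 / g 1 0)
  have ψ0 : ∀ a b d h, ψ (sl2 a b 0 d h) = x (a * b) * (n a * n (-1)) := fun a b d h => if_pos rfl
  have ψ1 : ∀ a b c d h, c ≠ 0 → ψ (sl2 a b c d h) = x (a / c) * n (-c⁻¹) * x (d / c) :=
    fun a b c d h hc => if_neg hc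
  have e1 : ψ 1 = 1 := by rw [one_eq_sl2, ψ0, hi]; simp [x0]
  have eu : ∀ t, ψ (up t) = x t := fun t => by rw [ψ0, hi]; simp
  have ew : ψ w2 = n 1 := by rw [ψ1 _ _ _ _ _ (by simp)]; simp [x0]
  have key := sl2_ind (M := ⟨⟨{s | ∀ g, ψ (g * s) = ψ g * ψ s}, fun {a b} ha hb g => by
    rw [← mul_assoc, hb, ha, hb, mul_assoc]⟩, fun g => by simp [e1]⟩) (fun t g => ?_) fun g => ?_
  · refine ⟨MonoidHom.mk' ψ fun a b => key b a, eu, fun t => ?_⟩
    have := key w2 (lo t)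
    rw [show lo t * w2 = w2 * up (-t) by simp [sl2_mul, sl2_eq_iff], key, eu, ew] at this
    simpa [this] using hA 1 one_ne_zero (-t)
  · obtain ⟨a, b, c, d, h, rfl⟩ := exists_sl2 g
    rw [eu, sl2_mul]
    by_cases hc : c = 0
    · subst hc
      simp only [zero_mul, mul_zero, add_zero, zero_add, mul_one, ψ0]
      rw [mul_assoc _ _ (x t), hh a (by rintro rfl; simp at h), ← mul_assoc (x (a * b)), ← hx]
      congr 2; ring
    · simp only [mul_zero, add_zero, mul_one]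
      rw [ψ1 _ _ _ _ _ hc, ψ1 _ _ _ _ _ hc, mul_assoc _ (x _), ← hx]
      congr 2; field_simp; ring
  · obtain ⟨a, b, c, d, h, rfl⟩ := exists_sl2 g
    rw [ew, sl2_mul]
    simp only [mul_zero, add_zero, zero_add, mul_one, mul_neg]
    by_cases hc : c = 0
    · subst hc
      have ha : a ≠ 0 := by rintro rfl; simp at h
      obtain rfl : d = a⁻¹ := by grind
      rw [ψ0, ψ1 _ _ _ _ _ (by simpa), mul_assoc (x _) _ (n 1), hn1 a ha 1 one_ne_zero]
      simp [x0, mul_comm]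
    by_cases hd : d = 0
    · subst hd
      obtain rfl : b = -c⁻¹ := by grind
      simp only [neg_zero, ψ0, ψ1 _ _ _ _ _ hc, zero_div, x0, mul_one]
      rw [mul_assoc, h11 _ (by simpa)]
      congr 2; field_simp
    have h1 : x (d / c) * n 1 = n 1 * (x (-(c / d)) * n (c / d) * x (-(c / d))) := by
      have := hA (-1) (by simp) (d / c)
      rw [hn (c / d), inv_div, show -(d / c) = -((-1)⁻¹ ^ 2 * (d / c)) by simp, ← this, hi 1]
      simp [mul_assoc, hxx, ← hx, x0]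
    rw [ψ1 _ _ _ _ _ hc, ψ1 _ _ _ _ _ (by simpa), mul_assoc _ (x _) (n 1), h1]
    simp only [← mul_assoc]
    rw [mul_assoc (x _) _ (n 1), h11 _ (by simpa), mul_assoc (x (a / c)), hh _ (by simpa), hxx,
      mul_assoc _ _ (n (c / d)), hn1 _ (by simpa) _ (by simp [hc, hd])]
    congr 3 <;> field_simp
    linear_combination -h

variable {Φ ι : Type} [Fintype ι] [DecidableEq ι] {R : RS Φ ι} {S : StSys R F G}

lemma StSys.NConj.n_x_self (hN : S.NConj) (r : Φ) {t : F} (ht : t ≠ 0) (u : F) :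
    S.n r t * S.x r u * (S.n r t)⁻¹ = S.x (R.neg r) (-(t⁻¹ ^ 2 * u)) := by
  obtain ⟨w, i, rfl⟩ := R.exists_act_simple r
  obtain ⟨g, -, c, hc⟩ := hN.exists_acts w
  have h0 := hc.ne (R.simple i)
  have h1 := hN i ((c (R.simple i))⁻¹ * t) (by simp [h0, ht]) (R.simple i) ((c (R.simple i))⁻¹ * u)
  rw [show t = c (R.simple i) * ((c (R.simple i))⁻¹ * t) by field_simp, ← hc.conj_n,
    show u = c (R.simple i) * ((c (R.simple i))⁻¹ * u) by field_simp, ← hc.conj, ← R.act_neg]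
  refine (show _ = g * (_ * _ * _) * g⁻¹ by group).trans ((congrArg (g * · * g⁻¹) h1).trans ?_)
  simp only [R.refl_simple_self, hc.conj, hc.neg, R.eta_simple, R.A_simple_self]
  congr 1
  simp only [_root_.zpow_neg, zpow_ofNat]
  field_simp; simp

theorem StSys.NConj.exists_sl2 (hN : S.NConj) (h3 : S.R3) (r : Φ) : ∃ φ : SL2 F →* G,
    (∀ t, φ (up t) = S.x r t) ∧ ∀ t, φ (lo t) = S.x (R.neg r) t :=
  exists_sl2_hom _ _ (S.n r) (S.add r) (fun _ => rfl) (S.n_neg r) (fun _ => hN.n_x_self r) fun t ht u => h3 r t u ht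

end sl2

namespace Ree

/-- the field data -/
structure Par (K : Type*) [Field K] [Fintype K] where
  /-- the parameter -/
  m : ℕ
  hK : Fintype.card K = 3 ^ (2 * m + 1)
  /-- the field endomorphism -/
  f : K →+* K
  hff : ∀ t, f (f t) ^ 3 = t

variable {K : Type*} [Field K] [Fintype K]

/-- abstract small Ree groups -/
structure ReS (P : Par K) (G : Type*) [Group G] where
  /-- unipotent elements -/
  x : K → K → K → G
  /-- torus -/
  D : Kˣ →* G
  /-- the subgroup `L₂(q)` -/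
  φ : SL2 K →* G
  x_mul : ∀ t u v t' u' v', x t u v * x t' u' v' = x (t + t') (u + u' - P.f t' ^ 3 * t)
    (v + v' - P.f t' ^ 3 * t ^ 2 - t' * (u - P.f t' ^ 3 * t))
  x_inj : ∀ {t u v t' u' v'}, x t u v = x t' u' v' ↔ t = t' ∧ u = u' ∧ v = v'
  D_x : ∀ a t u v, D a * x t u v * (D a)⁻¹ =
    x (a ^ 2 * (P.f a ^ 3)⁻¹ * t) (P.f a ^ 3 * (a : K)⁻¹ * u) (a * v)
  φ_up : ∀ u, φ (up u) = x 0 u 0
  φ_dg : ∀ b c : Kˣ, (c : K) = b * P.f b ^ 3 → φ (dg b) = D c
  W_H : ∀ c, ∃ c', φ w2 * D c * (φ w2)⁻¹ = D c'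
  opp : ∀ t u v t' u' v' c, φ w2 * x t u v * (φ w2)⁻¹ = x t' u' v' * D c → x t u v = 1
  bruhat : ∀ g, (∃ t u v c, g = x t u v * D c) ∨
    ∃ t u v c t' u' v', g = x t u v * D c * φ w2 * x t' u' v'
  simple : 1 ≤ P.m → IsSimpleGroup G
  /-- the seven-dimensional representation -/
  rep : G →* Matrix (Fin 7) (Fin 7) K
  rep_ne : ∃ g, rep g ≠ 1

open Chev G2 Cfsg.Lie StSys Tw

/-- the basis of the ideal generated by the short roots -/
def e7 (i : Fin 7) : chevG2.Idx := ![.inl (nd 0), .inr (rt 2), .inr (rt 3), .inr (rt 4), .inr (rt 7),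
  .inr (rt 8), .inr (rt 9)] i

/-- numbering of the basis -/
def code (k : chevG2.Idx) : ℕ := Sum.elim (fun i => chevG2.nroots + i.1) (fun r => r.1) k

omit [Fintype K] in
lemma bv_code (c : ℕ) (k : chevG2.Idx) : bv chevG2 K c k = if c = code k then 1 else 0 := by
  rcases k with ⟨i, hi⟩ | ⟨r, hr⟩ <;> by_cases h : c < chevG2.nroots <;> simp only [bv, code, eV, hV, hC, h, if_true,
    if_false, Sum.elim_inl, Sum.elim_inr]
  · exact (if_neg (by omega)).symm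
  · exact if_congr (by omega) rfl rfl
  · exact if_congr eq_comm rfl rfl
  · exact (if_neg (by omega)).symm

/-- matrices leaving the ideal invariant -/
def inv7 : Submonoid (Matrix chevG2.Idx chevG2.Idx K) where
  carrier := {g | ∀ k j, (∀ i, e7 i ≠ k) → g k (e7 j) = 0}
  one_mem' k j h := one_apply_ne (h j).symm
  mul_mem' {a b} ha hb k j h := (mul_apply ..).trans <| Finset.sum_eq_zero fun l _ => by
    by_cases hl : ∃ i, e7 i = l
    · obtain ⟨i, rfl⟩ := hl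
      rw [ha k i h, zero_mul]
    · rw [hb l j (not_exists.1 hl), mul_zero]

omit [Fintype K] in
lemma mem_inv7 [CharP K 3] {g : GL chevG2.Idx K} (hg : g ∈ (certG2.sys K).grp) : g.1 ∈ inv7 := by
  have key : ∀ r t, ((certG2.sys K).x r t).1 ∈ inv7 := fun r t k j hk => by
    have h1 : bv chevG2 K (code (e7 j)) = Pi.single (e7 j) 1 := funext fun l => by
      rw [bv_code, Pi.single_apply]
      exact if_congr ((by decide +kernel : ∀ j l, code (e7 j) = code l ↔ l = e7 j) j l) rfl rfl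
    have h2 := congrFun (x_bv certG2.link r.2 t (code (e7 j))) k
    rw [h1, mulVec_single_one] at h2
    refine (certG2.sys_x r t ▸ h2 :).trans ?_
    rw [evC, Pi.list_sum_apply, List.map_map]
    refine List.sum_eq_zero fun z hz => ?_
    obtain ⟨e, he, rfl⟩ := List.mem_map.1 hz
    rcases (by decide +kernel : ∀ (r : Fin chevG2.nroots) j k, (∀ i, e7 i ≠ k) →
      ∀ e ∈ xcol certG2.Z r (code (e7 j)), 3 ∣ e.2.2 ∨ e.1 ≠ code k) r j k hk e he with h | h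
    · simp [(CharP.intCast_eq_zero_iff K 3 _).2 h]
    · simp [bv_code, h]
  refine (Subgroup.closure_induction (p := fun g _ => g.1 ∈ inv7 ∧ g⁻¹.1 ∈ inv7) ?_
    ⟨one_mem _, one_mem _⟩ (fun a b _ _ ha hb => ⟨mul_mem ha.1 hb.1, ?_⟩) (fun a _ ha => ha.symm) hg).1
  · rintro _ ⟨r, -, t, rfl⟩
    exact ⟨key r t, (certG2.sys K).x_neg r t ▸ key r _⟩
  · rw [_root_.mul_inv_rev]; exact mul_mem hb.2 ha.2

/-- restriction to the ideal -/
def res7 : inv7 (K := K) →* Matrix (Fin 7) (Fin 7) K where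
  toFun g := g.1.submatrix e7 e7
  map_one' := submatrix_one _ (by decide +kernel)
  map_mul' a b := by
    ext i j
    change ∑ l, a.1 (e7 i) l * b.1 l (e7 j) = ∑ l, a.1 (e7 i) (e7 l) * b.1 (e7 l) (e7 j)
    rw [← Finset.sum_subset (Finset.subset_univ (Finset.univ.image e7)) fun l _ hl => ?_,
      Finset.sum_image fun _ _ _ _ e => (by decide +kernel : Function.Injective e7) e]
    rw [b.2 l j (by simpa using hl), mul_zero]

theorem exists_model {m : ℕ} (hK : Fintype.card K = 3 ^ (2 * m + 1)) : ∃ f hf,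
    ∃ X : ReS ⟨m, hK, f, hf⟩ (twistedG2 K (3 ^ m)),
      (∀ g : twistedG2 K (3 ^ m), g.1 ∈ chevG2.posUnipotent K ↔ ∃ t u v, g = X.x t u v) ∧
      (∀ g : twistedG2 K (3 ^ m), g.1 ∈ chevG2.diagonalSubgroup K ↔ ∃ a, X.D a = g) ∧
      ∀ g : twistedG2 K (3 ^ m), g.1 ∈ chevG2.borelSubgroup K ↔ ∃ t u v a, g = X.x t u v * X.D a := by
  obtain ⟨X, f, h⟩ := exists_pack hK
  have := h.char
  set S := certG2.sys K
  have hB : ∀ g : twistedG2 K (3 ^ m), g.1 ∈ S.B ↔ ∃ t u v a, g = h.x t u v * h.D hK a := fun g =>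
    ⟨fun hg => by
      obtain ⟨u, hu, y, hy, e⟩ := h.good.mem_B ⟨hg, g.2⟩
      obtain ⟨t, u, v, e1⟩ := (h.mem_iff (g := ⟨u, hu.2⟩)).1 hu.1
      obtain ⟨a, e2⟩ := (h.mem_H hK (g := ⟨y, hy.2⟩)).1 hy.1
      exact ⟨t, u, v, a, by rw [← e1, e2]; exact Subtype.ext e⟩, by
      rintro ⟨t, u, v, a, rfl⟩
      exact mul_mem (S.Up_le_B (h.mem_iff.2 ⟨_, _, _, rfl⟩)) (S.H_le_B ((h.mem_H hK).2 ⟨_, rfl⟩))⟩
  obtain ⟨α, a1, a2⟩ := S.nconj.exists_sl2 certG2.r3 (rt 8)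
  obtain ⟨β, b1, b2⟩ := S.nconj.exists_sl2 certG2.r3 (rt 10)
  have hc : ∀ g g', Commute (α g) (β g') := fun g g' => by
    have c := fun i j e t u => (certG2.commute 3 (CharP.cast_eq_zero K 3) S.toStSys i j e t u).eq
    refine Subgroup.mem_centralizer_singleton_iff.1 (hom_mem (fun t => ?_) (fun t => ?_) g) <;>
    refine Subgroup.mem_centralizer_singleton_iff.2 (Subgroup.mem_centralizer_singleton_iff.1
      (hom_mem (fun u => ?_) (fun u => ?_) g')).symm <;>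
    simp only [a1, a2, b1, b2, Subgroup.mem_centralizer_singleton_iff] <;> exact c _ _ (by decide +kernel) _ _
  let ψ : SL2 K →* GL chevG2.Idx K := MonoidHom.mk' (fun g => α (SpecialLinearGroup.map f g) * β g) fun a b => by
    simp only [map_mul, mul_assoc]
    rw [← mul_assoc (α _) (β a), (hc _ a).eq, mul_assoc]
  have ψu : ∀ u, ψ (up u) = (h.x 0 u 0).1 := fun u => by
    change α _ * β _ = S.wd _
    simp [slmap_sl2, a1, b1, wU, wd_cons]
  have ψl : ∀ u, ψ (lo u) = S.wd ((wU f 0 (-u) 0).map fun p => (certG2.R.neg p.1, -p.2)) := fun u => by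
    change α _ * β _ = S.wd _
    simp [slmap_sl2, a2, b2, wU, wd_cons]
  let φ := ψ.codRestrict (twistedG2 K (3 ^ m))
    (hom_mem (fun u => ψu u ▸ (h.x 0 u 0).2) fun u => ψl u ▸ h.wV_mem _ _ _)
  have hn : ∀ (γ : SL2 K →* _) r, (∀ t, γ (up t) = S.x r t) → (∀ t, γ (lo t) = S.x (certG2.R.neg r) t) →
      γ w2 = S.n r 1 ∧ ∀ b : Kˣ, γ (dg b) = S.h r b := fun γ r c1 c2 =>
    ⟨by simp [w2_eq, c1, c2, StSys.n], fun b => by rw [dg_eq]; simp only [map_mul, c1, c2]; rfl⟩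
  have hW : (φ w2).1 ∈ S.N := by
    change α _ * β _ ∈ _
    simp only [slmap_sl2, map_one, map_zero, map_neg, (hn _ _ a1 a2).1, (hn _ _ b1 b2).1]
    exact mul_mem (S.n_mem_N _ one_ne_zero) (S.n_mem_N _ one_ne_zero)
  have h2 : ∀ w ∈ symG2.W1, w = 1 ∨ w = symG2.w 0 := fun w hw => Sym.eq_one_or hw (by
    rw [show symG2.J {0} = Set.univ from Set.eq_univ_of_forall fun i => Subsingleton.elim _ _, RS.WJ_univ]
    trivial)
  have hw : S.Acts (φ w2) (symG2.w 0) := by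
    obtain ⟨w, hw⟩ := S.nconj.exists_acts_of_mem_N hW
    rcases h2 w (mem_W1 hW (h.good.le (φ w2).2) hw) with rfl | rfl
    · have h3 : ψ (lo (-1)) ∈ S.Up := by
        rw [← w2_up, map_mul, map_mul, map_inv, ψu]
        exact hw.conj_mem_U (fun r hr => by simpa using hr) (h.mem_iff.2 ⟨_, _, _, rfl⟩)
      have h4 := S.eq_one_of_mem_Um_B (ψl _ ▸ S.wd_mem fun p hp => by
        obtain ⟨p', hp', rfl⟩ := List.mem_map.1 hp
        exact fun e => (certG2.R.pos_neg_iff _).1 e ((P0 _).1 (List.mem_map_of_mem (f := Prod.fst) hp')).1)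
        (S.Up_le_B h3)
      rw [← w2_up, map_mul, map_mul, map_inv, ψu, mul_inv_eq_one, mul_eq_left] at h4
      exact absurd (h.x_inj.1 ((Subtype.ext h4).trans h.x_zero.symm)).2.1 one_ne_zero
    · exact hw
  refine ⟨f, h.hff, ⟨h.x, h.D hK, φ, h.x_mul, h.x_inj, h.D_x hK, fun u => Subtype.ext (ψu u), fun b c e => ?_,
    fun c => ?_, fun t u v t' u' v' c e => ?_, fun g => ?_, fun hm => (h.simple hK hm).1,
    res7.comp (((Units.coeHom _).comp (Subgroup.subtype _)).codRestrict _ fun g => mem_inv7 (h.good.le g.2).1),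
    h.x 0 0 1, fun e => ?_⟩, fun g => by rw [certG2.posUnipotent_eq, h.mem_iff],
    fun g => by rw [certG2.diagonalSubgroup_eq, h.mem_H hK], fun g => by rw [certG2.borelSubgroup_eq, hB]⟩
  · have e1 : (φ (dg b)).1 = S.h (rt 8) (f b) * S.h (rt 10) b := by
      rw [← (hn _ _ b1 b2).2, ← show ((Units.map f.toMonoidHom b : Kˣ) : K) = f b from rfl, ← (hn _ _ a1 a2).2]
      exact congrArg (α · * _) (by simp [slmap_sl2, sl2_eq_iff])
    have hb : f b ≠ 0 := by simp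
    obtain ⟨d, hd⟩ := (h.mem_H hK (g := φ (dg b))).1 (e1 ▸ mul_mem (S.h_mem_H _ hb) (S.h_mem_H _ b.ne_zero))
    have e2 := h.D_x hK d 0 0 1
    have e4 := ((S.nconj.actsC_h (rt 8) hb).mul (S.nconj.actsC_h (rt 10) b.ne_zero))
    rw [mul_one, ← e1] at e4
    have e3 := (h.x_inj.1 ((h.eq_x (g := φ (dg b) * h.x 0 0 1 * (φ (dg b))⁻¹) (e4.conj_wd _)).symm.trans
      (hd ▸ e2 :))).2.2
    rw [← hd, show d = c from Units.ext ?_]
    simp only [RS.act_one, show certG2.R.pair (rt 8) (rt 11) = 3 by decide +kernel,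
      show certG2.R.pair (rt 10) (rt 11) = 1 by decide +kernel] at e3
    rw [e, mul_comm]
    simpa [zpow_ofNat] using e3.symm
  · exact ((h.mem_H hK).1 (S.nconj.conj_mem_H hW ((h.mem_H hK).2 ⟨c, rfl⟩))).imp fun _ => Eq.symm
  · have h3 := S.eq_one_of_mem_Um_B (g := (φ w2 * h.x t u v * (φ w2)⁻¹).1) (hw.conj_mem_U
      (fun r hr => (symG2.act_w_P (P_eq.ge hr)).1) (h.mem_iff.2 ⟨_, _, _, rfl⟩)) ((hB _).2 ⟨_, _, _, _, e⟩)
    simpa [mul_inv_eq_one] using (Subtype.ext h3 : φ w2 * h.x t u v * (φ w2)⁻¹ = 1)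
  · obtain ⟨u, hu, n, hn, w, hw1, hnw, v, hv, e⟩ := h.good.exists_unu g.2
    rcases h2 w hw1 with rfl | rfl
    · exact Or.inl ((hB g).1 (e ▸ mul_mem (mul_mem (S.Up_le_B hu.1) (S.H_le_B (S.mem_H_of_acts hn.1 hnw)))
        (S.U_inv_le_B _ hv.1)))
    obtain ⟨t₁, u₁, v₁, e1⟩ := (h.mem_iff (g := ⟨u, hu.2⟩)).1 hu.1
    obtain ⟨t₂, u₂, v₂, e2⟩ := (h.mem_iff (g := ⟨v, hv.2⟩)).1 (S.U_mono (fun _ h => h.1) hv.1)
    obtain ⟨a, e3⟩ := (h.mem_H hK (g := ⟨n, hn.2⟩ * (φ w2)⁻¹)).1 (S.mem_H_of_acts (mul_mem hn.1 (inv_mem hW))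
      (by simpa using hnw.mul hw.inv))
    exact Or.inr ⟨t₁, u₁, v₁, a, t₂, u₂, v₂, by rw [← e1, ← e2, e3]; exact Subtype.ext (by simp [e, mul_assoc])⟩
  · have h3 : (S.wd (wU f 0 0 1)).1 (.inr (rt 9)) (.inl (nd 0)) = 0 := congrFun₂ e 6 0
    replace h3 := (mulVec_hV _ _ _).trans h3
    simp only [wU, wd_cons, map_zero, map_one, mul_zero, zero_add, StSys.x_zero, one_mul, wd_nil, mul_one,
      Units.val_mul, ← mulVec_mulVec, S, certG2.sys_x] at h3
    rw [x_hV (rt 11).2 (nd 0).2, show chevG2.cartan (nd 0) (rt 11) = 0 by decide +kernel] at h3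
    simp only [Int.cast_zero, zero_mul, zero_smul, sub_zero] at h3
    rw [x_hV (rt 9).2 (nd 0).2, show chevG2.cartan (nd 0) (rt 9) = 1 by decide +kernel] at h3
    simp [eV, hV, hC] at h3

end Ree

end H6
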