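import Cfsg.Agent.H6.Suz2

/-!
# Suzuki groups III: fixed point free elements, the two anisotropic tori, the partition
-/

noncomputable section

namespace H6.Suz

open Pointwise MulAction Matrix
open scoped commutatorElement

variable {F : Type*} [Field F] [Fintype F] {G : Type*} [Group G]

lemma ncard_roots {A : Type*} [Ring A] [Algebra F A] (hA : IsField A) {p : Polynomial F}
    (hp : p ≠ 0) : {a : A | Polynomial.aeval a p = 0}.Finite ∧
      {a : A | Polynomial.aeval a p = 0}.ncard ≤ p.natDegree := by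
  letI := hA.toField
  have e : {a : A | Polynomial.aeval a p = 0} = p.rootSet A := by
    ext a; simp [Polynomial.mem_rootSet, hp]
  rw [e]
  exact ⟨Polynomial.rootSet_finite _ _, Polynomial.ncard_rootSet_le _ _⟩

lemma cyclic_of_isField {A : Type*} [Ring A] (hA : IsField A) [Finite G] (f : G →* A)
    (hf : Function.Injective f) : IsCyclic G :=
  letI := hA.toField
  isCyclic_of_injective_ringHom (R := A) f hf

section lin

variable {p : ℕ} [hp : Fact p.Prime] (h2 : p ≠ 2) (hd : p ∣ Fintype.card F ^ 2 + 1)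
include h2 hd

theorem irred {M : Matrix (Fin 4) (Fin 4) F} (hM : M ^ p = 1) (h1 : M ≠ 1)
    (W : Submodule F (Fin 4 → F)) (hW : ∀ v ∈ W, M *ᵥ v ∈ W) : W = ⊥ ∨ W = ⊤ := by
  classical
  let C : Submodule F (Fin 4 → F) := LinearMap.eqLocus (toLin' M) LinearMap.id
  have key : ∀ W : Submodule F (Fin 4 → F), (∀ v ∈ W, M *ᵥ v ∈ W) →
      (Fintype.card F : ZMod p) ^ Module.finrank F W =
        (Fintype.card F : ZMod p) ^ Module.finrank F ↥(W ⊓ C) := fun W hW => by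
    let f : Function.End W := fun v => ⟨M *ᵥ v, hW _ v.2⟩
    have hf : ∀ n (v : W), ((f ^ n) v : Fin 4 → F) = (M ^ n) *ᵥ v := fun n => by
      induction n with
      | zero => intro v; rw [pow_zero, pow_zero, one_mulVec]; rfl
      | succ n ih => intro v; rw [pow_succ', pow_succ', ← mulVec_mulVec, ← ih]; rfl
    have := Fintype.ofFinite W
    have h := Equiv.Perm.card_fixedPoints_modEq (f := f) (p := p) (n := 1)
      (funext fun v => Subtype.ext (by rw [hf, pow_one, hM, one_mulVec]; rfl))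
    rw [← Nat.card_eq_fintype_card, ← Nat.card_eq_fintype_card, show Nat.card (Function.fixedPoints f) =
      Nat.card ↥(W ⊓ C) from Nat.card_congr ⟨fun v => ⟨v.1.1, v.1.2, congrArg Subtype.val v.2⟩,
        fun v => ⟨⟨v.1, v.2.1⟩, Subtype.ext v.2.2⟩, fun _ => rfl, fun _ => rfl⟩,
      Module.natCard_eq_pow_finrank (K := F) (V := W),
      Module.natCard_eq_pow_finrank (K := F) (V := ↥(W ⊓ C)), Nat.card_eq_fintype_card] at h
    exact_mod_cast (ZMod.natCast_eq_natCast_iff _ _ _).2 h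
  have ha : (Fintype.card F : ZMod p) ^ 2 + 1 = 0 := by
    exact_mod_cast (ZMod.natCast_eq_zero_iff _ _).2 hd
  have h2' : (2 : ZMod p) ≠ 0 := fun e => h2 ((Nat.prime_dvd_prime_iff_eq hp.out Nat.prime_two).1
    ((ZMod.natCast_eq_zero_iff 2 p).1 e))
  have k2 : ∀ d ≤ 4, (Fintype.card F : ZMod p) ^ d = 1 → d = 0 ∨ d = 4 := fun d hd e => by
    interval_cases d <;> simp <;> grind
  have hle : ∀ W : Submodule F (Fin 4 → F), Module.finrank F W ≤ 4 := fun W => by
    simpa using W.finrank_le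
  have hC : C = ⊥ := by
    have h := key ⊤ fun _ _ => trivial
    rw [top_inf_eq, finrank_top, Module.finrank_fin_fun] at h
    rcases k2 _ (hle C) (by rw [← h]; grind) with e | e
    · exact Submodule.finrank_eq_zero.1 e
    · have := Submodule.eq_top_of_finrank_eq (S := C) (by simpa using e)
      exact absurd (toLin'.injective (LinearMap.eqLocus_eq_top.1 this |>.trans toLin'_one.symm)) h1
  have h := key W hW
  rw [hC, inf_bot_eq, finrank_bot, pow_zero] at h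
  exact (k2 _ (hle W) h).imp Submodule.finrank_eq_zero.1 fun e =>
    Submodule.eq_top_of_finrank_eq (by simpa using e)

theorem cent_prime [Finite G] (ρ : G →* GL (Fin 4) F) (hρ : Function.Injective ρ) {u : G}
    (hu : orderOf u = p) : IsCyclic (Subgroup.centralizer {u}) ∧
      {y | IsConj u y ∧ y ∈ Subgroup.centralizer {u}}.ncard ≤ 4 := by
  let M := (ρ u).1
  have hi : Function.Injective fun g => (ρ g).1 := Units.val_injective.comp hρ
  let C := Subalgebra.centralizer F {M}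
  have : NoZeroDivisors C := ⟨fun {a b} e => or_iff_not_imp_left.2 fun ha => by
    rcases irred h2 hd (M := M) (by rw [← Units.val_pow_eq_pow_val, ← map_pow, ← hu]; simp)
      (fun e => hp.out.one_lt.ne' (hu ▸ orderOf_eq_one_iff.2 (hi (e.trans (by simp)))))
      (LinearMap.ker (toLin' a.1)) (fun v hv => by
        simp only [LinearMap.mem_ker, toLin'_apply] at hv ⊢
        rw [mulVec_mulVec, ← a.2 M rfl, ← mulVec_mulVec, hv, mulVec_zero]) with h | h
    · refine Subtype.ext (toLin'.injective (LinearMap.ext fun v => LinearMap.ker_eq_bot.1 h ?_))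
      simp [show a.1 * b.1 = 0 from congrArg Subtype.val e]
    · exact absurd (Subtype.ext (toLin'.injective (by simpa using h))) ha⟩
  have := NoZeroDivisors.to_isDomain C
  have hC := Finite.isDomain_to_isField C
  have hm : ∀ y ∈ Subgroup.centralizer {u}, (ρ y).1 ∈ C := fun y hy => by
    rintro _ rfl
    rw [← Units.val_mul, ← map_mul, hy u rfl, map_mul, Units.val_mul]
  refine ⟨cyclic_of_isField hC ⟨⟨fun y => ⟨_, hm _ y.2⟩, by simp; rfl⟩,
    fun a b => by simp⟩ fun a b e => Subtype.ext (hi (congrArg Subtype.val e)), ?_⟩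
  obtain ⟨hf, hle⟩ := ncard_roots hC M.charpoly_monic.ne_zero
  refine le_trans ?_ (hle.trans (by simp))
  classical
  refine Set.ncard_le_ncard_of_injOn (fun y => if h : y ∈ Subgroup.centralizer {u} then ⟨_, hm y h⟩
    else 0) (fun y hy => ?_) (fun a ha b hb e => ?_) hf
  · rw [dif_pos hy.2]
    refine Subtype.ext ?_
    obtain ⟨x, rfl⟩ := isConj_iff.1 hy.1
    refine (Polynomial.aeval_algHom_apply C.val _ _).symm.trans ?_
    have e : (ρ (x * u * x⁻¹)).1 = (ρ x).1 * M * (ρ x).1⁻¹ := by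
      rw [map_mul, map_mul, map_inv, Units.val_mul, Units.val_mul, coe_units_inv]
    rw [← charpoly_units_conj (ρ x) M, ← e]
    exact aeval_self_charpoly _
  · simp only [dif_pos ha.2, dif_pos hb.2] at e
    exact hi (congrArg Subtype.val e)

end lin

/-- non-identity elements conjugate into `K` -/
def cls (K : Subgroup G) : Set G := {g | g ≠ 1 ∧ ∃ x, x * g * x⁻¹ ∈ K}

theorem card_cls [Finite G] {K N : Subgroup G}
    (h : ∀ x, ∀ a ∈ K, a ≠ 1 → (x * a * x⁻¹ ∈ K ↔ x ∈ N)) :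
    (cls K).ncard * Nat.card N = Nat.card G * (Nat.card K - 1) := by
  choose! c hc using fun g (hg : g ∈ cls K) => hg.2
  have e : Nat.card K - 1 = ((K : Set G) \ {1}).ncard := by
    rw [Set.ncard_diff_singleton_of_mem K.one_mem]; rfl
  rw [e, ← Nat.card_coe_set_eq, ← Nat.card_coe_set_eq, ← Nat.card_prod, ← Nat.card_prod]
  refine Nat.card_eq_of_bijective (fun z => (z.2 * c z.1, ⟨z.2 * (c z.1 * z.1 * (c z.1)⁻¹) * z.2⁻¹,
    (h _ _ (hc _ z.1.2) (by simpa using z.1.2.1)).2 z.2.2, by simpa using z.1.2.1⟩)) ⟨?_, ?_⟩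
  · rintro ⟨⟨g, hg⟩, n, hn⟩ ⟨⟨g', hg'⟩, n', hn'⟩ e
    simp only [Prod.mk.injEq, Subtype.mk.injEq] at e
    obtain rfl : g = g' := by
      have h2 : n * c g * g * (n * c g)⁻¹ = n' * c g' * g' * (n' * c g')⁻¹ := by
        simpa [mul_assoc] using e.2
      simpa [← e.1] using h2
    simpa using e.1
  · rintro ⟨x, a, ha, h1⟩
    have hg : x⁻¹ * a * x ∈ cls K := ⟨fun e => h1 (by
      simpa [mul_assoc] using congrArg (fun z => x * z * x⁻¹) e), x, by simpa [mul_assoc] using ha⟩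
    exact ⟨⟨⟨_, hg⟩, x * (c (x⁻¹ * a * x))⁻¹, (h _ _ (hc _ hg) (by simpa using hg.1)).1
      (by simpa [mul_assoc] using ha)⟩, by simp [mul_assoc]⟩

lemma exists_prime_pow [Finite G] {g : G} (hg : g ≠ 1) : ∃ n : ℕ, (orderOf (g ^ n)).Prime :=
  ⟨_, (orderOf_pow_orderOf_div (orderOf_pos g).ne' (Nat.minFac_dvd _)).symm ▸
    Nat.minFac_prime (by simpa)⟩

lemma mem_cent {g x : G} : x ∈ Subgroup.centralizer {g} ↔ x * g = g * x :=
  Subgroup.mem_centralizer_singleton_iff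

lemma cent_le_of_cyclic {a g : G} (h : IsCyclic (Subgroup.centralizer {a})) (hg : g * a = a * g) :
    Subgroup.centralizer {a} ≤ Subgroup.centralizer {g} := fun x hx =>
  mem_cent.2 (congrArg Subtype.val (h.isMulCommutative.1.1 ⟨x, hx⟩ ⟨g, mem_cent.2 hg⟩))

lemma eq_of_primes {k M : ℕ} (h1 : k ∣ M) (h2 : k.Coprime (M / k))
    (h : ∀ p, p.Prime → p ∣ M → p ∣ k) : k = M := by
  by_contra h0
  obtain ⟨j, rfl⟩ := h1
  rcases Nat.eq_zero_or_pos k with rfl | hk
  · simp at h0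
  rw [Nat.mul_div_cancel_left _ hk] at h2
  have hj := Nat.minFac_prime (show j ≠ 1 by rintro rfl; simp at h0)
  exact hj.one_lt.ne' (Nat.eq_one_of_dvd_coprimes h2 (h _ hj ((Nat.minFac_dvd j).mul_left _))
    (Nat.minFac_dvd j))

variable {P : Par F}

namespace Par

variable (P)

/-- the order of the field -/
abbrev q : ℕ := 2 ^ (2 * P.m + 1)

lemma eight_le_q : 8 ≤ P.q := by have := P.eight_le; rwa [P.hF] at this

lemma two_dvd_q : 2 ∣ P.q := dvd_pow_self 2 (by omega)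

lemma q_mod_three : P.q % 3 = 2 := by
  rw [q, pow_succ, pow_mul, Nat.mul_mod, Nat.pow_mod]; simp

lemma coprime_B : (P.q ^ 2 + 1).Coprime (P.q ^ 2 * (P.q - 1)) := by
  refine Nat.Coprime.mul_right (Nat.coprime_self_add_left.2 (by simp)) ?_
  obtain ⟨t, ht⟩ : ∃ t, P.q = 2 * t + 2 := by
    obtain ⟨t, ht⟩ := P.two_dvd_q
    have := P.eight_le_q
    exact ⟨t - 1, by omega⟩
  rw [ht, show (2 * t + 2) ^ 2 + 1 = 2 + (2 * t + 1) * (2 * t + 3) by ring,
    show 2 * t + 2 - 1 = 2 * t + 1 from rfl, Nat.coprime_add_mul_left_left]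
  simp

lemma five_le {k : ℕ} (h : k ∣ P.q ^ 2 + 1) (h1 : 1 < k) : 5 ≤ k := by
  have h2 : ¬ 2 ∣ P.q ^ 2 + 1 := by
    obtain ⟨t, ht⟩ := P.two_dvd_q
    rw [ht, show (2 * t) ^ 2 + 1 = 2 * (2 * t ^ 2) + 1 by ring]; omega
  have h3 : ¬ 3 ∣ P.q ^ 2 + 1 := by
    rw [Nat.dvd_iff_mod_eq_zero, Nat.add_mod, Nat.pow_mod, P.q_mod_three]; simp
  by_contra h5
  interval_cases k
  exacts [h2 h, h3 h, h2 (Nat.dvd_trans (by decide) h)]

lemma not_three_dvd : ¬ 3 ∣ P.q ^ 2 * (P.q - 1) * (P.q ^ 2 + 1) := by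
  have := P.q_mod_three
  obtain ⟨t, ht⟩ : ∃ t, P.q = 3 * t + 2 := ⟨P.q / 3, by omega⟩
  rw [ht, show 3 * t + 2 - 1 = 3 * t + 1 from rfl, Nat.dvd_iff_mod_eq_zero]
  simp [Nat.mul_mod, Nat.add_mod, Nat.pow_mod]

end Par

namespace SzS

variable {X : SzS P G}

variable (X) in
/-- fixed point free elements -/
def Fpf (g : G) : Prop := ∀ x, x * g * x⁻¹ ∉ X.B

lemma Fpf.ne_one {g : G} (h : X.Fpf g) : g ≠ 1 := fun e => h 1 (by simp [e])

lemma Fpf.conj {g : G} (h : X.Fpf g) (x : G) : X.Fpf (x * g * x⁻¹) := fun y hy =>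
  h (y * x) (by simpa [mul_assoc] using hy)

lemma tri (g : G) : X.Fpf g ∨ (∃ x, x * g * x⁻¹ ∈ X.U) ∨ ∃ x, ∃ k ≠ 1, x * g * x⁻¹ = X.D k := by
  refine or_iff_not_imp_left.2 fun h => ?_
  simp only [Fpf, not_forall, not_not] at h
  obtain ⟨x, hx⟩ := h
  exact (mem_U_or hx).imp (fun h => ⟨x, h⟩) fun ⟨v, _, k, hk, e⟩ =>
    ⟨v * x, k, hk, by rw [← e]; group⟩

lemma mem_U_of_comm {t x : G} (ht : t ∈ X.U) (h1 : t ≠ 1) (h : x * t = t * x) : x ∈ X.U := by
  refine (mem_U_or (mem_B_of_conj ht h1 (by simpa [h] using X.U_le_B ht))).resolve_right ?_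
  rintro ⟨v, hv, k, hk, e⟩
  exact h1 (by simpa using eq_one_of_comm (conj_mem_U (X.U_le_B hv) ht) hk (by
    rw [← e]; simp [mul_assoc, ← h]; rw [← mul_assoc, h, mul_assoc]))

lemma Fpf.of_comm {g a : G} (h : X.Fpf g) (h1 : a ≠ 1) (e : g * a = a * g) : X.Fpf a := by
  have e' : ∀ x : G, x * g * x⁻¹ * (x * a * x⁻¹) = x * a * x⁻¹ * (x * g * x⁻¹) := fun x => by
    simp [mul_assoc]; rw [← mul_assoc, e, mul_assoc]
  obtain h' | ⟨x, hx⟩ | ⟨x, k, hk, hx⟩ := X.tri a
  · exact h'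
  · exact absurd (X.U_le_B (mem_U_of_comm hx (by simpa) (e' x))) (h x)
  · exact absurd (X.H_le_B (mem_H_of_comm hk (hx ▸ e' x))) (h x)

lemma Fpf.of_mem {g a : G} (h : X.Fpf g) (ha : a ∈ Subgroup.centralizer {g}) (h1 : a ≠ 1) :
    X.Fpf a := h.of_comm h1 (mem_cent.1 ha).symm

lemma Fpf.dvd {g : G} (h : X.Fpf g) (hp : (orderOf g).Prime) : orderOf g ∣ P.q ^ 2 + 1 := by
  by_contra h0
  have := Fact.mk hp
  obtain ⟨x, hx⟩ := (IsPGroup.of_card (p := orderOf g) (G := Subgroup.zpowers g) (n := 1) (by simp)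
    |>.nonempty_fixed_point_of_prime_not_dvd_card (G ⧸ X.B) (by rwa [X.pt_quot.card]))
  obtain ⟨x, rfl⟩ := QuotientGroup.mk_surjective x
  exact h x⁻¹ (by simpa [mul_assoc] using QuotientGroup.eq.1 (hx ⟨g, Subgroup.mem_zpowers g⟩).symm)

lemma fpf_of_dvd {g : G} (h1 : g ≠ 1) (h : orderOf g ∣ P.q ^ 2 + 1) : X.Fpf g := fun x hx => by
  have := Subgroup.orderOf_dvd_natCard _ hx
  rw [X.card_B, show orderOf (x * g * x⁻¹) = orderOf g from
    (MulAut.conj x).orderOf_eq g] at this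
  exact h1 (orderOf_eq_one_iff.1 (Nat.eq_one_of_dvd_coprimes P.coprime_B h this))

lemma Fpf.prime {g : G} (h : X.Fpf g) (hp : (orderOf g).Prime) :
    IsCyclic (Subgroup.centralizer {g}) ∧
      {y | IsConj g y ∧ y ∈ Subgroup.centralizer {g}}.ncard ≤ 4 := by
  have := Fact.mk hp
  have := X.finite
  exact cent_prime (fun e => by have := P.five_le (h.dvd hp) hp.one_lt; omega)
    (P.hF ▸ h.dvd hp) X.rep X.rep_inj rfl

lemma Fpf.exists_prime {g : G} (h : X.Fpf g) : ∃ u, X.Fpf u ∧ (orderOf u).Prime ∧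
    Subgroup.centralizer {u} = Subgroup.centralizer {g} := by
  have := X.finite
  obtain ⟨n, hn⟩ := exists_prime_pow h.ne_one
  have h1 := h.of_comm (fun e => by simp [e] at hn; exact Nat.not_prime_one hn) (Commute.self_pow g n)
  exact ⟨_, h1, hn, le_antisymm (cent_le_of_cyclic (h1.prime hn).1 (Commute.self_pow g n))
    fun x hx => mem_cent.2 (Commute.pow_right (mem_cent.1 hx) n)⟩

theorem Fpf.cyclic {g : G} (h : X.Fpf g) : IsCyclic (Subgroup.centralizer {g}) := by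
  obtain ⟨u, hu, hp, e⟩ := h.exists_prime
  exact e ▸ (hu.prime hp).1

theorem Fpf.cent_eq {g a : G} (h : X.Fpf g) (ha : a ∈ Subgroup.centralizer {g}) (h1 : a ≠ 1) :
    Subgroup.centralizer {a} = Subgroup.centralizer {g} :=
  le_antisymm (cent_le_of_cyclic (h.of_mem ha h1).cyclic (mem_cent.1 ha).symm)
    (cent_le_of_cyclic h.cyclic (mem_cent.1 ha))

lemma Fpf.exists_of_dvd {g : G} (h : X.Fpf g) {p : ℕ} (hp : p.Prime)
    (hd : p ∣ Nat.card (Subgroup.centralizer {g})) : ∃ u ∈ Subgroup.centralizer {g}, orderOf u = p ∧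
      X.Fpf u ∧ Subgroup.centralizer {u} = Subgroup.centralizer {g} := by
  have := X.finite
  have := Fact.mk hp
  obtain ⟨⟨u, hu⟩, e⟩ := exists_prime_orderOf_dvd_card' p hd
  rw [← Subgroup.orderOf_coe] at e
  have h1 : u ≠ 1 := fun e' => hp.one_lt.ne' (e ▸ orderOf_eq_one_iff.2 e')
  exact ⟨u, hu, e, h.of_mem hu h1, h.cent_eq hu h1⟩

theorem Fpf.card_dvd {g : G} (h : X.Fpf g) : Nat.card (Subgroup.centralizer {g}) ∣ P.q ^ 2 + 1 := by
  refine Nat.Coprime.dvd_of_dvd_mul_left (Nat.coprime_of_dvd fun p hp hd hd' => ?_)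
    (X.card_eq ▸ Subgroup.card_subgroup_dvd_card _)
  obtain ⟨u, -, rfl, hu, -⟩ := h.exists_of_dvd hp hd
  exact hp.one_lt.ne' (Nat.eq_one_of_dvd_coprimes P.coprime_B (hu.dvd hp) hd')

lemma Fpf.five_le {g : G} (h : X.Fpf g) : 5 ≤ Nat.card (Subgroup.centralizer {g}) := by
  have := X.finite
  exact P.five_le h.card_dvd (Finite.one_lt_card_iff_nontrivial.2
    ⟨⟨g, mem_cent.2 rfl⟩, 1, fun e => h.ne_one (congrArg Subtype.val e)⟩)

lemma Fpf.exists_sylow {g : G} (h : X.Fpf g) {p : ℕ} [hp : Fact p.Prime] (hg : orderOf g = p) :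
    ∃ S : Sylow p G, g ∈ S ∧ S.1 ≤ Subgroup.centralizer {g} := by
  have := X.finite
  obtain ⟨S, hS⟩ := (IsPGroup.of_card (p := p) (G := Subgroup.zpowers g) (n := 1)
    (by simp [hg])).exists_le_sylow
  have hg' : g ∈ S := hS (Subgroup.mem_zpowers g)
  have : Nontrivial S := ⟨⟨g, hg'⟩, 1, fun e => h.ne_one (congrArg Subtype.val e)⟩
  have := S.2.center_nontrivial
  obtain ⟨⟨z, hz⟩, h1⟩ := exists_ne (1 : Subgroup.center S)
  have hz' : ∀ y ∈ S, y * z = z * y := fun y hy =>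
    congrArg Subtype.val (Subgroup.mem_center_iff.1 hz ⟨y, hy⟩)
  refine ⟨S, hg', fun y hy => ?_⟩
  rw [← h.cent_eq (mem_cent.2 (hz' g hg').symm) fun e => h1 (Subtype.ext (Subtype.ext e))]
  exact mem_cent.2 (hz' y hy)

theorem Fpf.hall {g : G} (h : X.Fpf g) : (Nat.card (Subgroup.centralizer {g})).Coprime
    ((P.q ^ 2 + 1) / Nat.card (Subgroup.centralizer {g})) := by
  have := X.finite
  refine Nat.coprime_of_dvd fun p hp hd hd' => ?_
  have := Fact.mk hp
  obtain ⟨u, -, e, hu, e'⟩ := h.exists_of_dvd hp hd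
  obtain ⟨S, -, hS⟩ := hu.exists_sylow e
  refine S.not_dvd_index (hd'.trans (Nat.dvd_trans ?_ (Subgroup.index_dvd_of_le (e' ▸ hS))))
  obtain ⟨j, hj⟩ := h.card_dvd
  have h1 := (Subgroup.centralizer {g}).card_mul_index
  rw [X.card_eq, show 2 ^ (2 * P.m + 1) = P.q from rfl, hj, mul_left_comm] at h1
  rw [hj, Nat.mul_div_cancel_left _ Nat.card_pos, Nat.eq_of_mul_eq_mul_left Nat.card_pos h1]
  exact Nat.dvd_mul_left _ _

lemma cent_conj (g x : G) :
    Subgroup.centralizer {x * g * x⁻¹} = MulAut.conj x • Subgroup.centralizer {g} := by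
  ext y
  rw [H1.mem_conj_smul, mem_cent, mem_cent]
  constructor <;> intro e
  · simpa [mul_assoc] using congrArg (fun z => x⁻¹ * z * x) e
  · simpa [mul_assoc] using congrArg (fun z => x * z * x⁻¹) e

theorem Fpf.conj_or {g g' : G} (h : X.Fpf g) (h' : X.Fpf g') :
    (∃ x : G, Subgroup.centralizer {g'} = MulAut.conj x • Subgroup.centralizer ({g} : Set G)) ∨
      (Nat.card (Subgroup.centralizer {g})).Coprime (Nat.card (Subgroup.centralizer {g'})) := by
  have := X.finite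
  refine or_iff_not_imp_right.2 fun h0 => ?_
  obtain ⟨p, hp, hd, hd'⟩ := Nat.Prime.not_coprime_iff_dvd.1 h0
  have := Fact.mk hp
  obtain ⟨u, -, e, hu, e1⟩ := h.exists_of_dvd hp hd
  obtain ⟨u', -, e', hu', e1'⟩ := h'.exists_of_dvd hp hd'
  obtain ⟨S, hS, -⟩ := hu.exists_sylow e
  obtain ⟨S', -, hS'⟩ := hu'.exists_sylow e'
  obtain ⟨x, rfl⟩ := exists_smul_eq G S S'
  exact ⟨x, by rw [← e1, ← e1', ← cent_conj,
    hu'.cent_eq (hS' (H1.conj_mem_conj_smul hS)) (hu.conj x).ne_one]⟩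

theorem Fpf.ti {g : G} (h : X.Fpf g) (x : G) (a : G) (ha : a ∈ Subgroup.centralizer {g}) (h1 : a ≠ 1) :
    x * a * x⁻¹ ∈ Subgroup.centralizer {g} ↔
      x ∈ Subgroup.normalizer (Subgroup.centralizer {g} : Set G) :=
  ⟨fun e => H1.conj_smul_eq_self_iff.1 (by
    rw [← h.cent_eq ha h1, ← cent_conj, h.cent_eq e (by simpa), h.cent_eq ha h1]), fun e => (e a).1 ha⟩

lemma Fpf.card_norm_le {g : G} (h : X.Fpf g) : ∃ n, 0 < n ∧ n ≤ 4 ∧ n ≠ 3 ∧
    Nat.card (Subgroup.normalizer (Subgroup.centralizer {g} : Set G)) =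
      n * Nat.card (Subgroup.centralizer {g}) := by
  have := X.finite
  obtain ⟨u, hu, hp, e⟩ := h.exists_prime
  rw [← e]
  set A := Subgroup.centralizer {u}
  set N := Subgroup.normalizer (A : Set G)
  have e1 := (A.subgroupOf N).index_mul_card
  rw [Nat.card_congr (Subgroup.subgroupOfEquivOfLe Subgroup.le_normalizer).toEquiv] at e1
  refine ⟨_, Nat.pos_of_ne_zero Subgroup.index_ne_zero_of_finite, le_trans ?_ (hu.prime hp).2,
    fun e3 => P.not_three_dvd (X.card_eq ▸ Nat.dvd_trans ⟨_, by rw [← e1, e3]⟩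
      (Subgroup.card_subgroup_dvd_card N)), e1.symm⟩
  rw [Subgroup.index_eq_card, ← Nat.card_coe_set_eq]
  refine Nat.card_le_card_of_injective (fun z => ⟨z.out.1 * u * z.out.1⁻¹, isConj_iff.2 ⟨_, rfl⟩,
    (z.out.2 u).1 (mem_cent.2 rfl)⟩) fun a b e => ?_
  rw [← a.out_eq, ← b.out_eq]
  refine QuotientGroup.eq.2 (mem_cent.2 ?_)
  simpa [mul_assoc] using congrArg (fun z => a.out.1⁻¹ * z.1 * b.out.1) e.symm

lemma Fpf.mem_cls {g a : G} (h : X.Fpf g) (ha : a ∈ cls (Subgroup.centralizer {g})) : X.Fpf a ∧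
    Nat.card (Subgroup.centralizer {a}) = Nat.card (Subgroup.centralizer {g}) := by
  obtain ⟨h1, x, hx⟩ := ha
  refine ⟨by simpa [mul_assoc] using (h.of_mem hx (by simpa)).conj x⁻¹, ?_⟩
  rw [← h.cent_eq hx (by simpa), cent_conj, H1.card_conj_smul]

lemma Fpf.cls_or {g g' : G} (h : X.Fpf g) (h' : X.Fpf g') : g ∈ cls (Subgroup.centralizer {g'}) ∨
    (Nat.card (Subgroup.centralizer {g})).Coprime (Nat.card (Subgroup.centralizer {g'})) :=
  (h.conj_or h').imp_left fun ⟨x, e⟩ => ⟨h.ne_one, x, e ▸ H1.conj_mem_conj_smul (mem_cent.2 rfl)⟩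

lemma Fpf.disjoint {g g' : G} (h : X.Fpf g) (h' : X.Fpf g')
    (hc : (Nat.card (Subgroup.centralizer {g})).Coprime (Nat.card (Subgroup.centralizer {g'}))) :
    Disjoint (cls (Subgroup.centralizer {g})) (cls (Subgroup.centralizer {g'})) :=
  Set.disjoint_left.2 fun a ha ha' => by
    rw [← (h.mem_cls ha).2, ← (h'.mem_cls ha').2, Nat.coprime_self] at hc
    have := (h.mem_cls ha).1.five_le
    omega

variable (X)

lemma ti_U (x : G) (a : G) (ha : a ∈ X.U) (h1 : a ≠ 1) : x * a * x⁻¹ ∈ X.U ↔ x ∈ X.B :=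
  ⟨fun h => mem_B_of_conj ha h1 (X.U_le_B h), fun h => conj_mem_U h ha⟩

lemma ti_H (x : G) (a : G) (ha : a ∈ X.H) (h1 : a ≠ 1) : x * a * x⁻¹ ∈ X.H ↔ x ∈ X.N :=
  ⟨fun h => by
    obtain ⟨k, rfl⟩ := ha
    exact mem_N_of_conj (fun e => h1 (by simp [e])) h, fun h => conj_mem_H h ha⟩

lemma disjoint_UH : Disjoint (cls X.U) (cls X.H) := Set.disjoint_left.2 fun a ⟨h1, x, hx⟩ ⟨_, y, k, hy⟩ => by
  have h2 : a ^ 4 = 1 := by simpa using pow_four hx
  have := mem_U_of_pow (X.D_mem_B k) (n := 2) (by rw [hy, conj_pow]; simp [h2])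
  exact h1 (by simpa [eq_one_of_D_mem this] using hy.symm)

theorem card_fpf : 2 * {g | X.Fpf g}.ncard = P.q ^ 3 * (P.q - 1) ^ 2 := by
  have := X.finite
  have e : (Set.univ : Set G) = {1} ∪ (cls X.U ∪ cls X.H) ∪ {g | X.Fpf g} := by
    refine (Set.eq_univ_of_forall fun g => ?_).symm
    by_cases h1 : g = 1
    · simp [h1]
    obtain h | ⟨x, h⟩ | ⟨x, k, -, h⟩ := X.tri g
    exacts [Or.inr h, Or.inl (Or.inr (Or.inl ⟨h1, x, h⟩)),
      Or.inl (Or.inr (Or.inr ⟨h1, x, h ▸ X.D_mem k⟩))]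
  have h0 := congrArg Set.ncard e
  rw [Set.ncard_union_eq (Set.disjoint_left.2 ?_), Set.ncard_union_eq (Set.disjoint_left.2 ?_),
    Set.ncard_union_eq X.disjoint_UH, Set.ncard_univ, Set.ncard_singleton] at h0
  · have h1 := card_cls X.ti_U
    have h2 := card_cls X.ti_H
    rw [card_B, card_U, X.card_eq] at h1
    rw [card_N, card_H, X.card_eq] at h2
    rw [X.card_eq] at h0
    have := P.eight_le_q
    rw [show 2 ^ (2 * P.m + 1) = P.q from rfl] at h0 h1 h2
    obtain ⟨t, ht⟩ : ∃ t, P.q = t + 2 := ⟨P.q - 2, by omega⟩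
    simp only [ht, show t + 2 - 1 = t + 1 from rfl, Nat.add_sub_cancel,
      show (t + 2) ^ 2 - 1 = (t + 1) * (t + 3) from Nat.sub_eq_of_eq_add (by ring)] at h0 h1 h2 ⊢
    have h3 : (cls X.U).ncard = ((t + 2) ^ 2 + 1) * ((t + 1) * (t + 3)) :=
      Nat.eq_of_mul_eq_mul_right (show 0 < (t + 2) ^ 2 * (t + 1) by positivity) (h1.trans (by ring))
    have h4 : 2 * (cls X.H).ncard = (t + 2) ^ 2 * ((t + 2) ^ 2 + 1) * t :=
      Nat.eq_of_mul_eq_mul_right (show 0 < t + 1 by positivity) (by linarith)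
    nlinarith
  · rintro _ rfl (h | h) <;> exact h.1 rfl
  · rintro a (rfl | ⟨-, x, h⟩ | ⟨-, x, h⟩) hf
    exacts [hf.ne_one rfl, hf x (X.U_le_B h), hf x (X.H_le_B h)]

lemma exists_fpf {p : ℕ} (hp : p.Prime) (hd : p ∣ P.q ^ 2 + 1) :
    ∃ g, X.Fpf g ∧ p ∣ Nat.card (Subgroup.centralizer {g}) := by
  have := X.finite
  have := Fact.mk hp
  obtain ⟨g, hg⟩ := exists_prime_orderOf_dvd_card' (G := G) p (X.card_eq ▸ hd.mul_left _)
  exact ⟨g, fpf_of_dvd (fun e => hp.one_lt.ne' (hg ▸ orderOf_eq_one_iff.2 e)) (hg ▸ hd),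
    hg ▸ Subgroup.orderOf_dvd_natCard _ (mem_cent.2 rfl)⟩

theorem exists_tori : ∃ g₁ g₂, X.Fpf g₁ ∧ X.Fpf g₂ ∧
    Nat.card (Subgroup.centralizer {g₁}) = P.q + 2 ^ (P.m + 1) + 1 ∧
    Nat.card (Subgroup.centralizer {g₂}) = P.q - 2 ^ (P.m + 1) + 1 ∧
    Nat.card (Subgroup.normalizer (Subgroup.centralizer {g₁} : Set G)) =
      4 * Nat.card (Subgroup.centralizer {g₁}) ∧
    Nat.card (Subgroup.normalizer (Subgroup.centralizer {g₂} : Set G)) =
      4 * Nat.card (Subgroup.centralizer {g₂}) ∧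
    ∀ g, X.Fpf g → g ∈ cls (Subgroup.centralizer {g₁}) ∨ g ∈ cls (Subgroup.centralizer {g₂}) := by
  have := X.finite
  have h8 := P.eight_le_q
  have hc := X.card_fpf
  have hG : Nat.card G = P.q ^ 2 * (P.q - 1) * (P.q ^ 2 + 1) := X.card_eq
  obtain ⟨t, ht⟩ : ∃ t, P.q = t + 1 := ⟨P.q - 1, by omega⟩
  have hlt : 2 * {g | X.Fpf g}.ncard < Nat.card G := by
    rw [hc, hG, ht, Nat.add_sub_cancel]
    have : 0 < (t + 1) ^ 2 * t := by have : 0 < t := by omega
                                     positivity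
    nlinarith
  have hsub : ∀ {g}, X.Fpf g → cls (Subgroup.centralizer {g}) ⊆ {g | X.Fpf g} :=
    fun h a ha => (h.mem_cls ha).1
  have big : ∀ {g}, X.Fpf g → ∃ n, (n = 4 ∨ n ≤ 2 ∧ 0 < n) ∧
      Nat.card (Subgroup.normalizer (Subgroup.centralizer {g} : Set G)) =
        n * Nat.card (Subgroup.centralizer {g}) ∧
      (cls (Subgroup.centralizer {g})).ncard * (n * Nat.card (Subgroup.centralizer {g})) =
        Nat.card G * (Nat.card (Subgroup.centralizer {g}) - 1) ∧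
      4 * Nat.card G ≤ 5 * n * (cls (Subgroup.centralizer {g})).ncard := fun {g} h => by
    obtain ⟨n, h0, h1, h2, e⟩ := h.card_norm_le
    have h3 := card_cls h.ti
    rw [e] at h3
    refine ⟨n, by omega, e, h3, ?_⟩
    obtain ⟨k, hk⟩ := Nat.exists_eq_add_of_le' h.five_le
    rw [hk, show k + 5 - 1 = k + 4 from rfl] at h3
    exact Nat.le_of_mul_le_mul_right (c := k + 5) (by nlinarith) (by omega)
  obtain ⟨g₁, h₁, -⟩ := X.exists_fpf (Nat.minFac_prime (show P.q ^ 2 + 1 ≠ 1 by nlinarith))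
    (Nat.minFac_dvd _)
  obtain ⟨n₁, a₁, b₁, c₁, d₁⟩ := big h₁
  obtain ⟨g₂, h₂, h12⟩ : ∃ g, X.Fpf g ∧
      (Nat.card (Subgroup.centralizer {g})).Coprime (Nat.card (Subgroup.centralizer {g₁})) := by
    by_contra! h
    have e : cls (Subgroup.centralizer {g₁}) = {g | X.Fpf g} :=
      (hsub h₁).antisymm fun g hg => (hg.cls_or h₁).resolve_right (h g hg)
    have e2 := eq_of_primes h₁.card_dvd h₁.hall fun p hp hd => by
      obtain ⟨g, hg, hd⟩ := X.exists_fpf hp hd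
      exact (h₁.mem_cls (e.ge hg)).2 ▸ hd
    rw [e, e2, hG, Nat.add_sub_cancel] at c₁
    rw [ht, Nat.add_sub_cancel] at c₁ hc
    have : n₁ * t = 2 * (t + 1) := Nat.eq_of_mul_eq_mul_right
      (show 0 < (t + 1) ^ 3 * t * ((t + 1) ^ 2 + 1) by have : 0 < t := by omega
                                                       positivity) (by
        zify at c₁ hc ⊢
        linear_combination 2 * c₁ - (n₁ * ((t + 1) ^ 2 + 1)) * hc)
    rcases a₁ with rfl | ⟨a, -⟩
    · omega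
    · nlinarith
  obtain ⟨n₂, a₂, b₂, c₂, d₂⟩ := big h₂
  have hall : ∀ g, X.Fpf g → g ∈ cls (Subgroup.centralizer {g₁}) ∨
      g ∈ cls (Subgroup.centralizer {g₂}) := fun g hg => by
    by_contra! h
    obtain ⟨n₃, a₃, -, -, d₃⟩ := big hg
    have := Set.ncard_le_ncard (Set.union_subset (Set.union_subset (hsub h₁) (hsub h₂)) (hsub hg))
    rw [Set.ncard_union_eq (Set.disjoint_union_left.2 ⟨h₁.disjoint hg
      ((hg.cls_or h₁).resolve_left h.1).symm, h₂.disjoint hg ((hg.cls_or h₂).resolve_left h.2).symm⟩),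
      Set.ncard_union_eq (h₁.disjoint h₂ h12.symm)] at this
    have := Nat.mul_le_mul_right (cls (Subgroup.centralizer {g₁})).ncard (show 5 * n₁ ≤ 20 by omega)
    have := Nat.mul_le_mul_right (cls (Subgroup.centralizer {g₂})).ncard (show 5 * n₂ ≤ 20 by omega)
    have := Nat.mul_le_mul_right (cls (Subgroup.centralizer {g})).ncard (show 5 * n₃ ≤ 20 by omega)
    omega
  have e : {g | X.Fpf g}.ncard = (cls (Subgroup.centralizer {g₁})).ncard +
      (cls (Subgroup.centralizer {g₂})).ncard := by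
    rw [← Set.ncard_union_eq (h₁.disjoint h₂ h12.symm)]
    exact congrArg _ (Set.Subset.antisymm hall (Set.union_subset (hsub h₁) (hsub h₂)))
  have := Nat.mul_le_mul_right (cls (Subgroup.centralizer {g₁})).ncard (show 5 * n₁ ≤ 20 by omega)
  have := Nat.mul_le_mul_right (cls (Subgroup.centralizer {g₂})).ncard (show 5 * n₂ ≤ 20 by omega)
  obtain rfl : n₁ = 4 := a₁.resolve_right fun h => by
    have := Nat.mul_le_mul_right (cls (Subgroup.centralizer {g₁})).ncard (show 5 * n₁ ≤ 10 by omega)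
    omega
  obtain rfl : n₂ = 4 := a₂.resolve_right fun h => by
    have := Nat.mul_le_mul_right (cls (Subgroup.centralizer {g₂})).ncard (show 5 * n₂ ≤ 10 by omega)
    omega
  have e2 := eq_of_primes (h12.mul_dvd_of_dvd_of_dvd h₂.card_dvd h₁.card_dvd) (Nat.Coprime.mul_left
    (h₂.hall.coprime_dvd_right (by
      rw [← Nat.div_div_eq_div_mul]
      exact Nat.div_dvd_of_dvd ((Nat.dvd_div_iff_mul_dvd h₂.card_dvd).2
        (h12.mul_dvd_of_dvd_of_dvd h₂.card_dvd h₁.card_dvd))))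
    (h₁.hall.coprime_dvd_right (by
      rw [mul_comm, ← Nat.div_div_eq_div_mul]
      exact Nat.div_dvd_of_dvd ((Nat.dvd_div_iff_mul_dvd h₁.card_dvd).2
        (h12.symm.mul_dvd_of_dvd_of_dvd h₁.card_dvd h₂.card_dvd))))) fun p hp hd => by
      obtain ⟨g, hg, hd⟩ := X.exists_fpf hp hd
      rcases hall g hg with h | h
      exacts [((h₁.mem_cls h).2 ▸ hd).mul_left _, ((h₂.mem_cls h).2 ▸ hd).mul_right _]
  obtain ⟨k₁, hk₁⟩ := Nat.exists_eq_add_of_le' (h₁.five_le.trans' (show 1 ≤ 5 by omega))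
  obtain ⟨k₂, hk₂⟩ := Nat.exists_eq_add_of_le' (h₂.five_le.trans' (show 1 ≤ 5 by omega))
  have hr : P.q * 2 = (2 ^ (P.m + 1)) ^ 2 := by rw [← pow_mul, ← pow_succ]; congr 1; ring
  have hs : k₁ + k₂ = 2 * P.q := by
    rw [hG, ← e2, hk₁, hk₂, Nat.add_sub_cancel] at c₁ c₂
    rw [hk₁, hk₂] at e2
    rw [e, ht, Nat.add_sub_cancel] at hc
    rw [ht, Nat.add_sub_cancel] at c₁ c₂
    rw [ht] at e2 ⊢
    have c₁' : 4 * (cls (Subgroup.centralizer {g₁})).ncard = (t + 1) ^ 2 * t * (k₂ + 1) * k₁ :=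
      Nat.eq_of_mul_eq_mul_right (Nat.succ_pos k₁) (by linarith)
    have c₂' : 4 * (cls (Subgroup.centralizer {g₂})).ncard = (t + 1) ^ 2 * t * (k₁ + 1) * k₂ :=
      Nat.eq_of_mul_eq_mul_right (Nat.succ_pos k₂) (by linarith)
    refine Nat.eq_of_mul_eq_mul_right (show 0 < (t + 1) ^ 2 * t by have : 0 < t := by omega
                                                                   positivity) ?_
    zify at c₁' c₂' hc e2 ⊢
    linear_combination c₁' + c₂' - 2 * hc + 2 * (t + 1) ^ 2 * t * e2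
  generalize 2 ^ (P.m + 1) = r at hr ⊢
  generalize P.q = q at hr hs e2 h8 ⊢
  have hq : ((k₁ : ℤ) - q - r) * (k₁ - q + r) = 0 := by
    rw [hk₁, hk₂] at e2
    zify at e2 hs hr
    linear_combination (k₁ + 1 : ℤ) * hs - e2 + hr
  rcases mul_eq_zero.1 hq with h | h
  · exact ⟨g₁, g₂, h₁, h₂, by omega, by omega, b₁, b₂, hall⟩
  · exact ⟨g₂, g₁, h₂, h₁, by omega, by omega, b₂, b₁, fun g hg => (hall g hg).symm⟩

end SzS

end H6.Suz
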