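import Cfsg.Agent.H6.Ree1
import Cfsg.Agent.H6.Suz3

/-!
Small Ree groups II: the split `BN`-pair of rank one, the doubly transitive action, the centralizer of
the involution `a = D (-1)`.
-/

noncomputable section

namespace H6.Ree

open H5 Pointwise MulAction Suz

variable {K : Type*} [Field K] [Fintype K] {P : Par K} {G : Type*} [Group G]

namespace Par

variable (P)

/-- the order of the field -/
abbrev q : ℕ := 3 ^ (2 * P.m + 1)

lemma exists_q : ∃ t, P.q = 24 * t + 3 := by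
  refine ⟨P.q / 24, ?_⟩
  have h1 : P.q % 8 = 3 := by rw [q, pow_succ, pow_mul, Nat.mul_mod, Nat.pow_mod]; simp
  have h2 : 3 ∣ P.q := dvd_pow_self 3 (by omega)
  omega

lemma le_q (hm : 1 ≤ P.m) : 27 ≤ P.q := Nat.pow_le_pow_right (n := 3) (by omega) (show 3 ≤ _ by omega)

include P in
lemma charP : CharP K 3 := (exists_frob (k := P.m) Nat.prime_three P.hK).1

include P in
lemma three : (3 : K) = 0 := have := P.charP; CharP.cast_eq_zero K 3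

include P in
lemma two : (2 : K) ≠ 0 := fun e => one_ne_zero (α := K) (by linear_combination P.three - e)

lemma card_units : Nat.card Kˣ = P.q - 1 := by rw [Nat.card_units, Nat.card_eq_fintype_card, P.hK]

lemma c1 {k : Kˣ} (h : (k : K) ^ 2 * (P.f k ^ 3)⁻¹ = 1) : k = 1 := by
  have h0 : P.f k ≠ 0 := by simp
  have h1 : (k : K) ^ 2 = P.f k ^ 3 := by field_simp at h; exact h
  have h2 := congrArg P.f h1
  rw [map_pow, map_pow, P.hff] at h2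
  exact Units.ext (show (k : K) = 1 by grind)

lemma c2 {k : Kˣ} (h : P.f k ^ 3 * (k : K)⁻¹ = 1) : k = 1 ∨ k = -1 := by
  have h1 : P.f k ^ 3 = k := by field_simp at h; exact h
  have h2 := congrArg P.f h1
  rw [map_pow, P.hff] at h2
  have := k.ne_zero
  simp only [Units.ext_iff, Units.val_one, Units.val_neg]
  grind

include P in
lemma exists_sq (c : Kˣ) : ∃ d : Kˣ, c = d ^ 2 ∨ c = -d ^ 2 := by
  obtain ⟨t, ht⟩ := P.exists_q
  have h : c ^ (24 * t + 2) = 1 := by rw [← pow_card_eq_one' (x := c), P.card_units, ht]; rfl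
  refine ⟨c ^ (6 * t + 1), ?_⟩
  have : (c : K) ^ 2 = ((c ^ (6 * t + 1)) ^ 2) ^ 2 := by
    rw [← mul_one (_ ^ 2 : K), ← Units.val_one, ← h]; push_cast; ring
  simpa [Units.ext_iff] using sq_eq_sq_iff_eq_or_eq_neg.1 this

omit [Fintype K] in
lemma sq_one {c : Kˣ} (h : c * c = 1) : c = 1 ∨ c = -1 :=
  (mul_self_eq_one_iff.1 (congrArg Units.val h)).imp Units.ext Units.ext

/-- the map `b ↦ b f(b)³` -/
def ν (b : Kˣ) : Kˣ := b * Units.map P.f.toMonoidHom b ^ 3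

lemma exists_ν (d : Kˣ) : ∃ b, P.ν b = d ^ 2 := by
  refine ⟨Units.map P.f.toMonoidHom d ^ 3 * d⁻¹, Units.ext ?_⟩
  have h0 : P.f d ≠ 0 := by simp
  simp [ν, P.hff]
  field_simp

include P in
lemma neg_ne : (-1 : Kˣ) ≠ 1 := fun e => P.two (by
  have := congrArg Units.val e
  simp only [Units.val_neg, Units.val_one] at this
  grind)

end Par

namespace ReS

/-- transport of structure -/
def map {G' : Type*} [Group G'] (X : ReS P G) (e : G ≃* G') : ReS P G' where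
  x t u v := e (X.x t u v)
  D := e.toMonoidHom.comp X.D
  φ := e.toMonoidHom.comp X.φ
  x_mul t u v t' u' v' := by rw [← map_mul, X.x_mul]
  x_inj := e.injective.eq_iff.trans X.x_inj
  D_x a t u v := by simp [← X.D_x]
  φ_up u := congrArg e (X.φ_up u)
  φ_dg b c h := congrArg e (X.φ_dg b c h)
  W_H c := (X.W_H c).imp fun _ h => by simpa using congrArg e h
  opp t u v t' u' v' c h := by simpa using X.opp t u v t' u' v' c (e.injective (by simpa using h))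
  bruhat g := by
    obtain ⟨a, b, c, k, h⟩ | ⟨a, b, c, k, a', b', c', h⟩ := X.bruhat (e.symm g)
    exacts [Or.inl ⟨a, b, c, k, by simpa using congrArg e h⟩,
      Or.inr ⟨a, b, c, k, a', b', c', by simpa using congrArg e h⟩]
  simple h := have := X.simple h; e.symm.isSimpleGroup
  rep := X.rep.comp e.symm.toMonoidHom
  rep_ne := X.rep_ne.elim fun g h => ⟨e g, by simpa using h⟩

variable (X : ReS P G)

/-- the Weyl element -/
def W : G := X.φ w2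
/-- the involution -/
def a : G := X.D (-1)

@[simp] lemma x_zero : X.x 0 0 0 = 1 := by simpa using X.x_mul 0 0 0 0 0 0

lemma x_eq_one {t u v : K} : X.x t u v = 1 ↔ t = 0 ∧ u = 0 ∧ v = 0 := by rw [← X.x_zero, X.x_inj]

lemma x_inv (t u v : K) : (X.x t u v)⁻¹ = X.x (-t) (-u - P.f t ^ 3 * t) (-v - P.f t ^ 3 * t ^ 2 - t * u -
    t * (P.f t ^ 3 * t)) := by
  rw [inv_eq_iff_mul_eq_one, X.x_mul, x_eq_one, map_neg]
  refine ⟨?_, ?_, ?_⟩ <;> ring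

lemma x_cube (t u v : K) : X.x t u v ^ 3 = X.x 0 0 (-(t ^ 2 * P.f t ^ 3)) := by
  have := P.three
  rw [pow_three', X.x_mul, X.x_mul, X.x_inj]
  refine ⟨?_, ?_, ?_⟩ <;> grind

lemma D_mul_x (k : Kˣ) (t u v : K) : X.D k * X.x t u v =
    X.x (k ^ 2 * (P.f k ^ 3)⁻¹ * t) (P.f k ^ 3 * (k : K)⁻¹ * u) (k * v) * X.D k := by
  rw [← X.D_x]; simp

lemma a_x (t u v : K) : X.a * X.x t u v * X.a⁻¹ = X.x (-t) u (-v) := by
  rw [a, X.D_x]; simp [Odd.neg_pow (show Odd 3 by decide)]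

lemma φ_dg' (b : Kˣ) : X.φ (dg b) = X.D (P.ν b) := X.φ_dg _ _ (by simp [Par.ν])

lemma φ_neg_one : X.φ (-1) = 1 := by
  rw [show (-1 : SL2 K) = dg (-1) by simp [one_eq_sl2, neg_sl2, sl2_eq_iff], X.φ_dg _ 1
    (by simp [Odd.neg_pow (show Odd 3 by decide)]), map_one]

lemma φ_neg (g : SL2 K) : X.φ (-g) = X.φ g := by rw [← neg_one_mul, map_mul, φ_neg_one, one_mul]

@[simp] lemma W_sq : X.W * X.W = 1 := by
  rw [W, ← map_mul, ← X.φ_neg_one]; congr 1; simp [sl2_mul, one_eq_sl2, neg_sl2, sl2_eq_iff]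

@[simp] lemma W_inv : X.W⁻¹ = X.W := inv_eq_of_mul_eq_one_left X.W_sq

@[simp] lemma W_W (g : G) : X.W * (X.W * g) = g := by rw [← mul_assoc, X.W_sq, one_mul]

@[simp] lemma mul_W_W (g : G) : g * X.W * X.W = g := by rw [mul_assoc, X.W_sq, mul_one]

@[simp] lemma a_sq : X.a * X.a = 1 := by rw [a, ← map_mul]; simp

@[simp] lemma a_inv : X.a⁻¹ = X.a := inv_eq_of_mul_eq_one_left X.a_sq

@[simp] lemma a_a (g : G) : X.a * (X.a * g) = g := by rw [← mul_assoc, X.a_sq, one_mul]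

@[simp] lemma mul_a_a (g : G) : g * X.a * X.a = g := by rw [mul_assoc, X.a_sq, mul_one]

lemma D_inj : Function.Injective X.D := (injective_iff_map_eq_one _).2 fun k h => by
  have := X.D_x k 0 0 1
  rw [h, one_mul, inv_one, mul_one, X.x_inj] at this
  exact Units.ext (by simpa using this.2.2.symm)

lemma a_ne : X.a ≠ 1 := fun e => P.neg_ne (X.D_inj (e.trans (map_one _).symm))

lemma orderOf_a : orderOf X.a = 2 := orderOf_eq_prime (by rw [sq, a_sq]) X.a_ne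

lemma D_comm (k l : Kˣ) : X.D k * X.D l = X.D l * X.D k := by rw [← map_mul, mul_comm, map_mul]

lemma W_a : X.W * X.a = X.a * X.W := by
  obtain ⟨c, hc⟩ : ∃ c, X.W * X.a * X.W⁻¹ = X.D c := X.W_H (-1)
  have h1 : c * c = 1 := X.D_inj (by rw [map_mul, ← hc, conj_mul, a_sq]; simp)
  rcases Par.sq_one h1 with rfl | rfl
  · exact absurd (by rwa [map_one, mul_inv_eq_one, mul_eq_left] at hc) X.a_ne
  · exact mul_inv_eq_iff_eq_mul.1 hc

lemma φ_a (g : SL2 K) : X.φ g * X.a = X.a * X.φ g :=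
  mem_cent.1 (sl2_ind (M := ((Subgroup.centralizer {X.a}).comap X.φ).toSubmonoid) (fun t => mem_cent.2 (by
    rw [X.φ_up, eq_comm, ← mul_inv_eq_iff_eq_mul, a_x]; simp)) (mem_cent.2 X.W_a) g)

lemma D_eq (c : Kˣ) : ∃ b, X.D c = X.φ (dg b) ∨ X.D c = X.a * X.φ (dg b) := by
  obtain ⟨d, hd⟩ := P.exists_sq c
  obtain ⟨b, hb⟩ := P.exists_ν d
  exact ⟨b, hd.imp (fun e => by rw [φ_dg', hb, e]) fun e => by rw [φ_dg', hb, e, a, ← map_mul, neg_one_mul]⟩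

lemma W_D (k : Kˣ) : X.W * X.D k * X.W = X.D k⁻¹ := by
  have h : ∀ b, X.W * X.φ (dg b) * X.W = (X.φ (dg b))⁻¹ := fun b => by
    rw [W, ← map_mul, ← map_mul, ← map_inv, ← φ_neg]; congr 1
    simp [sl2_mul, sl2_inv, neg_sl2, sl2_eq_iff]
  obtain ⟨b, e | e⟩ := X.D_eq k <;> rw [map_inv, e]
  · exact h b
  · rw [← mul_assoc, W_a, mul_assoc, mul_assoc, ← mul_assoc X.W, h, mul_inv_rev, a_inv, ← map_inv, φ_a]

lemma W_mul_D (k : Kˣ) : X.W * X.D k = X.D k⁻¹ * X.W := by rw [← X.W_D]; simp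

/-- the Sylow `3`-subgroup -/
def U : Subgroup G where
  carrier := {g | ∃ t u v, g = X.x t u v}
  one_mem' := ⟨0, 0, 0, X.x_zero.symm⟩
  mul_mem' := by rintro _ _ ⟨a, b, c, rfl⟩ ⟨a', b', c', rfl⟩; exact ⟨_, _, _, X.x_mul ..⟩
  inv_mem' := by rintro _ ⟨a, b, c, rfl⟩; exact ⟨_, _, _, X.x_inv ..⟩

/-- the split torus -/
def H : Subgroup G := X.D.range

/-- the Borel subgroup -/
def B : Subgroup G where
  carrier := {g | ∃ t u v k, g = X.x t u v * X.D k}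
  one_mem' := ⟨0, 0, 0, 1, by simp⟩
  mul_mem' := by
    rintro _ _ ⟨a, b, c, k, rfl⟩ ⟨a', b', c', l, rfl⟩
    exact ⟨_, _, _, k * l, by rw [mul_assoc, ← mul_assoc (X.D k), D_mul_x, ← mul_assoc, ← mul_assoc,
      X.x_mul, X.D.map_mul, mul_assoc]⟩
  inv_mem' := by
    rintro _ ⟨a, b, c, k, rfl⟩
    exact ⟨_, _, _, k⁻¹, by rw [mul_inv_rev, ← map_inv, x_inv, D_mul_x]⟩

/-- the dihedral subgroup -/
def N : Subgroup G where
  carrier := {g | ∃ k, g = X.D k ∨ g = X.D k * X.W}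
  one_mem' := ⟨1, Or.inl (map_one _).symm⟩
  mul_mem' := by
    rintro _ _ ⟨k, rfl | rfl⟩ ⟨l, rfl | rfl⟩
    · exact ⟨k * l, Or.inl (map_mul ..).symm⟩
    · exact ⟨k * l, Or.inr (by rw [map_mul, mul_assoc])⟩
    · exact ⟨k * l⁻¹, Or.inr (by rw [map_mul, mul_assoc, W_mul_D, mul_assoc])⟩
    · exact ⟨k * l⁻¹, Or.inl (by rw [map_mul, mul_assoc, ← mul_assoc X.W, X.W_D])⟩
  inv_mem' := by
    rintro _ ⟨k, rfl | rfl⟩
    · exact ⟨k⁻¹, Or.inl (map_inv ..).symm⟩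
    · exact ⟨k, Or.inr (by rw [mul_inv_rev, W_inv, ← map_inv, W_mul_D, inv_inv])⟩

lemma x_mem (t u v : K) : X.x t u v ∈ X.U := ⟨t, u, v, rfl⟩
lemma D_mem (k : Kˣ) : X.D k ∈ X.H := ⟨k, rfl⟩
lemma W_mem : X.W ∈ X.N := ⟨1, Or.inr (by simp)⟩
lemma U_le_B : X.U ≤ X.B := fun _ ⟨a, b, c, h⟩ => ⟨a, b, c, 1, by simpa using h⟩
lemma H_le_B : X.H ≤ X.B := fun _ ⟨k, h⟩ => ⟨0, 0, 0, k, by simpa using h.symm⟩
lemma H_le_N : X.H ≤ X.N := fun _ ⟨k, h⟩ => ⟨k, Or.inl h.symm⟩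
lemma x_mem_B (t u v : K) : X.x t u v ∈ X.B := X.U_le_B (X.x_mem t u v)
lemma D_mem_B (k : Kˣ) : X.D k ∈ X.B := X.H_le_B (X.D_mem k)
lemma a_mem_B : X.a ∈ X.B := X.D_mem_B _

variable {X}

lemma eq_one_of_W {u : G} (hu : u ∈ X.U) (h : X.W * u * X.W ∈ X.B) : u = 1 := by
  obtain ⟨a, b, c, rfl⟩ := hu
  obtain ⟨_, _, _, _, h⟩ := h
  exact X.opp _ _ _ _ _ _ _ ((congrArg _ X.W_inv).trans h)

lemma W_not_mem : X.W ∉ X.B := fun h => by
  simpa [x_eq_one] using eq_one_of_W (X.x_mem 1 0 0) (mul_mem (mul_mem h (X.x_mem_B ..)) h)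

lemma eq_one_of_D_mem {k : Kˣ} (h : X.D k ∈ X.U) : k = 1 := by
  obtain ⟨a, b, c, h⟩ := h
  have := X.D_mul_x k 0 0 1
  rw [h, X.x_mul, X.x_mul, X.x_inj] at this
  exact Units.ext (by simpa [add_comm c, eq_comm] using this.2.2)

lemma xD_inj {a b c a' b' c' : K} {k l : Kˣ} (h : X.x a b c * X.D k = X.x a' b' c' * X.D l) :
    X.x a b c = X.x a' b' c' ∧ k = l := by
  have : X.D (k * l⁻¹) = (X.x a b c)⁻¹ * X.x a' b' c' := by
    rw [map_mul, map_inv, eq_inv_mul_iff_mul_eq, ← mul_assoc, h]; simp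
  obtain rfl := mul_inv_eq_one.1 (eq_one_of_D_mem (this ▸ mul_mem (inv_mem (X.x_mem ..)) (X.x_mem ..)))
  exact ⟨mul_right_cancel h, rfl⟩

lemma not_mem_B {b b' : G} (hb : b ∈ X.B) (hb' : b' ∈ X.B) : b * X.W * b' ∉ X.B := fun h =>
  X.W_not_mem ((X.B.mul_mem_cancel_left hb).1 ((X.B.mul_mem_cancel_right hb').1 h))

lemma conj_mem_U {b u : G} (hb : b ∈ X.B) (hu : u ∈ X.U) : b * u * b⁻¹ ∈ X.U := by
  obtain ⟨a, b, c, k, rfl⟩ := hb
  obtain ⟨a', b', c', rfl⟩ := hu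
  have := mul_mem (mul_mem (X.x_mem a b c) (X.D_x k a' b' c' ▸ X.x_mem _ _ _)) (inv_mem (X.x_mem a b c))
  simpa [mul_assoc] using this

lemma bruhat' (g : G) : g ∈ X.B ∨ ∃ b ∈ X.B, ∃ u ∈ X.U, g = b * X.W * u :=
  (X.bruhat g).imp id fun ⟨a, b, c, k, a', b', c', h⟩ => ⟨_, ⟨a, b, c, k, rfl⟩, _, X.x_mem a' b' c', h⟩

lemma bruhat_unique {b b' u u' : G} (hb : b ∈ X.B) (hb' : b' ∈ X.B) (hu : u ∈ X.U) (hu' : u' ∈ X.U)
    (h : b * X.W * u = b' * X.W * u') : b = b' ∧ u = u' := by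
  have : X.W * (u * u'⁻¹) * X.W = b⁻¹ * b' := by
    rw [eq_inv_mul_iff_mul_eq, ← mul_assoc, ← mul_assoc, ← mul_assoc, h]; simp
  obtain rfl := mul_inv_eq_one.1 (eq_one_of_W (mul_mem hu (inv_mem hu')) (this ▸ mul_mem (inv_mem hb) hb'))
  exact ⟨by simpa using h, rfl⟩

theorem mem_B_of_conj {t x : G} (ht : t ∈ X.U) (h1 : t ≠ 1) (h : x * t * x⁻¹ ∈ X.B) : x ∈ X.B := by
  refine (X.bruhat' x).resolve_right ?_
  rintro ⟨b, hb, u, hu, rfl⟩
  have := mul_mem (mul_mem (inv_mem hb) h) hb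
  exact h1 (by simpa using eq_one_of_W (conj_mem_U (X.U_le_B hu) ht) (by simpa [mul_assoc] using this))

lemma mem_H_of_W {g : G} (hg : g ∈ X.B) (h : X.W * g * X.W ∈ X.B) : g ∈ X.H := by
  obtain ⟨a, b, c, k, rfl⟩ := hg
  have := eq_one_of_W (X.x_mem a b c) (by
    have := mul_mem h (X.D_mem_B k)
    rwa [mul_assoc, W_mul_D, show ∀ a b c d e : G, a * (b * c) * (d * e) = a * b * (c * d) * e by
      intros; group, ← map_mul, mul_inv_cancel, map_one, mul_one] at this)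
  rw [this, one_mul]; exact X.D_mem k

lemma comm_D {u : G} (hu : u ∈ X.U) {k : Kˣ} (hk : k ≠ 1) (h : X.D k * u = u * X.D k) :
    (∃ s, u = X.x 0 s 0) ∧ (k ≠ -1 → u = 1) := by
  obtain ⟨a, b, c, rfl⟩ := hu
  rw [D_mul_x, mul_left_inj, X.x_inj, mul_left_eq_self₀, mul_left_eq_self₀, mul_left_eq_self₀] at h
  obtain rfl := h.1.resolve_left fun e => hk (P.c1 e)
  obtain rfl := h.2.2.resolve_left (by simpa)
  exact ⟨⟨b, rfl⟩, fun e => by simp [h.2.1.resolve_left fun e' => (P.c2 e').elim hk e]⟩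

lemma mem_H_of_conj {b : G} (hb : b ∈ X.B) {k : Kˣ} (hk : k ≠ 1) (hk' : k ≠ -1)
    (h : b * X.D k * b⁻¹ ∈ X.H) : b ∈ X.H := by
  obtain ⟨a, b, c, l, rfl⟩ := hb
  obtain ⟨j, hj⟩ := h
  have h1 : X.D j * X.x a b c = X.x a b c * X.D k := by
    rw [hj, mul_assoc _ (X.D l), X.D_comm l]; group
  have h2 := h1
  rw [D_mul_x] at h2
  obtain rfl := (xD_inj h2).2
  rw [(comm_D (X.x_mem a b c) hk h1).2 hk', one_mul]; exact X.D_mem l

theorem mem_N_of_conj {x : G} {k : Kˣ} (hk : k ≠ 1) (hk' : k ≠ -1) (h : x * X.D k * x⁻¹ ∈ X.H) :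
    x ∈ X.N := by
  rcases X.bruhat' x with hx | ⟨b, hb, u, hu, rfl⟩
  · exact X.H_le_N (mem_H_of_conj hx hk hk' h)
  have h1 := mul_mem (mul_mem (inv_mem hb) (X.H_le_B h)) hb
  have h2 := mem_H_of_conj (X.U_le_B hu) hk hk' (mem_H_of_W (mul_mem (mul_mem (X.U_le_B hu) (X.D_mem_B k))
    (inv_mem (X.U_le_B hu))) (by simpa [mul_assoc] using h1))
  obtain ⟨l, rfl⟩ := h2
  rw [eq_one_of_D_mem hu, map_one, mul_one] at h ⊢
  exact mul_mem (X.H_le_N (mem_H_of_conj hb (inv_ne_one.2 hk) (by simpa [inv_eq_iff_eq_inv]) (by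
    rw [← X.W_D]; simpa [mul_assoc] using h))) X.W_mem

lemma conj_D {x : G} (hx : x ∈ X.N) (k : Kˣ) :
    x ∈ X.H ∧ x * X.D k * x⁻¹ = X.D k ∨ x ∉ X.B ∧ x * x = 1 ∧ x * X.D k * x⁻¹ = X.D k⁻¹ := by
  obtain ⟨l, rfl | rfl⟩ := hx
  · exact Or.inl ⟨X.D_mem l, by rw [X.D_comm]; simp⟩
  · refine Or.inr ⟨by simpa using not_mem_B (X.D_mem_B l) (one_mem _), ?_, ?_⟩
    · rw [mul_assoc, ← mul_assoc X.W, X.W_D, ← map_mul]; simp
    · rw [mul_assoc (X.D l), W_mul_D, mul_inv_rev, W_inv, ← map_inv, ← mul_assoc, ← mul_assoc,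
        mul_W_W, ← map_mul, ← map_mul, mul_inv_cancel_comm]

lemma conj_mem_H {x h : G} (hx : x ∈ X.N) (hh : h ∈ X.H) : x * h * x⁻¹ ∈ X.H := by
  obtain ⟨k, rfl⟩ := hh
  rcases conj_D hx k with h | h
  exacts [h.2.symm ▸ X.D_mem _, h.2.2.symm ▸ X.D_mem _]

theorem mem_H_of_comm {x : G} {k : Kˣ} (hk : k ≠ 1) (hk' : k ≠ -1) (h : x * X.D k = X.D k * x) :
    x ∈ X.H := by
  have h' : x * X.D k * x⁻¹ = X.D k := by rw [h]; simp
  rcases conj_D (mem_N_of_conj hk hk' (h'.symm ▸ X.D_mem k)) k with e | e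
  · exact e.1
  · have := mul_eq_one_iff_inv_eq.2 (X.D_inj (e.2.2.symm.trans h'))
    exact absurd (Par.sq_one this) (not_or.2 ⟨hk, hk'⟩)

lemma pow_nine {u : G} (hu : u ∈ X.U) : u ^ 9 = 1 := by
  obtain ⟨a, b, c, rfl⟩ := hu
  rw [show 9 = 3 * 3 from rfl, pow_mul, x_cube, x_cube]; simp

variable (X)

lemma card_U : Nat.card X.U = P.q ^ 3 := by
  rw [Par.q, ← P.hK, ← Nat.card_eq_fintype_card, pow_three, ← Nat.card_prod, ← Nat.card_prod]
  exact (Nat.card_eq_of_bijective (fun p : K × K × K => (⟨_, X.x_mem p.1 p.2.1 p.2.2⟩ : X.U))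
    ⟨fun _ _ e => by simpa [Prod.ext_iff, X.x_inj] using e,
      fun ⟨_, a, b, c, h⟩ => ⟨(a, b, c), Subtype.ext h.symm⟩⟩).symm

/-- the torus is the multiplicative group -/
def HEquiv : Kˣ ≃* X.H := MonoidHom.ofInjective X.D_inj

lemma card_H : Nat.card X.H = P.q - 1 := by rw [← P.card_units, Nat.card_congr X.HEquiv.toEquiv]

lemma isCyclic_H : IsCyclic X.H := isCyclic_of_surjective _ X.HEquiv.surjective

lemma card_B : Nat.card X.B = P.q ^ 3 * (P.q - 1) := by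
  rw [← P.card_units, ← X.card_U, ← Nat.card_prod]
  exact (Nat.card_eq_of_bijective (fun p : X.U × Kˣ =>
    (⟨_, mul_mem (X.U_le_B p.1.2) (X.D_mem_B p.2)⟩ : X.B))
    ⟨fun ⟨⟨_, _, _, _, rfl⟩, _⟩ ⟨⟨_, _, _, _, rfl⟩, _⟩ e => by
      simpa [Subtype.ext_iff] using xD_inj (congrArg Subtype.val e),
      fun ⟨_, a, b, c, k, h⟩ => ⟨(⟨_, X.x_mem a b c⟩, k), Subtype.ext h.symm⟩⟩).symm

lemma card_N : Nat.card X.N = 2 * (P.q - 1) := by
  rw [← P.card_units, two_mul, ← Nat.card_sum]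
  refine (Nat.card_eq_of_bijective (Sum.elim (fun k => (⟨_, k, Or.inl rfl⟩ : X.N))
    fun k => ⟨_, k, Or.inr rfl⟩) ⟨?_, ?_⟩).symm
  · have h : ∀ k l, X.D k ≠ X.D l * X.W := fun k l e =>
      not_mem_B (X.D_mem_B l) (one_mem _) (by simpa [← e] using X.D_mem_B k)
    rintro (k | k) (l | l) e <;> have := congrArg Subtype.val e
    exacts [congrArg _ (X.D_inj this), absurd this (h _ _), absurd this.symm (h _ _),
      congrArg _ (X.D_inj (mul_right_cancel this))]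
  · rintro ⟨_, k, rfl | rfl⟩
    exacts [⟨.inl k, rfl⟩, ⟨.inr k, rfl⟩]

include X in
lemma finite : Finite G := Finite.of_surjective (Sum.elim (fun p : K × K × K × Kˣ => X.x p.1 p.2.1 p.2.2.1 *
    X.D p.2.2.2) fun p : (K × K × K × Kˣ) × K × K × K => X.x p.1.1 p.1.2.1 p.1.2.2.1 * X.D p.1.2.2.2 * X.W *
    X.x p.2.1 p.2.2.1 p.2.2.2) fun g => by
  obtain ⟨a, b, c, k, rfl⟩ | ⟨a, b, c, k, a', b', c', rfl⟩ := X.bruhat g
  exacts [⟨.inl (a, b, c, k), rfl⟩, ⟨.inr ((a, b, c, k), a', b', c'), rfl⟩]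

variable {X}

lemma exists_conj_D {k : Kˣ} (hk : k ≠ 1) (hk' : k ≠ -1) {u : G} (hu : u ∈ X.U) :
    ∃ v ∈ X.U, v * (u * X.D k) * v⁻¹ = X.D k := by
  have := X.finite
  obtain ⟨v, hv⟩ := Finite.injective_iff_surjective.1 (show Function.Injective fun v : X.U =>
    (⟨v⁻¹ * (X.D k * v * (X.D k)⁻¹), mul_mem (inv_mem v.2) (conj_mem_U (X.D_mem_B k) v.2)⟩ : X.U) from
      fun v w e => Subtype.ext (mul_inv_eq_one.1 ((comm_D (mul_mem v.2 (inv_mem w.2)) hk (by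
        simpa [mul_assoc] using congrArg (fun z => v.1 * z.1 * X.D k * w.1⁻¹) e)).2 hk'))) ⟨u, hu⟩
  exact ⟨v, v.2, by rw [← show _ = u from congrArg Subtype.val hv]; simp [mul_assoc]⟩

lemma mem_B_cases {g : G} (hg : g ∈ X.B) : g ∈ X.U ∨ (∃ v ∈ X.U, ∃ s, v * g * v⁻¹ = X.x 0 s 0 * X.a) ∨
    ∃ v ∈ X.U, ∃ k ≠ 1, k ≠ -1 ∧ v * g * v⁻¹ = X.D k := by
  obtain ⟨a, b, c, k, e⟩ := id hg
  by_cases hk : k = 1
  · exact Or.inl ⟨a, b, c, by simp [hk, e]⟩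
  by_cases hk' : k = -1
  swap
  · obtain ⟨v, hv, e'⟩ := exists_conj_D hk hk' (X.x_mem a b c)
    exact Or.inr (Or.inr ⟨v, hv, k, hk, hk', e ▸ e'⟩)
  subst hk'
  replace e : g = _ * X.a := e
  have h1 : g * X.a ∈ X.U := by simpa [e] using X.x_mem a b c
  have h2 : g * g ∈ X.U := by
    simpa [mul_assoc] using mul_mem h1 (conj_mem_U X.a_mem_B h1)
  have h3 : g ^ 9 * X.a ∈ X.U := by
    simpa [pow_succ, mul_assoc] using mul_mem (pow_mem h2 4) h1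
  have h4 : g ^ 9 * g ^ 9 = 1 := by rw [← (Commute.refl g).mul_pow, pow_nine h2]
  set y := g ^ 9 * X.a with hy
  have h5 : X.a * y * X.a⁻¹ = y⁻¹ := by simp [y, inv_eq_of_mul_eq_one_left h4, mul_assoc]
  have h6 : y ^ 4 * g ^ 9 * (y ^ 4)⁻¹ = X.a := by
    rw [← inv_pow, ← h5, conj_pow, ← mul_assoc, ← mul_assoc, mul_assoc (y ^ 4), ← hy, ← pow_succ, ← pow_add,
      pow_nine h3]; simp
  have h7 : y ^ 4 * (g * X.a) * (X.a * (y ^ 4)⁻¹ * X.a⁻¹) ∈ X.U :=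
    mul_mem (mul_mem (pow_mem h3 4) h1) (conj_mem_U X.a_mem_B (inv_mem (pow_mem h3 4)))
  obtain ⟨s, hs⟩ := (comm_D h7 P.neg_ne (by
    have : X.a * (y ^ 4 * g * (y ^ 4)⁻¹) = y ^ 4 * g * (y ^ 4)⁻¹ * X.a := by
      rw [← h6, conj_mul, conj_mul, (Commute.pow_self g 9).eq]
    change X.a * _ = _ * X.a
    simpa [mul_assoc] using congrArg (· * X.a) this)).1
  exact Or.inr (Or.inl ⟨_, pow_mem h3 4, s, by rw [← hs]; simp [mul_assoc]⟩)

lemma mem_U_of_pow {g : G} (hg : g ∈ X.B) {n : ℕ} (h : g ^ 3 ^ n = 1) : g ∈ X.U := by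
  obtain ⟨a, b, c, k, rfl⟩ := hg
  have h1 : ∀ j, (X.x a b c * X.D k) ^ j * (X.D k ^ j)⁻¹ ∈ X.U := fun j => by
    induction j with
    | zero => simp
    | succ j ih => simpa [pow_succ', mul_assoc] using mul_mem (X.x_mem a b c) (conj_mem_U (X.D_mem_B k) ih)
  have h2 := h1 (3 ^ n)
  rw [h, one_mul, inv_mem_iff, ← map_pow] at h2
  have _ := P.charP
  have _ := Fact.mk Nat.prime_three
  obtain rfl : k = 1 := Units.ext (iterateFrobenius_inj K 3 n (by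
    simpa [iterateFrobenius_def] using congrArg Units.val (eq_one_of_D_mem h2)))
  simpa using X.x_mem a b c

variable (X)

/-- a point of a doubly transitive action -/
structure Pt {Ω : Type*} [MulAction G Ω] (ω : Ω) : Prop where
  stab : ∀ g : G, g • ω = ω ↔ g ∈ X.B
  trans : ∀ x, ∃ g : G, g • ω = x

lemma pt_quot : X.Pt (QuotientGroup.mk 1 : G ⧸ X.B) :=
  ⟨fun g => by rw [Quotient.smul_mk, QuotientGroup.eq]; simp,
    fun x => by obtain ⟨g, rfl⟩ := QuotientGroup.mk_surjective x; exact ⟨g, by simp⟩⟩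

namespace Pt

variable {X} {Ω : Type*} [MulAction G Ω] {ω : Ω} (h : X.Pt ω)
include h

lemma exists_eq (x : Ω) : x = ω ∨ ∃ u ∈ X.U, x = u • X.W • ω := by
  obtain ⟨g, rfl⟩ := h.trans x
  rcases X.bruhat g with hg | ⟨a, b, c, k, a', b', c', rfl⟩
  · exact Or.inl ((h.stab g).2 hg)
  · refine Or.inr ⟨_, X.x_mem a b c, ?_⟩
    rw [mul_smul, (h.stab _).2 (X.x_mem_B ..), mul_assoc, ← inv_inv k, ← W, ← W_mul_D, mul_smul, mul_smul,
      (h.stab _).2 (X.D_mem_B _)]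

lemma ne {b : G} (hb : b ∈ X.B) : b • X.W • ω ≠ ω := fun e =>
  not_mem_B hb (one_mem _) ((h.stab _).1 (by simpa [mul_smul] using e))

lemma stab_W {g : G} : g • X.W • ω = X.W • ω ↔ X.W * g * X.W ∈ X.B := by
  rw [← h.stab, mul_smul, mul_smul, smul_eq_iff_eq_inv_smul X.W, W_inv]

lemma inj {u v : G} (hu : u ∈ X.U) (hv : v ∈ X.U) (e : u • X.W • ω = v • X.W • ω) : u = v :=
  (inv_mul_eq_one.1 (eq_one_of_W (mul_mem (inv_mem hv) hu) (h.stab_W.1 (by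
    rw [mul_smul, e, inv_smul_smul])))).symm

lemma card : Nat.card Ω = P.q ^ 3 + 1 := by
  have := X.finite
  rw [← X.card_U, ← Finite.card_option]
  refine (Nat.card_eq_of_bijective (fun o : Option X.U => o.elim ω fun u => u.1 • X.W • ω)
    ⟨?_, fun x => ?_⟩).symm
  · rintro (_ | u) (_ | v) e
    exacts [rfl, absurd e.symm (h.ne (X.U_le_B v.2)), absurd e (h.ne (X.U_le_B u.2)),
      congrArg _ (Subtype.ext (h.inj u.2 v.2 e))]
  · obtain rfl | ⟨u, hu, rfl⟩ := h.exists_eq x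
    exacts [⟨none, rfl⟩, ⟨some ⟨u, hu⟩, rfl⟩]

lemma exists_pair {a b : Ω} (hab : a ≠ b) : ∃ g : G, g • ω = a ∧ g • X.W • ω = b := by
  obtain ⟨g, rfl⟩ := h.trans a
  obtain e | ⟨u, hu, e⟩ := h.exists_eq (g⁻¹ • b)
  · exact absurd (by rw [← e]; simp) hab
  · exact ⟨g * u, by rw [mul_smul, (h.stab u).2 (X.U_le_B hu)], by rw [mul_smul, ← e]; simp⟩

lemma mem_H {g : G} : g • ω = ω ∧ g • X.W • ω = X.W • ω ↔ g ∈ X.H :=
  ⟨fun e => mem_H_of_W ((h.stab g).1 e.1) (h.stab_W.1 e.2), fun ⟨k, e⟩ =>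
    e ▸ ⟨(h.stab _).2 (X.D_mem_B k), h.stab_W.2 (X.W_D k ▸ X.D_mem_B _)⟩⟩

lemma three {u g : G} (hu : u ∈ X.U) : (g • ω = ω ∧ g • X.W • ω = X.W • ω) ∧ g • u • X.W • ω = u • X.W • ω ↔
    g ∈ X.H ∧ g * u = u * g := by
  rw [h.mem_H]
  refine and_congr_right fun hg => ⟨fun e => mul_inv_eq_iff_eq_mul.1 (h.inj (conj_mem_U (X.H_le_B hg) hu) hu ?_),
    fun e => by rw [← mul_smul, e, mul_smul, (h.mem_H.2 hg).2]⟩
  rw [mul_smul, (h.mem_H.2 (inv_mem hg)).2, mul_smul, e]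

lemma card_three {a b c : Ω} (hab : a ≠ b) (hac : a ≠ c) (hbc : b ≠ c) :
    Nat.card ↥(stabilizer G a ⊓ stabilizer G b ⊓ stabilizer G c) ≤ 2 := by
  have := X.finite
  obtain ⟨g, rfl, rfl⟩ := h.exists_pair hab
  obtain e | ⟨u, hu, e⟩ := h.exists_eq (g⁻¹ • c)
  · exact absurd (by rw [← e]; simp) hac
  obtain rfl := inv_smul_eq_iff.1 e
  rw [← X.orderOf_a, ← Nat.card_zpowers, ← card_cj g (Subgroup.zpowers _)]
  refine Subgroup.card_le_of_le fun y hy => mem_cj.2 ?_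
  obtain ⟨⟨k, hk⟩, e⟩ := (h.three (g := g⁻¹ * y * g) hu).1 (by
    simp only [mul_smul, inv_smul_eq_iff]; exact hy)
  rw [← hk] at e ⊢
  by_cases h1 : k = 1
  · simp [h1]
  · rw [show k = -1 from by_contra fun h2 => hbc (by simp [(comm_D hu h1 e).2 h2])]
    exact Subgroup.mem_zpowers _

lemma exists_three : ∃ a b c : Ω, a ≠ b ∧ a ≠ c ∧ b ≠ c ∧
    Nat.card ↥(stabilizer G a ⊓ stabilizer G b ⊓ stabilizer G c) = 2 := by
  have := X.finite
  have h1 : ω ≠ X.W • ω := by simpa using (h.ne (one_mem _)).symm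
  have h2 := (h.ne (X.x_mem_B 0 1 0)).symm
  have h3 : X.W • ω ≠ X.x 0 1 0 • X.W • ω := fun e => by
    simpa [x_eq_one] using h.inj (X.x_mem 0 1 0) (one_mem _) (by simpa using e.symm)
  refine ⟨_, _, _, h1, h2, h3, (h.card_three h1 h2 h3).antisymm ?_⟩
  rw [← X.orderOf_a, ← Nat.card_zpowers]
  exact Subgroup.card_le_of_le (Subgroup.zpowers_le.2 ((h.three (X.x_mem 0 1 0)).2
    ⟨X.D_mem (-1), (X.φ_up 1 ▸ X.φ_a _ :).symm⟩))

end Pt

lemma index_B : X.B.index = P.q ^ 3 + 1 := X.pt_quot.card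

include X in
theorem card_eq : Nat.card G = P.q ^ 3 * (P.q - 1) * (P.q ^ 3 + 1) := by
  rw [← X.card_B, ← X.index_B, Subgroup.card_mul_index]

lemma isPGroup_U : IsPGroup 3 X.U := fun g => ⟨2, Subtype.ext (pow_nine g.2)⟩

lemma exists_le_U {Q : Subgroup G} (hQ : IsPGroup 3 Q) : ∃ g : G, ∀ x ∈ Q, g * x * g⁻¹ ∈ X.U := by
  have := X.finite
  have := Fact.mk Nat.prime_three
  obtain ⟨x, hx⟩ := hQ.nonempty_fixed_point_of_prime_not_dvd_card (G ⧸ X.B) (by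
    obtain ⟨t, ht⟩ := P.exists_q
    rw [X.pt_quot.card, ht, show (24 * t + 3) ^ 3 = 3 * (9 * (8 * t + 1) ^ 3) by ring]; omega)
  obtain ⟨x, rfl⟩ := QuotientGroup.mk_surjective x
  refine ⟨x⁻¹, fun y hy => ?_⟩
  obtain ⟨n, hn⟩ := hQ ⟨y, hy⟩
  exact mem_U_of_pow (n := n) (by simpa [mul_assoc] using QuotientGroup.eq.1 (hx ⟨y, hy⟩).symm)
    (by rw [conj_pow, show y ^ 3 ^ n = 1 from congrArg Subtype.val hn]; simp)

/-- conjugate structure -/
def conj (x : G) : ReS P G := X.map (MulAut.conj x)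

lemma conj_a (x : G) : (X.conj x).a = x * X.a * x⁻¹ := rfl

lemma mem_conj_U {x g : G} : g ∈ (X.conj x).U ↔ x⁻¹ * g * x ∈ X.U :=
  exists₃_congr fun _ _ _ => ⟨fun h => by simp [h, conj, map, mul_assoc], fun h => by simp [conj, map, ← h, mul_assoc]⟩

include X in
lemma exists_le_U' {Q : Subgroup G} (hQ : IsPGroup 3 Q) : ∃ Y : ReS P G, Q ≤ Y.U := by
  obtain ⟨g, hg⟩ := X.exists_le_U hQ
  exact ⟨X.conj g⁻¹, fun x hx => X.mem_conj_U.2 (by simpa using hg x hx)⟩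

include X in
lemma exists_U_eq (S : Sylow 3 G) : ∃ Y : ReS P G, Y.U = S := by
  obtain ⟨Y, hY⟩ := X.exists_le_U' S.isPGroup'
  exact ⟨Y, S.is_maximal' Y.isPGroup_U hY⟩

lemma normalizer_U : Subgroup.normalizer (X.U : Set G) = X.B :=
  SzS.normalizer_eq (fun _ hx _ hu => conj_mem_U hx hu) fun _ hx =>
    mem_B_of_conj (X.x_mem 1 0 0) (by simp [x_eq_one]) (X.U_le_B (hx _ (X.x_mem ..)))

include X in
theorem sylow_ti [Fact (Nat.Prime 3)] {S T : Sylow 3 G} (h : S ≠ T) : (S : Subgroup G) ⊓ T = ⊥ := by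
  have := X.finite
  obtain ⟨Y, hY⟩ := X.exists_U_eq S
  obtain ⟨g, rfl⟩ := exists_smul_eq G S T
  refine eq_bot_iff.2 fun y ⟨h1, h2⟩ => by_contra fun h3 => h (Sylow.smul_eq_iff_mem_normalizer.2 ?_).symm
  rw [← hY] at h1
  have : (S : Set G) = Y.U := by rw [hY]; rfl
  rw [this, normalizer_U, ← inv_mem_iff]
  exact mem_B_of_conj h1 h3 (Y.U_le_B (hY.ge (by simpa using H1.mem_conj_smul.1 h2)))

lemma card_order_three : Nat.card {u : X.U // orderOf u = 3} = P.q ^ 2 - 1 := by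
  have := Fact.mk Nat.prime_three
  rw [Par.q, ← P.hK, ← Nat.card_eq_fintype_card, sq, ← Nat.card_prod, ← Set.ncard_univ (K × K),
    ← Set.ncard_diff_singleton_of_mem (Set.mem_univ 0), ← Nat.card_coe_set_eq]
  refine (Nat.card_eq_of_bijective (fun p => ⟨⟨_, X.x_mem 0 p.1.1 p.1.2⟩, orderOf_eq_prime
    (Subtype.ext ((X.x_cube ..).trans (by simp))) fun e => p.2.2 (by
      simpa [x_eq_one, Prod.ext_iff] using congrArg Subtype.val e)⟩) ⟨fun a b e => ?_, ?_⟩).symm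
  · simpa [X.x_inj, Prod.ext_iff, Subtype.ext_iff] using e
  · rintro ⟨⟨_, t, u, v, rfl⟩, h⟩
    have h1 : X.x t u v ^ 3 = 1 := congrArg Subtype.val (h ▸ pow_orderOf_eq_one _ :)
    obtain rfl : t = 0 := by simpa [x_cube, x_eq_one] using h1
    refine ⟨⟨(u, v), trivial, fun e => ?_⟩, rfl⟩
    obtain ⟨rfl, rfl⟩ := Prod.ext_iff.1 e
    simp [show (⟨X.x 0 0 0, X.x_mem ..⟩ : X.U) = 1 from Subtype.ext X.x_zero] at h

end ReS

end H6.Ree
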