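import Cfsg.Agent.H6.Ree2

/-!
Small Ree groups III: abstract tori (`Ree.Tor A T`: `A` cyclic of order prime to six, `T` the common
abelian centralizer of its non-identity elements, `T/A` of exponent two) and counting lemmas.
-/

noncomputable section

namespace H6.Ree

open H5 Pointwise MulAction Suz

variable {G : Type*} [Group G]

/-- elements conjugate into a set -/
def cs (A : Set G) : Set G := {g | ∃ x, x * g * x⁻¹ ∈ A}

theorem card_cs [Finite G] {A : Set G} {N : Subgroup G} (h : ∀ x, ∀ a ∈ A, (x * a * x⁻¹ ∈ A ↔ x ∈ N)) :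
    (cs A).ncard * Nat.card N = Nat.card G * A.ncard := by
  choose! c hc using fun g (hg : g ∈ cs A) => hg
  rw [← Nat.card_coe_set_eq, ← Nat.card_coe_set_eq, ← Nat.card_prod, ← Nat.card_prod]
  refine Nat.card_eq_of_bijective (fun z => (z.2 * c z.1, ⟨z.2 * (c z.1 * z.1 * (c z.1)⁻¹) * z.2⁻¹,
    (h _ _ (hc _ z.1.2)).2 z.2.2⟩)) ⟨?_, ?_⟩
  · rintro ⟨⟨g, hg⟩, n, hn⟩ ⟨⟨g', hg'⟩, n', hn'⟩ e
    simp only [Prod.mk.injEq, Subtype.mk.injEq] at e
    obtain rfl : g = g' := by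
      have h2 : n * c g * g * (n * c g)⁻¹ = n' * c g' * g' * (n' * c g')⁻¹ := by
        simpa [mul_assoc] using e.2
      simpa [← e.1] using h2
    simpa using e.1
  · rintro ⟨x, a, ha⟩
    have hg : x⁻¹ * a * x ∈ cs A := ⟨x, by simpa [mul_assoc] using ha⟩
    exact ⟨⟨⟨_, hg⟩, x * (c (x⁻¹ * a * x))⁻¹, (h _ _ (hc _ hg)).1
      (by simpa [mul_assoc] using ha)⟩, by simp [mul_assoc]⟩

theorem card_fusion (N : Subgroup G) (a : G) : Nat.card N =
    {y | ∃ n ∈ N, n * a * n⁻¹ = y}.ncard * Nat.card ↥(N ⊓ Subgroup.centralizer {a}) := by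
  letI := MulAction.compHom G (MulAut.conj.comp N.subtype)
  rw [← (stabilizer N a).index_mul_card, index_stabilizer, ← Nat.card_congr
    (Subgroup.subgroupOfEquivOfLe (inf_le_left (b := Subgroup.centralizer {a}))).toEquiv]
  congr 2
  · exact Set.ext fun y => ⟨fun ⟨n, e⟩ => ⟨n, n.2, e⟩, fun ⟨n, h, e⟩ => ⟨⟨n, h⟩, e⟩⟩
  · congr 1
    ext n
    exact mul_inv_eq_iff_eq_mul.trans (mem_cent.symm.trans (and_iff_right n.2).symm)

lemma orderOf_conj (x g : G) : orderOf (x * g * x⁻¹) = orderOf g := (MulAut.conj x).orderOf_eq g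

lemma exists_order [Finite G] {g : G} {p : ℕ} (h : p ∣ orderOf g) : ∃ n : ℕ, orderOf (g ^ n) = p :=
  ⟨_, orderOf_pow_orderOf_div (orderOf_pos g).ne' h⟩

lemma cent_cj (x g : G) : Subgroup.centralizer {x * g * x⁻¹} = cj x (Subgroup.centralizer {g}) :=
  SzS.cent_conj g x

lemma isPGroup_zpowers {g : G} {p : ℕ} (h : orderOf g = p) : IsPGroup p (Subgroup.zpowers g) :=
  IsPGroup.of_card (n := 1) (by simp [h])

lemma exists_conj_sylow [Finite G] {p : ℕ} [Fact p.Prime] (S : Sylow p G) {C : Subgroup G} (hS : S.1 ≤ C)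
    {Q : Subgroup G} (hQ : IsPGroup p Q) (h : Q ≤ C) : ∃ c ∈ C, ∀ y ∈ Q, c * y * c⁻¹ ∈ S := by
  obtain ⟨R, hR⟩ := (hQ.comap_subtype (K := C)).exists_le_sylow
  obtain ⟨c, hc⟩ := exists_smul_eq C R (S.subtype hS)
  exact ⟨c, c.2, fun y hy => (show c * ⟨y, h hy⟩ * c⁻¹ ∈ (S.subtype hS).1 from
    hc ▸ H1.conj_mem_conj_smul (hR hy))⟩

/-- abstract tori -/
structure Tor (A T : Subgroup G) : Prop where
  cyc : IsCyclic A
  ne : A ≠ ⊥
  cop : (Nat.card A).Coprime 6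
  le : A ≤ T
  cent : ∀ a ∈ A, a ≠ 1 → Subgroup.centralizer {a} = T
  comm : ∀ s ∈ T, ∀ t ∈ T, s * t = t * s
  sq : ∀ t ∈ T, t * t ∈ A

/-- the involutions and the identity -/
def E (T : Subgroup G) : Set G := {t | t ∈ T ∧ t * t = 1}

namespace Tor

variable {A T : Subgroup G} (h : Tor A T)
include h

lemma cj (x : G) : Tor (cj x A) (cj x T) where
  cyc := have := h.cyc; isCyclic_of_surjective _ (cjEquiv x A).surjective
  ne e := h.ne ((Subgroup.map_eq_bot_iff_of_injective _ (MulAut.conj x).injective).1 e)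
  cop := card_cj x A ▸ h.cop
  le := cj_le_cj.2 h.le
  cent := by rintro _ ⟨a, ha, rfl⟩ h1; exact (cent_cj x a).trans (congrArg _ (h.cent a ha (by simpa using h1)))
  comm := by rintro _ ⟨a, ha, rfl⟩ _ ⟨b, hb, rfl⟩; rw [← map_mul, h.comm a ha b hb, map_mul]
  sq := by rintro _ ⟨a, ha, rfl⟩; exact ⟨_, h.sq a ha, map_mul ..⟩

lemma cent' {t : G} (ht : t ∈ T) (h2 : t * t ≠ 1) : Subgroup.centralizer {t} = T :=
  le_antisymm (fun _ hx => h.cent _ (h.sq t ht) h2 ▸ mem_cent.2 (Commute.mul_right (mem_cent.1 hx) (mem_cent.1 hx)))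
    fun x hx => mem_cent.2 (h.comm x hx t ht)

lemma ti {t : G} (ht : t ∈ T) (h2 : t * t ≠ 1) (x : G) :
    x * t * x⁻¹ ∈ T ↔ x ∈ Subgroup.normalizer (T : Set G) :=
  ⟨fun e => cj_eq_self_iff.1 (by
    rw [← h.cent' ht h2, ← cent_cj, h.cent' e (by simpa), h.cent' ht h2]), fun e => (e t).1 ht⟩

lemma odd : Odd (Nat.card A) := Nat.coprime_two_right.1 (h.cop.coprime_dvd_right (by decide))

lemma five_le {p : ℕ} (hp : p ∣ Nat.card A) (h1 : p ≠ 1) [Finite G] : 5 ≤ p := by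
  have := h.cop.coprime_dvd_left hp
  have := Nat.pos_of_dvd_of_pos hp Nat.card_pos
  by_contra h5
  interval_cases p <;> simp_all +decide

variable [Finite G]

lemma mem_of_odd {t : G} (ht : t ∈ T) (ho : Odd (orderOf t)) : t ∈ A := by
  obtain ⟨k, hk⟩ := ho
  have := pow_mem (h.sq t ht) (k + 1)
  rwa [← _root_.sq, ← pow_mul, show 2 * (k + 1) = orderOf t + 1 by omega, pow_succ, pow_orderOf_eq_one,
    one_mul] at this

lemma odd_orderOf {a : G} (ha : a ∈ A) : Odd (orderOf a) := h.odd.of_dvd_nat (A.orderOf_dvd_natCard ha)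

lemma orderOf_sq {a : G} (ha : a ∈ A) : orderOf (a * a) = orderOf a := by
  rw [← _root_.sq, (h.odd_orderOf ha).coprime_two_right.orderOf_pow]

lemma sq_ne {a : G} (ha : a ∈ A) (h1 : a ≠ 1) : a * a ≠ 1 := by
  rwa [ne_eq, ← orderOf_eq_one_iff, h.orderOf_sq ha, orderOf_eq_one_iff]

lemma mem_sub {A₀ : Subgroup G} (h0 : A₀ ≤ A) {t : G} (ht : t ∈ T) (ho : orderOf t ∣ Nat.card A₀) :
    t ∈ A₀ := by
  have := h.cyc
  have hA := h.mem_of_odd ht (h.odd.of_dvd_nat (ho.trans (Subgroup.card_dvd_of_le h0)))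
  letI := IsCyclic.commGroup (α := A)
  have e : A₀.subgroupOf A = (powMonoidHom (Nat.card A₀) : A →* A).ker :=
    Subgroup.eq_of_le_of_card_ge (fun y hy => Subtype.ext
      (orderOf_dvd_iff_pow_eq_one.1 (A₀.orderOf_dvd_natCard hy))) (by
      rw [IsCyclic.card_powMonoidHom_ker, Nat.card_congr (Subgroup.subgroupOfEquivOfLe h0).toEquiv]
      exact Nat.gcd_le_right _ Nat.card_pos)
  exact e.ge (show (⟨t, hA⟩ : A) ∈ _ from Subtype.ext (orderOf_dvd_iff_pow_eq_one.1 ho))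

lemma norm_sub {A₀ : Subgroup G} (h0 : A₀ ≤ A) (h1 : A₀ ≠ ⊥) :
    Subgroup.normalizer (A₀ : Set G) = Subgroup.normalizer (T : Set G) := by
  obtain ⟨⟨a, ha⟩, h2⟩ := Subgroup.ne_bot_iff_exists_ne_one.1 h1
  exact SzS.normalizer_eq (fun x hx u hu => h.mem_sub h0 ((hx u).1 (h.le (h0 hu)))
    (orderOf_conj x u ▸ A₀.orderOf_dvd_natCard hu)) fun x hx =>
    (h.ti (h.le (h0 ha)) (h.sq_ne (h0 ha) (by simpa using h2)) x).1 (h.le (h0 (hx a ha)))

omit [Finite G] in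
lemma cent_sub {A₀ : Subgroup G} (h0 : A₀ ≤ A) (h1 : A₀ ≠ ⊥) : Subgroup.centralizer (A₀ : Set G) = T := by
  obtain ⟨⟨a, ha⟩, h2⟩ := Subgroup.ne_bot_iff_exists_ne_one.1 h1
  exact le_antisymm (h.cent a (h0 ha) (by simpa using h2) ▸ Subgroup.centralizer_le (by simpa))
    fun t ht b hb => h.comm b (h.le (h0 hb)) t ht

lemma exists_sylow {p : ℕ} [hp : Fact p.Prime] (hd : p ∣ Nat.card A) : ∃ S : Sylow p G, S.1 ≤ A := by
  obtain ⟨⟨u, hu⟩, e⟩ := exists_prime_orderOf_dvd_card' p hd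
  rw [← Subgroup.orderOf_coe] at e
  have h1 : u ≠ 1 := fun e' => hp.out.one_lt.ne' (e ▸ orderOf_eq_one_iff.2 e')
  obtain ⟨S, hS⟩ := (isPGroup_zpowers e).exists_le_sylow
  have ho : ∀ y ∈ S, Odd (orderOf y) := fun y hy => by
    obtain ⟨n, hn⟩ := (IsPGroup.iff_orderOf.1 S.2) ⟨y, hy⟩
    rw [← Subgroup.orderOf_coe] at hn
    exact hn ▸ (h.odd.of_dvd_nat hd).pow
  have hg' : u ∈ S := hS (Subgroup.mem_zpowers u)
  have : Nontrivial S := ⟨⟨u, hg'⟩, 1, fun e => h1 (congrArg Subtype.val e)⟩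
  have := S.2.center_nontrivial
  obtain ⟨⟨z, hz⟩, h2⟩ := exists_ne (1 : Subgroup.center S)
  have hz' : ∀ y ∈ S, y * z = z * y := fun y hy =>
    congrArg Subtype.val (Subgroup.mem_center_iff.1 hz ⟨y, hy⟩)
  refine ⟨S, fun y hy => h.mem_of_odd ?_ (ho y hy)⟩
  rw [← h.cent z (h.mem_of_odd (h.cent u hu h1 ▸ mem_cent.2 (hz' u hg').symm) (ho _ z.2))
    fun e => h2 (Subtype.ext (Subtype.ext e))]
  exact mem_cent.2 (hz' y hy)

lemma conj_into {p : ℕ} (hp : p.Prime) (hd : p ∣ Nat.card A) {g : G} (hg : p ∣ orderOf g) : g ∈ cs T := by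
  have := Fact.mk hp
  obtain ⟨S, hS⟩ := h.exists_sylow hd
  obtain ⟨n, hn⟩ := exists_order hg
  obtain ⟨x, -, hx⟩ := exists_conj_sylow S le_top (isPGroup_zpowers hn) le_top
  refine ⟨x, h.cent _ (hS (hx _ (Subgroup.mem_zpowers _))) (fun e => hp.one_lt.ne' ?_) ▸ mem_cent.2 ?_⟩
  · rw [← hn, ← orderOf_conj x, e, orderOf_one]
  · rw [conj_mul, conj_mul, (Commute.self_pow g n).eq]

lemma conj_into' {g : G} (hg : ¬ (orderOf g).Coprime (Nat.card A)) : g ∈ cs T := by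
  obtain ⟨p, hp, h1, h2⟩ := Nat.Prime.not_coprime_iff_dvd.1 hg
  exact h.conj_into hp h2 h1

lemma exists_prime : ∃ p, p.Prime ∧ p ∣ Nat.card A :=
  Nat.exists_prime_and_dvd fun e => h.ne (Subgroup.card_eq_one.1 e)

theorem fusion {s g : G} (hs : s ∈ T) (hg : g * s * g⁻¹ ∈ T) :
    ∃ n ∈ Subgroup.normalizer (T : Set G), n * s * n⁻¹ = g * s * g⁻¹ := by
  obtain ⟨p, hp, hd⟩ := h.exists_prime
  have := Fact.mk hp
  obtain ⟨S, hS⟩ := h.exists_sylow hd
  obtain ⟨⟨u, hu⟩, e⟩ := exists_prime_orderOf_dvd_card' p hd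
  rw [← Subgroup.orderOf_coe] at e
  obtain ⟨c, hc, hx⟩ := exists_conj_sylow S (C := Subgroup.centralizer {g * s * g⁻¹})
    (fun y hy => mem_cent.2 (h.comm _ (h.le (hS hy)) _ hg)) (isPGroup_zpowers ((orderOf_conj g u).trans e))
    (Subgroup.zpowers_le.2 (mem_cent.2 (by rw [conj_mul, conj_mul, h.comm u (h.le hu) s hs])))
  refine ⟨c * g, (h.ti (h.le hu) (h.sq_ne hu fun e' => hp.one_lt.ne' (e ▸ orderOf_eq_one_iff.2 e')) _).1
    (by simpa [mul_assoc] using h.le (hS (hx _ (Subgroup.mem_zpowers _)))), ?_⟩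
  simpa [mul_assoc] using mul_inv_eq_iff_eq_mul.2 (mem_cent.1 hc)

theorem conj_cyclic {B C : Subgroup G} (hB : IsCyclic B) (hC : IsCyclic C) (h1 : Nat.card B ∣ Nat.card A)
    (h2 : Nat.card C = Nat.card B) : ∃ g, C = H5.cj g B := by
  have key : ∀ {B : Subgroup G}, IsCyclic B → Nat.card B ∣ Nat.card A → ∃ g, H5.cj g B ≤ A := fun {B} hB h1 => by
    obtain ⟨b, rfl⟩ := exists_zpowers_eq B
    rw [Nat.card_zpowers] at h1
    by_cases h3 : orderOf b = 1
    · exact ⟨1, by simp [orderOf_eq_one_iff.1 h3]⟩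
    obtain ⟨x, hx⟩ := h.conj_into (Nat.minFac_prime h3) ((Nat.minFac_dvd _).trans h1) (Nat.minFac_dvd _)
    exact ⟨x, by simpa [H5.cj] using h.mem_of_odd hx (orderOf_conj x b ▸ h.odd.of_dvd_nat h1)⟩
  obtain ⟨g, hg⟩ := key hB h1
  obtain ⟨g', hg'⟩ := key hC (h2 ▸ h1)
  refine ⟨g'⁻¹ * g, ?_⟩
  rw [← cj_cj, ← cj_eq_iff]
  refine Subgroup.eq_of_le_of_card_ge (fun y hy => h.mem_sub hg
    (h.le (hg' hy)) ?_) (by simp only [card_cj, h2, le_refl])
  rw [card_cj, ← h2, ← card_cj g']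
  exact Subgroup.orderOf_dvd_natCard _ hy

lemma card_fib (p : G → Prop) : {t | t ∈ T ∧ p (t * t)}.ncard = (E T).ncard * {a | a ∈ A ∧ p (a * a)}.ncard := by
  have key : ∀ e ∈ E T, ∀ a ∈ A, e * a * (e * a) = a * a := fun e he a ha => by
    rw [mul_assoc, ← mul_assoc a, h.comm a (h.le ha) e he.1, ← mul_assoc, ← mul_assoc, he.2, one_mul]
  rw [← Nat.card_coe_set_eq, ← Nat.card_coe_set_eq, ← Nat.card_coe_set_eq, ← Nat.card_prod]
  refine (Nat.card_eq_of_bijective (fun z => ⟨z.1 * z.2, mul_mem z.1.2.1 (h.le z.2.2.1),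
    (key _ z.1.2 _ z.2.2.1).symm ▸ z.2.2.2⟩) ⟨?_, ?_⟩).symm
  · rintro ⟨⟨e, he⟩, a, ha⟩ ⟨⟨e', he'⟩, a', ha'⟩ h1
    replace h1 : e * a = e' * a' := congrArg Subtype.val h1
    have h2 : a * a = a' * a' := by rw [← key e he a ha.1, h1, key e' he' a' ha'.1]
    obtain rfl : a = a' := mul_inv_eq_one.1 (by_contra fun h3 => h.sq_ne (mul_mem ha.1 (inv_mem ha'.1)) h3 (by
      rw [mul_assoc, ← mul_assoc a'⁻¹, ← h.comm a (h.le ha.1) _ (h.le (inv_mem ha'.1)), ← mul_assoc,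
        ← mul_assoc, h2]; simp))
    obtain rfl := mul_right_cancel h1
    rfl
  · rintro ⟨t, ht, hp⟩
    obtain ⟨k, hk⟩ := h.odd
    have h1 : (t * t) ^ (k + 1) * (t * t) ^ (k + 1) = t * t := by
      rw [← pow_add, show k + 1 + (k + 1) = Nat.card A + 1 by omega, pow_succ,
        orderOf_dvd_iff_pow_eq_one.1 (A.orderOf_dvd_natCard (h.sq t ht)), one_mul]
    have h2 := pow_mem (h.sq t ht) (k + 1)
    refine ⟨⟨⟨t * ((t * t) ^ (k + 1))⁻¹, mul_mem ht (inv_mem (h.le h2)), ?_⟩, _, h2, h1.symm ▸ hp⟩,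
      Subtype.ext (by simp)⟩
    rw [mul_assoc, ← mul_assoc _ t, h.comm _ (inv_mem (h.le h2)) t ht, mul_assoc, ← mul_inv_rev, h1, ← mul_assoc]
    simp

lemma card_T : Nat.card T = (E T).ncard * Nat.card A := by
  have := h.card_fib fun _ => True
  simp only [and_true] at this
  exact this

lemma card_A {i : ℕ} (hi : i ∣ Nat.card A) : {a | a ∈ A ∧ orderOf a = i}.ncard = i.totient := by
  classical
  have := h.cyc
  have := Fintype.ofFinite A
  rw [← IsCyclic.card_orderOf_eq_totient (α := A) (Nat.card_eq_fintype_card (α := A) ▸ hi), ← Set.ncard_coe_finset,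
    ← Set.ncard_image_of_injective _ A.subtype_injective]
  congr 1
  ext a
  simp only [Set.mem_setOf_eq, Finset.coe_filter, Finset.mem_univ, true_and, Set.mem_image, Subgroup.coe_subtype]
  exact ⟨fun h => ⟨⟨a, h.1⟩, by simpa using h.2, rfl⟩, by rintro ⟨b, hb, rfl⟩; exact ⟨b.2, by simpa using hb⟩⟩

lemma card_T_odd {i : ℕ} (hi : i ∣ Nat.card A) : {t | t ∈ T ∧ orderOf t = i}.ncard = i.totient := by
  rw [← h.card_A hi]
  exact congrArg _ (Set.ext fun t => ⟨fun e => ⟨h.mem_of_odd e.1 (e.2 ▸ h.odd.of_dvd_nat hi), e.2⟩,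
    fun e => ⟨h.le e.1, e.2⟩⟩)

lemma card_T_even {i : ℕ} (hi : i ∣ Nat.card A) :
    {t | t ∈ T ∧ orderOf t = 2 * i}.ncard + i.totient = (E T).ncard * i.totient := by
  have ho := h.odd.of_dvd_nat hi
  have h1 := h.card_fib fun t => orderOf t = i
  rw [show {a | a ∈ A ∧ orderOf (a * a) = i} = {a | a ∈ A ∧ orderOf a = i} from
    Set.ext fun a => and_congr_right fun ha => by rw [h.orderOf_sq ha], h.card_A hi] at h1
  rw [← h1, ← h.card_T_odd hi, ← Set.ncard_union_eq (Set.disjoint_left.2 fun t a b => by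
    have := a.2.symm.trans b.2
    obtain ⟨k, hk⟩ := ho
    omega)]
  refine congrArg _ (Set.ext fun t => ?_)
  simp only [Set.mem_union, Set.mem_setOf_eq, ← and_or_left, ← _root_.sq, orderOf_pow]
  refine and_congr_right fun _ => ?_
  obtain ⟨k, hk⟩ := ho
  rcases Nat.even_or_odd (orderOf t) with ⟨j, e⟩ | e
  · rw [Nat.gcd_eq_right ⟨j, by omega⟩]; omega
  · rw [e.coprime_two_right.gcd_eq_one]
    obtain ⟨j, e⟩ := e
    omega

theorem card_order {i : ℕ} (hi : ¬ i.Coprime (Nat.card A)) :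
    Nat.card {g : G // orderOf g = i} * Nat.card (Subgroup.normalizer (T : Set G)) =
      Nat.card G * {t | t ∈ T ∧ orderOf t = i}.ncard := by
  rw [← card_cs (N := Subgroup.normalizer (T : Set G)) fun x t ht => by
    rw [Set.mem_setOf_eq, orderOf_conj, and_iff_left ht.2, h.ti ht.1 fun e => hi ?_]
    exact (h.odd.coprime_two_left).coprime_dvd_left (ht.2 ▸ orderOf_dvd_of_pow_eq_one ((_root_.sq t).trans e))]
  congr 1
  exact congrArg Set.ncard (Set.ext fun g => ⟨fun e => (h.conj_into' (e ▸ hi)).imp fun x hx =>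
    ⟨hx, (orderOf_conj x g).trans e⟩, fun ⟨x, hx⟩ => (orderOf_conj x g).symm.trans hx.2⟩)

/-- regular elements -/
def R (_ : Tor A T) : Set G := {g | ¬ (orderOf g).Coprime (Nat.card A)}

theorem card_R {n : ℕ} (hn : Nat.card (Subgroup.normalizer (T : Set G)) = n * Nat.card T) :
    h.R.ncard * (n * Nat.card A) + Nat.card G = Nat.card G * Nat.card A := by
  have h1 := card_cs (A := {t | t ∈ T ∧ t * t ≠ 1}) (N := Subgroup.normalizer (T : Set G)) fun x t ht => by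
    rw [← h.ti ht.1 ht.2]; exact and_iff_left (by simpa using ht.2)
  have h2 : h.R = cs {t | t ∈ T ∧ t * t ≠ 1} := Set.ext fun g => ⟨fun e => (h.conj_into' e).imp fun x hx =>
    ⟨hx, fun e' => e ((h.odd.coprime_two_left).coprime_dvd_left
      (orderOf_conj x g ▸ orderOf_dvd_of_pow_eq_one ((_root_.sq _).trans e')))⟩, fun ⟨x, hx⟩ e => hx.2
    (orderOf_eq_one_iff.1 (Nat.eq_one_of_dvd_coprimes e (by
      rw [← orderOf_conj x g, ← _root_.sq]; exact orderOf_pow_dvd 2) (A.orderOf_dvd_natCard (h.sq _ hx.1))))⟩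
  have h3 : {a | a ∈ A ∧ a * a ≠ 1}.ncard + 1 = Nat.card A := by
    rw [← Set.ncard_insert_of_notMem (a := 1) (by simp)]
    exact congrArg Set.ncard (Set.ext fun a => ⟨fun e => e.elim (fun e => e ▸ A.one_mem) (·.1),
      fun e => or_iff_not_imp_left.2 fun e' => ⟨e, h.sq_ne e e'⟩⟩)
  rw [h.card_fib (· ≠ 1), ← h2, hn, h.card_T] at h1
  have h4 : 0 < (E T).ncard := Nat.pos_of_mul_pos_right (h.card_T ▸ Nat.card_pos)
  refine Nat.eq_of_mul_eq_mul_right h4 ?_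
  rw [← h3] at h1 ⊢
  linear_combination h1

theorem isCyclic_sylow {p : ℕ} [Fact p.Prime] (hd : p ∣ Nat.card A) (S : Sylow p G) : IsCyclic S := by
  obtain ⟨S', hS⟩ := h.exists_sylow hd
  have := h.cyc
  have := Subgroup.isCyclic_of_le hS
  exact isCyclic_of_surjective _ (S'.equiv S).surjective

end Tor

end H6.Ree
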