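import Cfsg.Agent.H6.Ree3
import Cfsg.Agent.S0058
import Cfsg.Agent.S0076
import Cfsg.Agent.S0111

/-!
Small Ree groups IV: `C(a) = ⟨a⟩ × L₂(q)`, Sylow `2`-subgroups, the tori of orders `q - 1` and `q + 1`.
-/

noncomputable section

namespace H6.Ree

open H5 Pointwise MulAction Suz

variable {K : Type*} [Field K] [Fintype K] {P : Par K} {G : Type*} [Group G]

lemma Par.ν_sq (P : Par K) {b : Kˣ} (h : P.ν b = 1 ∨ P.ν b = -1) : P.ν b = 1 ∧ (b = 1 ∨ b = -1) := by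
  have h1 : ((b : K) * P.f b ^ 3) ^ 2 = 1 := by
    simpa [Par.ν, Units.ext_iff] using h
  have h2 := congrArg P.f h1
  simp only [map_pow, map_mul, P.hff, map_one] at h2
  have h3 : b * b * (b * b) = 1 := Units.ext (show (b : K) * b * (b * b) = 1 by grind)
  obtain ⟨t, ht⟩ := P.exists_q
  have h4 : b * b = 1 := by
    have := pow_card_eq_one' (x := b)
    rwa [P.card_units, ht, show 24 * t + 3 - 1 = 4 * (6 * t) + 2 by omega, pow_add, pow_mul,
      show b ^ 4 = 1 by rw [← h3]; simp [pow_succ, mul_assoc], one_pow, one_mul, sq] at this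
  rcases Par.sq_one h4 with rfl | rfl <;> simp [Par.ν, Units.ext_iff, Odd.neg_pow (show Odd 3 by decide)]

lemma Par.gcd_two (P : Par K) : Nat.gcd 2 (Fintype.card K - 1) = 2 := by
  obtain ⟨t, ht⟩ := P.exists_q
  exact Nat.gcd_eq_left ⟨12 * t + 1, by rw [P.hK, ← Par.q, ht]; omega⟩

lemma psl_comm {l h h' : PSL2 K} (hl : l * l ≠ 1) (h1 : h * l = l * h) (h2 : h' * l = l * h') :
    h * h' = h' * h := by
  have k : ∀ {h}, h * l = l * h → psl h ∈ Subgroup.centralizer {psl l} := fun e =>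
    mem_cent.2 (by rw [← map_mul, e, map_mul])
  refine psl_inj ((map_mul ..).trans (Eq.trans ?_ (map_mul ..).symm))
  obtain e | ⟨e, x, hx⟩ | ⟨e, n, T, D, hT, hx⟩ := pg_cases (psl l)
  · exact absurd (by rw [psl_inj (e.trans (map_one _).symm), mul_one]) hl
  · exact UP_comm (centralizer_UP hx e ▸ k h1) (centralizer_UP hx e ▸ k h2)
  · have := hT.centralizer_eq hx fun e => hl (psl_inj (by rw [map_mul, e, map_one]))
    exact hT.comm (this ▸ k h1) (this ▸ k h2)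

lemma Par.psl_sq (P : Par K) {l : PSL2 K} {n : ℕ} (h : l ^ 2 ^ n = 1) : l * l = 1 := by
  have := P.charP
  have := Fact.mk Nat.prime_three
  obtain ⟨k, -, hk⟩ := (Nat.dvd_prime_pow Nat.prime_two).1 (orderOf_dvd_of_pow_eq_one h)
  obtain ⟨t, ht⟩ := P.exists_q
  suffices ¬ 4 ∣ orderOf l by
    rw [← sq, ← orderOf_dvd_iff_pow_eq_one, hk]
    obtain _ | _ | k := k
    exacts [by simp, by simp, absurd (hk ▸ ⟨2 ^ k, by ring⟩) this]
  rw [← orderOf_injective psl psl_inj]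
  obtain e | ⟨e, x, hx⟩ | ⟨e, n, T, D, hT, hx⟩ := pg_cases (psl l)
  · simp [e]
  · exact fun e => absurd (e.trans (orderOf_dvd_of_pow_eq_one (pow_char_UP 3 hx))) (by decide)
  · have := (T ⊓ PS K).orderOf_dvd_natCard ⟨hx, psl_mem l⟩
    rw [hT.card_inf_PS, P.gcd_two] at this
    have h2 := hT.eq
    rw [P.hK, ← Par.q, ht] at h2
    exact fun e => by have := e.trans this; omega

namespace ReS

variable (X : ReS P G)

/-- the embedding of `L₂(q)` -/
def ι : PSL2 K →* G := QuotientGroup.lift _ X.φ fun g hg => by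
  rcases mem_center_SL2.1 hg with rfl | rfl
  exacts [map_one _, X.φ_neg_one]

lemma ι_mk (g : SL2 K) : X.ι g = X.φ g := rfl

lemma φ_eq_D {g : SL2 K} {k : Kˣ} (h : X.φ g = X.D k) : ∃ b, g = dg b ∧ P.ν b = k := by
  obtain ⟨t, b, rfl⟩ | ⟨t, b, s, rfl⟩ := sl2_bruhat g <;> simp only [map_mul, X.φ_up, φ_dg'] at h
  · obtain ⟨h1, h2⟩ := xD_inj (h.trans (by rw [X.x_zero, one_mul]) : _ = X.x 0 0 0 * X.D k)
    exact ⟨b, by simp [(X.x_inj.1 h1).2.1, sl2_mul, sl2_eq_iff], h2⟩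
  · exact absurd (h ▸ X.D_mem_B k) (not_mem_B (mul_mem (X.x_mem_B ..) (X.D_mem_B _)) (X.x_mem_B ..))

lemma ι_inj : Function.Injective X.ι := (injective_iff_map_eq_one _).2 fun l h => by
  obtain ⟨g, rfl⟩ := QuotientGroup.mk_surjective l
  obtain ⟨b, rfl, e⟩ := X.φ_eq_D (h.trans (map_one X.D).symm)
  refine (QuotientGroup.eq_one_iff _).2 (mem_center_SL2.2 ?_)
  rcases (P.ν_sq (Or.inl e)).2 with rfl | rfl <;> simp [one_eq_sl2, neg_sl2, sl2_eq_iff]

lemma ι_ne (l : PSL2 K) : X.ι l ≠ X.a := fun h => by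
  obtain ⟨g, rfl⟩ := QuotientGroup.mk_surjective l
  obtain ⟨b, -, e⟩ := X.φ_eq_D h
  exact P.neg_ne (e.symm.trans (P.ν_sq (Or.inr e)).1)

lemma ι_ne' (l l' : PSL2 K) : X.ι l ≠ X.a * X.ι l' := fun h => X.ι_ne (l * l'⁻¹) (by simp [h])

lemma ι_a (l : PSL2 K) : X.ι l * X.a = X.a * X.ι l := by
  obtain ⟨g, rfl⟩ := QuotientGroup.mk_surjective l
  exact X.φ_a g

lemma ι_a' (l : PSL2 K) (g : G) : X.ι l * (X.a * g) = X.a * (X.ι l * g) := by
  rw [← mul_assoc, ι_a, mul_assoc]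

/-- the subgroup `⟨a⟩ × M` -/
def ext (M : Subgroup (PSL2 K)) : Subgroup G where
  carrier := {g | ∃ l ∈ M, g = X.ι l ∨ g = X.a * X.ι l}
  one_mem' := ⟨1, one_mem _, Or.inl (map_one _).symm⟩
  mul_mem' := by
    rintro _ _ ⟨l, h, rfl | rfl⟩ ⟨l', h', rfl | rfl⟩ <;> exact ⟨_, mul_mem h h', by simp [mul_assoc, ι_a']⟩
  inv_mem' := by
    rintro _ ⟨l, h, rfl | rfl⟩ <;> exact ⟨_, inv_mem h, by simp [← ι_a]⟩

lemma a_mem_ext (M : Subgroup (PSL2 K)) : X.a ∈ X.ext M := ⟨1, one_mem _, Or.inr (by simp)⟩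

lemma ι_mem_ext {M : Subgroup (PSL2 K)} {l : PSL2 K} (h : l ∈ M) : X.ι l ∈ X.ext M := ⟨l, h, Or.inl rfl⟩

lemma card_ext (M : Subgroup (PSL2 K)) : Nat.card (X.ext M) = 2 * Nat.card M := by
  rw [two_mul, ← Nat.card_sum]
  refine (Nat.card_eq_of_bijective (Sum.elim (fun k : M => (⟨_, k, k.2, Or.inl rfl⟩ : X.ext M))
    fun k : M => ⟨_, k, k.2, Or.inr rfl⟩) ⟨?_, ?_⟩).symm
  · rintro (k | k) (l | l) e <;> have := congrArg Subtype.val e
    exacts [congrArg _ (Subtype.ext (X.ι_inj this)), absurd this (X.ι_ne' _ _), absurd this.symm (X.ι_ne' _ _),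
      congrArg _ (Subtype.ext (X.ι_inj (mul_left_cancel this)))]
  · rintro ⟨_, k, h, rfl | rfl⟩
    exacts [⟨.inl ⟨k, h⟩, rfl⟩, ⟨.inr ⟨k, h⟩, rfl⟩]

theorem cent_a : Subgroup.centralizer {X.a} = X.ext ⊤ := by
  refine le_antisymm (fun g hg => ?_) ?_
  · have hU : ∀ u ∈ X.U, X.a * u = u * X.a → u ∈ X.ext ⊤ := fun u hu e => by
      obtain ⟨s, rfl⟩ := (comm_D hu P.neg_ne e).1
      exact ⟨up s, trivial, Or.inl (X.φ_up s).symm⟩
    have hB : ∀ b ∈ X.B, X.a * b * X.a⁻¹ = b → b ∈ X.ext ⊤ := by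
      rintro _ ⟨t, u, v, k, rfl⟩ e
      refine mul_mem (hU _ (X.x_mem ..) (mul_right_cancel (b := X.D k) ?_)) ((X.D_eq k).elim fun b h => ⟨dg b, trivial, h⟩)
      rw [mul_assoc _ X.a, show X.a * X.D k = _ from X.D_comm _ k, ← mul_assoc, mul_assoc X.a]
      exact mul_inv_eq_iff_eq_mul.1 e
    replace hg := mul_inv_eq_iff_eq_mul.2 (mem_cent.1 hg).symm
    obtain h | ⟨b, hb, u, hu, rfl⟩ := X.bruhat' g
    · exact hB g h hg
    obtain ⟨h1, h2⟩ := bruhat_unique (mul_mem (mul_mem X.a_mem_B hb) (inv_mem X.a_mem_B)) hb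
      (conj_mem_U X.a_mem_B hu) hu (Eq.trans (by simp [mul_assoc, show ∀ g, X.W * (X.a * g) = X.a * (X.W * g) from
        fun g => by rw [← mul_assoc, W_a, mul_assoc]]) hg)
    exact mul_mem (mul_mem (hB b hb h1) ⟨(w2 : SL2 K), trivial, Or.inl rfl⟩) (hU u hu (mul_inv_eq_iff_eq_mul.1 h2))
  · rintro _ ⟨l, -, rfl | rfl⟩ <;> simp [mem_cent, ι_a, mul_assoc]

lemma eq_ext {M : Subgroup G} (h : M ≤ Subgroup.centralizer {X.a}) (ha : X.a ∈ M) :
    M = X.ext (M.comap X.ι) := by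
  refine le_antisymm (fun g hg => ?_) ?_
  · obtain ⟨l, -, rfl | rfl⟩ := X.cent_a.le (h hg)
    exacts [⟨l, hg, Or.inl rfl⟩, ⟨l, (M.mul_mem_cancel_left ha).1 hg, Or.inr rfl⟩]
  · rintro _ ⟨l, hl, rfl | rfl⟩
    exacts [hl, mul_mem ha hl]

lemma card_cent_a : Nat.card (Subgroup.centralizer {X.a}) = P.q * (P.q - 1) * (P.q + 1) := by
  rw [cent_a, card_ext, Subgroup.card_top, ← P.gcd_two, card_PSL2_mul, P.hK]

theorem cent_a_equiv : Nonempty (Subgroup.centralizer {X.a} ≃* Multiplicative (ZMod 2) × PSL2 K) := by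
  classical
  have := X.finite
  have := Fact.mk Nat.prime_two
  let α : Multiplicative (ZMod 2) ≃* Subgroup.zpowers X.a := mulEquivOfPrimeCardEq (p := 2) (by simp)
    (by rw [Nat.card_zpowers, orderOf_a])
  have hα : ∀ c, (α c).1 = 1 ∨ (α c).1 = X.a := fun c => by
    simpa [orderOf_a, Finset.range_add_one, or_comm, eq_comm] using mem_zpowers_iff_mem_range_orderOf.1 (α c).2
  let β := ((Subgroup.subtype _).comp α.toMonoidHom).noncommCoprod X.ι fun c l => by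
    rcases hα c with e | e <;> simp [e, Commute, SemiconjBy, ι_a]
  refine ⟨(MulEquiv.subgroupCongr (X.cent_a.trans (le_antisymm ?_ ?_))).trans (MonoidHom.ofInjective (f := β)
    ((injective_iff_map_eq_one _).2 fun c e => ?_)).symm⟩
  · rintro _ ⟨l, -, rfl | rfl⟩
    exacts [⟨(1, l), by simp [β]⟩, ⟨(α.symm ⟨_, Subgroup.mem_zpowers _⟩, l), by simp [β]⟩]
  · rintro _ ⟨c, rfl⟩
    exact ⟨c.2, trivial, (hα c.1).imp (fun e => by simp [β, e]) fun e => by simp [β, e]⟩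
  · replace e : (α c.1).1 * X.ι c.2 = 1 := e
    rcases hα c.1 with h | h <;> rw [h] at e
    · exact Prod.ext (α.injective (Subtype.ext (by simpa using h))) (X.ι_inj (by simpa using e))
    · exact absurd ((map_one _).trans e.symm) (X.ι_ne' _ _)

include X in
lemma card_two : ∃ u, Odd u ∧ Nat.card G = 2 ^ 3 * u ∧ (Subgroup.centralizer {X.a}).index = P.q ^ 2 *
    (P.q ^ 2 - P.q + 1) ∧ ¬ 2 ∣ (Subgroup.centralizer {X.a}).index := by
  obtain ⟨t, ht⟩ := P.exists_q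
  have h := (Subgroup.centralizer {X.a}).index_mul_card
  rw [card_cent_a, X.card_eq] at h
  rw [X.card_eq]
  simp only [ht, show 24 * t + 3 - 1 = 24 * t + 2 from rfl, show (24 * t + 3) ^ 2 - (24 * t + 3) =
    (24 * t + 3) * (24 * t + 2) from Nat.sub_eq_of_eq_add (by ring)] at h ⊢
  have h1 : (Subgroup.centralizer {X.a}).index = (24 * t + 3) ^ 2 * ((24 * t + 3) * (24 * t + 2) + 1) :=
    Nat.eq_of_mul_eq_mul_right (by positivity) (h.trans (by ring))
  refine ⟨(24 * t + 3) ^ 3 * (12 * t + 1) * (6 * t + 1) * ((24 * t + 3) * (24 * t + 2) + 1), ?_, by ring, h1, ?_⟩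
  · simp [← Nat.not_even_iff_odd, parity_simps]
  · rw [h1, ← even_iff_two_dvd]; simp [parity_simps]

include X in
theorem sq_of_pow {g : G} {n : ℕ} (h : g ^ 2 ^ n = 1) : g * g = 1 := by
  have := X.finite
  have := Fact.mk Nat.prime_two
  obtain ⟨S, hS⟩ := (show IsPGroup 2 (Subgroup.zpowers g) by
    rintro ⟨_, k, rfl⟩; exact ⟨n, Subtype.ext (show (g ^ k) ^ 2 ^ n = 1 by
      rw [← zpow_natCast, ← zpow_mul, mul_comm, zpow_mul, zpow_natCast, h, one_zpow])⟩
    ).exists_le_sylow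
  obtain ⟨-, -, -, -, hi⟩ := X.card_two
  obtain ⟨c, hc⟩ := sylow_card_of S hi
  obtain ⟨l, -, e⟩ := X.cent_a.le (mem_cj.1 (hc (hS (Subgroup.mem_zpowers g))))
  have h1 : (c⁻¹ * g * c) ^ 2 = X.ι l ^ 2 := by
    rcases e with e | e <;> simp [e, sq, mul_assoc, ι_a']
  have h2 : l * l = 1 := P.psl_sq (n := n + 1) (X.ι_inj (by
    rw [map_pow, pow_succ', pow_mul, ← h1, ← pow_mul, mul_comm 2, pow_mul, ← inv_inv c, inv_inv c⁻¹, conj_pow, h]
    simp))
  exact conj_sq_eq_one (by rw [← sq, h1, sq, ← map_mul, h2, map_one])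

section sylow

variable [Fact (Nat.Prime 2)] (S : Sylow 2 G)
include X

lemma sylow_sq {x : G} (hx : x ∈ S) : x * x = 1 :=
  (S.2 ⟨x, hx⟩).elim fun _ h => X.sq_of_pow (congrArg Subtype.val h)

lemma sylow_comm {x y : G} (hx : x ∈ S) (hy : y ∈ S) : x * y = y * x := by
  rw [← inv_eq_of_mul_eq_one_left (X.sylow_sq S (S.1.mul_mem hx hy)), mul_inv_rev,
    inv_eq_of_mul_eq_one_left (X.sylow_sq S hx), inv_eq_of_mul_eq_one_left (X.sylow_sq S hy)]

lemma card_sylow : Nat.card S = 8 := by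
  have := X.finite
  obtain ⟨u, hu, e, -⟩ := X.card_two
  exact sylow_card_eq S e (by simpa [← even_iff_two_dvd] using hu)

lemma exists_a_mem : ∃ Y : ReS P G, Y.a ∈ S := by
  have := X.finite
  obtain ⟨S', hS⟩ := (isPGroup_zpowers X.orderOf_a).exists_le_sylow
  obtain ⟨g, rfl⟩ := exists_smul_eq G S' S
  exact ⟨X.conj g, H1.conj_mem_conj_smul (hS (Subgroup.mem_zpowers _))⟩

variable {S} (ha : X.a ∈ S)
include ha

lemma sylow_eq : S.1 = X.ext (S.1.comap X.ι) := X.eq_ext (fun _ hx => mem_cent.2 (X.sylow_comm S hx ha)) ha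

lemma card_V : Nat.card (S.1.comap X.ι) = 4 := by
  have := X.card_ext (S.1.comap X.ι)
  rw [← X.sylow_eq ha, show Nat.card S.1 = 8 from X.card_sylow S] at this
  omega

lemma klein : IsKleinFour ((S.1.comap X.ι).map psl) := by
  have h := (Nat.card_congr (pslSub _).toEquiv).symm.trans (X.card_V ha)
  have : Nontrivial ((S.1.comap X.ι).map psl) := Finite.one_lt_card_iff_nontrivial.1 (by omega)
  refine ⟨h, (Monoid.exponent_eq_prime_iff Nat.prime_two).2 ?_⟩
  rintro ⟨_, l, hl, rfl⟩ h1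
  exact orderOf_eq_prime (Subtype.ext ((map_pow psl l 2).symm.trans (by
    rw [show l ^ 2 = 1 from X.ι_inj (by rw [map_pow, sq, X.sylow_sq S hl, map_one])]; simp))) h1

lemma cent_sylow : Subgroup.centralizer (S.1 : Set G) = S := by
  refine le_antisymm (fun g hg => ?_) fun g hg y hy => X.sylow_comm S hy hg
  have key : ∀ l, X.ι l ∈ Subgroup.centralizer (S.1 : Set G) → X.ι l ∈ S.1 := fun l hl => by
    obtain ⟨l', h, e⟩ := (centralizer_klein P.two (X.klein ha)).le (show psl l ∈ _ by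
      rintro _ ⟨y, hy, rfl⟩
      rw [← map_mul, ← map_mul, X.ι_inj (by rw [map_mul, map_mul]; exact hl _ hy : X.ι (y * l) = X.ι (l * y))])
    exact psl_inj e ▸ h
  have h1 : X.a ∈ Subgroup.centralizer (S.1 : Set G) := fun y hy => X.sylow_comm S hy ha
  obtain ⟨l, -, rfl | rfl⟩ := X.cent_a.le (mem_cent.2 (hg _ ha).symm)
  exacts [key l hg, mul_mem ha (key l ((Subgroup.mul_mem_cancel_left _ h1).1 hg))]

lemma card_norm_inf : Nat.card ↥(Subgroup.normalizer (S.1 : Set G) ⊓ Subgroup.centralizer {X.a}) = 24 := by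
  have := X.finite
  rw [X.eq_ext inf_le_right ⟨Subgroup.le_normalizer ha, mem_cent.2 rfl⟩, card_ext,
    show (Subgroup.normalizer (S.1 : Set G) ⊓ Subgroup.centralizer {X.a}).comap X.ι =
      Subgroup.normalizer (S.1.comap X.ι : Set (PSL2 K)) from (SzS.normalizer_eq (fun l hl u hu => by
        rw [Subgroup.mem_comap, map_mul, map_mul, map_inv]; exact (hl.1 _).1 hu) fun l hl => Subgroup.mem_comap.2 <| Subgroup.mem_inf.2 ⟨Subgroup.mem_normalizer_fintype
          fun y hy => ?_, mem_cent.2 (X.ι_a l)⟩).symm, normalizer_comap_psl, card_comap_psl]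
  · obtain ⟨e⟩ := normalizer_klein P.two (X.klein ha) (map_psl_le _)
    obtain ⟨e'⟩ := card_S4_inf_PS e fun h => by
      obtain ⟨r, hr⟩ := (S4_le_PS e).1 h
      have h0 : r ≠ 0 := by rintro rfl; exact P.two (by simpa using hr)
      obtain ⟨b, hb⟩ := P.exists_ν (Units.mk0 r h0)
      have : P.ν b = -1 := hb.trans (Units.ext (by simp; linear_combination P.three - hr))
      exact P.neg_ne (this.symm.trans (P.ν_sq (Or.inr this)).1)
    rw [Nat.card_congr e'.toEquiv, nat_card_alternatingGroup]; simp [Nat.factorial]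
  · obtain ⟨v, hv, rfl | rfl⟩ := (X.sylow_eq ha).le hy
    · rw [← map_inv, ← map_mul, ← map_mul]; exact hl v hv
    · simpa [mul_assoc, ι_a'] using mul_mem ha (hl v hv)

end sylow

theorem inv_conj (hm : 1 ≤ P.m) {g : G} (h2 : g * g = 1) (h1 : g ≠ 1) : ∃ x, x * X.a * x⁻¹ = g := by
  have := X.finite
  have := X.simple hm
  have := Fact.mk Nat.prime_two
  obtain ⟨S, hS⟩ := (isPGroup_zpowers X.orderOf_a).exists_le_sylow
  have ha : X.a ∈ S := hS (Subgroup.mem_zpowers _)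
  have key : ∀ u ∈ S, u ≠ 1 → ∃ l, orderOf l = 2 ∧ IsConj u (X.ι l) := fun u hu h1 => by
    have ho := orderOf_eq_prime ((sq u).trans (X.sylow_sq S hu)) h1
    suffices ∃ g, g * u * g⁻¹ ∈ (S.1.comap X.ι).map X.ι by
      obtain ⟨g, l, -, e⟩ := this
      exact ⟨l, by rw [← orderOf_injective _ X.ι_inj, e, orderOf_conj, ho], isConj_iff.2 ⟨g, e.symm⟩⟩
    by_cases hQ : u ∈ (S.1.comap X.ι).map X.ι
    · exact ⟨1, by simpa using hQ⟩
    refine (Cfsg.Agent.S0111.result S _ (Subgroup.map_comap_le _ _) ?_ u ho hu hQ).resolve_left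
      fun ⟨M, hM, hi, hu⟩ => ?_
    · have := card_mul_relIndex (Subgroup.map_comap_le X.ι S.1)
      rw [Subgroup.card_map_of_injective X.ι_inj, X.card_V ha, show Nat.card S.1 = 8 from X.card_sylow S] at this
      omega
    · rcases hM.eq_bot_or_eq_top with rfl | rfl
      · obtain ⟨u, hu, e, -⟩ := X.card_two
        rw [Subgroup.index_bot] at hi
        omega
      · simp at hi
  obtain ⟨x, -, hx⟩ := exists_conj_sylow S le_top
    (isPGroup_zpowers (orderOf_eq_prime ((sq g).trans h2) h1)) le_top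
  obtain ⟨l, h3, h4⟩ := key _ (hx _ (Subgroup.mem_zpowers _)) (by simpa)
  obtain ⟨l', h5, h6⟩ := key _ ha X.a_ne
  exact isConj_iff.1 (((h6.trans (X.ι.map_isConj (isConj_invol h5 h3))).trans h4.symm).trans
    (isConj_iff.2 ⟨x, rfl⟩).symm)

include X in
lemma exists_a_eq (hm : 1 ≤ P.m) {g : G} (h2 : g * g = 1) (h1 : g ≠ 1) : ∃ Y : ReS P G, Y.a = g :=
  (X.inv_conj hm h2 h1).elim fun x h => ⟨X.conj x, h⟩

include X in
theorem sylow_two (hm : 1 ≤ P.m) [Fact (Nat.Prime 2)] (S : Sylow 2 G) : Subgroup.centralizer (S.1 : Set G) = S ∧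
    Nat.card (Subgroup.normalizer (S.1 : Set G)) = 168 := by
  have := X.finite
  obtain ⟨Y, ha⟩ := X.exists_a_mem S
  refine ⟨Y.cent_sylow ha, ?_⟩
  rw [card_fusion _ Y.a, Y.card_norm_inf ha, show {y | ∃ n ∈ Subgroup.normalizer (S.1 : Set G),
    n * Y.a * n⁻¹ = y} = (S.1 : Set G) \ {1} from Set.ext fun y => ⟨?_, fun hy => ?_⟩,
    Set.ncard_diff_singleton_of_mem S.1.one_mem, show (S.1 : Set G).ncard = 8 from X.card_sylow S]
  · rintro ⟨n, hn, rfl⟩
    exact ⟨(hn _).1 ha, by simpa using Y.a_ne⟩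
  · obtain ⟨x, hx⟩ := Y.inv_conj hm (X.sylow_sq S hy.1) hy.2
    simpa using Cfsg.Agent.S0076.result S {Y.a} {y} (by simpa) (by simpa using hy.1)
      (fun x hx => by simp [X.sylow_comm S hx ha]) (fun x hx => by simp [X.sylow_comm S hx hy.1]) x (by simpa)

/-- the odd part of the split torus -/
def AH : Subgroup G := (powMonoidHom 2 : Kˣ →* Kˣ).range.map X.D

lemma card_AH : Nat.card X.AH = (P.q - 1) / 2 := by
  rw [AH, Subgroup.card_map_of_injective X.D_inj, IsCyclic.card_powMonoidHom_range, P.card_units, Nat.gcd_comm,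
    Par.q, ← P.hK, P.gcd_two]

theorem torH (hm : 1 ≤ P.m) : Tor X.AH X.H := by
  have := X.finite
  obtain ⟨t, ht⟩ := P.exists_q
  have := P.le_q hm
  have hc : Nat.card X.AH = 12 * t + 1 := by rw [card_AH]; omega
  refine ⟨have := X.isCyclic_H; Subgroup.isCyclic_of_le (H' := X.H) (Subgroup.map_le_range _ _), fun e => ?_, ?_,
    Subgroup.map_le_range _ _, ?_, ?_, ?_⟩
  · rw [e, Subgroup.card_bot] at hc; omega
  · rw [hc, show 12 * t + 1 = 1 + 6 * (2 * t) by ring, Nat.coprime_add_mul_left_left]; simp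
  · rintro _ ⟨_, ⟨k, rfl⟩, rfl⟩ h1
    refine le_antisymm (fun x hx => mem_H_of_comm (fun e => h1 (by simp [e])) (fun e => ?_) (mem_cent.1 hx))
      fun _ ⟨l, e⟩ => e ▸ mem_cent.2 (X.D_comm ..)
    obtain ⟨b, hb⟩ := P.exists_ν k
    exact P.neg_ne ((hb.trans e).symm.trans (P.ν_sq (Or.inr (hb.trans e))).1)
  · rintro _ ⟨k, rfl⟩ _ ⟨l, rfl⟩; exact X.D_comm ..
  · rintro _ ⟨k, rfl⟩; exact ⟨_, ⟨k, rfl⟩, by simp [sq]⟩

lemma normalizer_H (hm : 1 ≤ P.m) : Subgroup.normalizer (X.H : Set G) = X.N := by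
  obtain ⟨⟨_, k, hk, rfl⟩, h⟩ := Subgroup.ne_bot_iff_exists_ne_one.1 (X.torH hm).ne
  have := X.finite
  have h2 := (X.torH hm).sq_ne (a := X.D k) ⟨_, hk, rfl⟩ fun e => h (Subtype.ext e)
  exact SzS.normalizer_eq (fun _ hx _ hu => conj_mem_H hx hu) fun _ hx => mem_N_of_conj
    (fun e => h2 (by simp [e])) (fun e => h2 (by simp [e, ← map_mul])) (hx _ (X.D_mem k))

lemma eq_ι {y : G} (hy : y * X.a = X.a * y) (ho : Odd (orderOf y)) : ∃ l, y = X.ι l := by
  obtain ⟨l, -, rfl | rfl⟩ := X.cent_a.le (mem_cent.2 hy)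
  · exact ⟨l, rfl⟩
  · have := pow_orderOf_eq_one (X.a * X.ι l)
    obtain ⟨k, hk⟩ := ho
    rw [hk, (show Commute X.a _ from (X.ι_a l).symm).mul_pow, pow_succ', pow_mul, sq, a_sq, one_pow, mul_one,
      ← map_pow] at this
    exact absurd ((map_one _).trans this.symm) (X.ι_ne' _ _)

lemma ι_comm {l : PSL2 K} {g : G} (h1 : g * X.a = X.a * g) (h2 : g * X.ι l = X.ι l * g) :
    g ∈ X.ext (Subgroup.centralizer {l}) := by
  obtain ⟨h, -, rfl | rfl⟩ := X.cent_a.le (mem_cent.2 h1)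
  · exact ⟨h, mem_cent.2 (X.ι_inj (by simpa using h2)), Or.inl rfl⟩
  · exact ⟨h, mem_cent.2 (X.ι_inj (by simpa [mul_assoc, ι_a'] using h2)), Or.inr rfl⟩

lemma ext_comm {M : Subgroup (PSL2 K)} (h : ∀ l ∈ M, ∀ l' ∈ M, l * l' = l' * l) {g g' : G} (hg : g ∈ X.ext M)
    (hg' : g' ∈ X.ext M) : g * g' = g' * g := by
  obtain ⟨l, hl, rfl | rfl⟩ := hg <;> obtain ⟨l', hl', rfl | rfl⟩ := hg' <;>
    simp [mul_assoc, ι_a', ← map_mul, h l hl l' hl']

include X in
lemma comm_of (hm : 1 ≤ P.m) {v y g g' : G} (h2 : v * v = 1) (h1 : v ≠ 1) (hy : y * v = v * y) (hy1 : y ≠ 1)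
    (ho : Odd (orderOf y)) (a1 : g * v = v * g) (a2 : g * y = y * g) (b1 : g' * v = v * g')
    (b2 : g' * y = y * g') : g * g' = g' * g := by
  obtain ⟨Y, rfl⟩ := X.exists_a_eq hm h2 h1
  obtain ⟨l, rfl⟩ := Y.eq_ι hy ho
  refine Y.ext_comm (fun _ h _ h' => psl_comm (fun e => ?_) (mem_cent.1 h) (mem_cent.1 h'))
    (Y.ι_comm a1 a2) (Y.ι_comm b1 b2)
  rw [orderOf_eq_prime (by rw [sq, ← map_mul, e, map_one]) hy1] at ho
  exact absurd ho (by decide)

include X in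
lemma dvd_B_of_comm {s y : G} (hs : orderOf s = 3) (h : y * s = s * y) : orderOf y ∣ P.q ^ 3 * (P.q - 1) := by
  obtain ⟨Y, hY⟩ := X.exists_le_U' (isPGroup_zpowers hs)
  have := hY (Subgroup.mem_zpowers s)
  exact Y.card_B ▸ Y.B.orderOf_dvd_natCard (mem_B_of_conj this (fun e => by simp [e] at hs)
    (by simpa [h] using Y.U_le_B this))

theorem cent_le (hm : 1 ≤ P.m) {y z : G} (hy1 : y ≠ 1) (ho : Odd (orderOf y))
    (h3 : ¬ orderOf y ∣ P.q ^ 3 * (P.q - 1)) (hy : y * X.a = X.a * y) (hz : z * z = 1) (hz1 : z ≠ 1)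
    (hz2 : z ≠ X.a) (hza : z * X.a = X.a * z) (hzy : z * y = y * z)
    (h8 : ¬ 8 ∣ Nat.card ↥(Subgroup.centralizer {X.a} ⊓ Subgroup.centralizer {y})) :
    Subgroup.centralizer {y} ≤ Subgroup.centralizer {X.a} := by
  have := X.finite
  have := Fact.mk Nat.prime_two
  have := Fact.mk Nat.prime_three
  set C := Subgroup.centralizer {y}
  have h3' : ¬ 3 ∣ Nat.card C := fun e => by
    obtain ⟨s, hs⟩ := exists_prime_orderOf_dvd_card' 3 e
    exact h3 (X.dvd_B_of_comm ((Subgroup.orderOf_coe s).trans hs) (mem_cent.1 s.2).symm)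
  have haC : X.a ∈ C := mem_cent.2 hy.symm
  obtain ⟨S, hS⟩ := (isPGroup_zpowers (g := (⟨_, haC⟩ : C)) (p := 2) (by
    rw [← Subgroup.orderOf_coe]; exact X.orderOf_a)).exists_le_sylow
  have haS := hS (Subgroup.mem_zpowers _)
  have hsq : ∀ s ∈ S, s * s = 1 := fun s hs => (S.2 ⟨s, hs⟩).elim fun _ h =>
    Subtype.ext (X.sq_of_pow (congrArg (·.1.1) h))
  have hc : ∀ s ∈ S, ∀ s' ∈ S, s * s' = s' * s := fun s hs s' hs' => by
    rw [← inv_eq_of_mul_eq_one_left (hsq _ (S.1.mul_mem hs hs')), mul_inv_rev,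
      inv_eq_of_mul_eq_one_left (hsq _ hs), inv_eq_of_mul_eq_one_left (hsq _ hs')]
  set V := S.1.map C.subtype
  have hV : V ≤ Subgroup.centralizer {X.a} ⊓ C := by
    rintro _ ⟨s, hs, rfl⟩
    exact ⟨mem_cent.2 (congrArg Subtype.val (hc s hs _ haS)), s.2⟩
  have hcV : Nat.card V = Nat.card S := Subgroup.card_map_of_injective C.subtype_injective
  have hzS : (⟨z, mem_cent.2 hzy⟩ : C) ∈ S := by
    have hz' : (⟨z, mem_cent.2 hzy⟩ : C) ∈ Subgroup.centralizer (S.1 : Set C) := fun s hs => Subtype.ext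
      (X.comm_of hm X.a_sq X.a_ne hy hy1 ho (mem_cent.1 (hV ⟨s, hs, rfl⟩).1) (mem_cent.1 s.2) hza hzy)
    refine (S.is_maximal' (IsPGroup.to_sup_of_normal_left' (H := S.1) S.2 (isPGroup_zpowers (g := ⟨z, _⟩)
      (orderOf_eq_prime (Subtype.ext ((sq z).trans hz)) (by simpa))) (Subgroup.zpowers_le.2
      (Subgroup.centralizer_le_normalizer _ hz'))) le_sup_left).le (Subgroup.mem_sup_right (Subgroup.mem_zpowers _))
  have hN : Subgroup.normalizer (S : Set C) ≤ Subgroup.centralizer (S : Set C) := by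
    refine Subgroup.relIndex_eq_one.1 (Nat.eq_one_of_dvd_coprimes (show Nat.Coprime _ 24 from ?_) dvd_rfl ?_)
    · rw [show 24 = 2 ^ 3 * 3 from rfl, Nat.coprime_mul_iff_right, Nat.coprime_pow_right_iff (by decide)]
      exact ⟨((Nat.Prime.coprime_iff_not_dvd Nat.prime_two).2 fun e => S.not_dvd_index (e.trans
        ((Subgroup.relIndex_dvd_index_of_le (Subgroup.centralizer_le_normalizer _)).trans
          (Subgroup.index_dvd_of_le fun s hs s' hs' => hc s' hs' s hs)))).symm,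
        ((Nat.Prime.coprime_iff_not_dvd Nat.prime_three).2 fun e => h3' (e.trans
          ((Subgroup.relIndex_dvd_card _ _).trans (Subgroup.card_subgroup_dvd_card _)))).symm⟩
    · have key := Subgroup.card_dvd_of_injective _ (QuotientGroup.kerLift_injective S.1.normalizerMonoidHom)
      rw [Subgroup.normalizerMonoidHom_ker, ← Subgroup.index, ← Subgroup.relIndex] at key
      refine key.trans ((Subgroup.card_dvd_of_injective (MulAut.toPerm _) fun a b e =>
        MulEquiv.toEquiv_injective e).trans ?_)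
      obtain ⟨n, hn⟩ := IsPGroup.iff_card.1 S.2
      have := Subgroup.card_dvd_of_le hV
      rw [Nat.card_perm, hn]
      rw [hcV, show Nat.card S = _ from hn] at this
      obtain _ | _ | _ | n := n
      exacts [by decide, by decide, by decide, absurd (Nat.dvd_trans ⟨2 ^ n, by ring⟩ this) h8]
  have hK := MonoidHom.ker_transferSylow_isComplement' S hN
  set L := (MonoidHom.transferSylow S hN).ker
  have : IsMulCommutative V := ⟨⟨by
    rintro ⟨_, s, hs, rfl⟩ ⟨_, s', hs', rfl⟩; exact Subtype.ext (congrArg C.subtype (hc s hs s' hs'))⟩⟩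
  have hL := Cfsg.Agent.S0058.result V (L.map C.subtype) (fun hcyc => hz2 (congrArg Subtype.val
    (eq_of_sq_eq_one (G := V) ⟨z, _, hzS, rfl⟩ ⟨_, _, haS, rfl⟩ (Subtype.ext ((sq z).trans hz))
      (Subtype.ext ((sq _).trans X.a_sq)) (fun e => hz1 (congrArg Subtype.val e))
        fun e => X.a_ne (congrArg Subtype.val e))))
    ((Subgroup.map_mono le_top).trans ((Subgroup.normalizer_eq_top L).symm ▸ Subgroup.le_normalizer_map _))
    (by rw [hcV, Subgroup.card_map_of_injective C.subtype_injective]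
        obtain ⟨n, hn⟩ := IsPGroup.iff_card.1 S.2
        rw [show Nat.card S = _ from hn]
        exact ((Nat.Prime.coprime_iff_not_dvd Nat.prime_two).2
          (MonoidHom.not_dvd_card_ker_transferSylow S hN)).pow_left _)
  intro g hg
  obtain ⟨⟨k, s⟩, e⟩ := hK.2 ⟨g, hg⟩
  rw [← show k.1.1 * s.1.1 = g from congrArg Subtype.val e]
  refine mul_mem ((hL.ge.trans (iSup₂_le ?_)) ⟨k, k.2, rfl⟩) (hV ⟨s, s.2, rfl⟩).1
  rintro _ ⟨⟨v, hv, rfl⟩, h1⟩ _ ⟨⟨w, -, rfl⟩, hw⟩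
  exact mem_cent.2 (X.comm_of hm (congrArg Subtype.val (hsq v hv)) h1 (mem_cent.1 v.2).symm hy1 ho
    (mem_cent.1 hw) (mem_cent.1 w.2) (congrArg Subtype.val (hc _ haS v hv)) hy.symm)

theorem exists_torQ (hm : 1 ≤ P.m) : ∃ A T : Subgroup G, Tor A T ∧ X.a ∈ T ∧ Nat.card A = (P.q + 1) / 4 ∧
    Nat.card T = P.q + 1 ∧ Nat.card (Subgroup.normalizer (T : Set G)) = 6 * Nat.card T := by
  have := X.finite
  obtain ⟨t, ht⟩ := P.exists_q
  have := P.le_q hm
  obtain ⟨T, D, hT, -⟩ := exists_nonsplit K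
  rw [P.hK, ← Par.q, ht] at hT
  have hc : Nat.card (T.comap psl) = 2 * (6 * t + 1) := by
    rw [card_comap_psl, hT.card_inf_PS, P.gcd_two]; omega
  have := hT.cyc
  have : IsCyclic (T.comap psl) := isCyclic_of_injective ((psl.comp (Subgroup.subtype _)).codRestrict T
    fun x => x.2) fun a b e => Subtype.ext (psl_inj (congrArg Subtype.val e))
  obtain ⟨r, hr⟩ := exists_zpowers_eq (T.comap psl)
  have hor : orderOf r = 2 * (6 * t + 1) := by rw [← Nat.card_zpowers, hr, hc]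
  have hrT : ∀ n : ℕ, r ^ n ∈ T.comap psl := fun n => hr ▸ Subgroup.npow_mem_zpowers r n
  have hA : Nat.card ((Subgroup.zpowers (r ^ 2)).map X.ι) = 6 * t + 1 := by
    rw [Subgroup.card_map_of_injective X.ι_inj, Nat.card_zpowers, orderOf_pow, hor]; simp
  have hle := Subgroup.zpowers_le.2 (hrT 2)
  have hcm : ∀ l ∈ T.comap psl, ∀ l' ∈ T.comap psl, l * l' = l' * l := fun l h l' h' =>
    psl_inj (by rw [map_mul, map_mul, hT.comm h h'])
  have hcent : ∀ l ∈ T.comap psl, l * l ≠ 1 → Subgroup.centralizer {X.a} ⊓ Subgroup.centralizer {X.ι l} =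
      X.ext (T.comap psl) := fun l hl h2 => le_antisymm (fun g hg => by
    obtain ⟨h, hh, e⟩ := X.ι_comm (mem_cent.1 hg.1) (mem_cent.1 hg.2)
    exact ⟨h, (hT.centralizer_eq hl fun e => h2 (psl_inj (by rw [map_mul, e, map_one]))).le
      (mem_cent.2 (by rw [← map_mul, mem_cent.1 hh, map_mul])), e⟩) fun g hg =>
    ⟨mem_cent.2 (X.ext_comm hcm hg (X.a_mem_ext _)), mem_cent.2 (X.ext_comm hcm hg (X.ι_mem_ext hl))⟩
  have hTor : Tor ((Subgroup.zpowers (r ^ 2)).map X.ι) (X.ext (T.comap psl)) := by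
    refine ⟨by rw [MonoidHom.map_zpowers]; infer_instance, fun e => ?_, ?_, ?_, ?_,
      fun _ h _ h' => X.ext_comm hcm h h', ?_⟩
    · rw [e, Subgroup.card_bot] at hA; omega
    · rw [hA, add_comm, Nat.coprime_add_mul_left_left]; simp
    · rintro _ ⟨l, hl, rfl⟩; exact X.ι_mem_ext (hle hl)
    · rintro _ ⟨l, hl, rfl⟩ h1
      have hd := hA ▸ Subgroup.orderOf_dvd_natCard _ (Subgroup.mem_map_of_mem X.ι hl)
      have ho := Odd.of_dvd_nat (by simp [parity_simps]) hd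
      have h2 : l * l ≠ 1 := fun e => by
        rw [orderOf_eq_prime (by rw [sq, ← map_mul, e, map_one]) h1] at ho
        exact absurd ho (by decide)
      rw [← hcent l (hle hl) h2]
      refine le_antisymm (le_inf (X.cent_le hm (z := X.ι (r ^ (6 * t + 1))) h1 ho (fun e => h1
        (orderOf_eq_one_iff.1 (Nat.eq_one_of_dvd_coprimes ?_ hd e))) (X.ι_a l) ?_ (fun e => ?_) (X.ι_ne _) (X.ι_a _)
        (by rw [← map_mul, hcm _ (hrT _) l (hle hl), map_mul]) ?_) le_rfl) inf_le_right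
      · rw [ht, show 24 * t + 3 - 1 = 2 * (12 * t + 1) by omega]
        refine (Nat.Coprime.pow_right _ ?_).mul_right (Nat.Coprime.mul_right ?_ ?_)
        · exact Nat.coprime_of_dvd fun k hk a b => hk.one_lt.ne' (Nat.dvd_one.1 (by
            simpa [show 4 * (6 * t + 1) - (24 * t + 3) = 1 by omega] using Nat.dvd_sub (a.mul_left 4) b))
        · simp [parity_simps]
        · exact Nat.coprime_of_dvd fun k hk a b => hk.one_lt.ne' (Nat.dvd_one.1 (by
            simpa [show 2 * (6 * t + 1) - (12 * t + 1) = 1 by omega] using Nat.dvd_sub (a.mul_left 2) b))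
      · rw [← map_mul, ← pow_add, ← two_mul, ← hor, pow_orderOf_eq_one, map_one]
      · have := orderOf_dvd_of_pow_eq_one (X.ι_inj (e.trans (map_one _).symm))
        exact absurd (Nat.le_of_dvd (by omega) this) (by omega)
      · rw [hcent l (hle hl) h2, card_ext, hc]; omega
    · rintro _ ⟨l, hl, e⟩
      obtain ⟨k, rfl⟩ := hr.ge hl
      refine ⟨(r ^ 2) ^ k, ⟨k, rfl⟩, ?_⟩
      rw [sq, (Commute.refl r).mul_zpow, map_mul]
      rcases e with rfl | rfl <;> simp [mul_assoc, ι_a', -map_zpow]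
  have hcT : Nat.card (X.ext (T.comap psl)) = 4 * (6 * t + 1) := by rw [card_ext, hc]; ring
  refine ⟨_, _, hTor, X.a_mem_ext _, by rw [hA]; omega, by rw [hcT]; omega, ?_⟩
  have hE : (E (X.ext (T.comap psl))).ncard = 4 :=
    Nat.eq_of_mul_eq_mul_right (by omega) (hA ▸ hTor.card_T.symm.trans hcT)
  have h2 : r * r ≠ 1 := fun e => by
    have := orderOf_dvd_of_pow_eq_one ((sq r).trans e)
    exact absurd (Nat.le_of_dvd (by omega) this) (by omega)
  have h3 := fun l => hTor.ti (X.ι_mem_ext (hrT 1)) (fun e => h2 (X.ι_inj (by simpa using e))) (X.ι l)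
  rw [card_fusion _ X.a, X.eq_ext inf_le_right ⟨Subgroup.le_normalizer (X.a_mem_ext _), mem_cent.2 rfl⟩, card_ext,
    show (_ ⊓ Subgroup.centralizer {X.a}).comap X.ι = D.comap psl from Subgroup.ext fun l => ⟨fun h => ?_,
      fun h => ⟨(h3 l).1 ?_, mem_cent.2 (X.ι_a l)⟩⟩, card_comap_psl, hT.inf_PS_dihedral.1, P.gcd_two, hcT,
    show {y | ∃ n ∈ _, n * X.a * n⁻¹ = y} = E (X.ext (T.comap psl)) \ {1} from Set.ext fun y => ⟨?_, fun hy => ?_⟩,
    Set.ncard_diff_singleton_of_mem (show (1 : G) ∈ E _ from ⟨one_mem _, mul_one _⟩), hE]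
  · omega
  · rintro ⟨n, hn, rfl⟩
    exact ⟨⟨(hn _).1 (X.a_mem_ext _), by simp⟩, by simpa using X.a_ne⟩
  · obtain ⟨x, rfl⟩ := X.inv_conj hm hy.1.2 hy.2
    exact hTor.fusion (X.a_mem_ext _) hy.1.1
  · obtain ⟨l', h', e | e⟩ := (h3 l).2 h.1 <;> rw [← map_inv, ← map_mul, ← map_mul] at e
    · exact hT.norm _ (hrT 1) (fun e => h2 (by rw [← pow_one r, psl_inj (e.trans (map_one _).symm), mul_one])) _
        (by rw [← map_inv, ← map_mul, ← map_mul, X.ι_inj e]; exact h')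
    · exact absurd e (X.ι_ne' _ _)
  · simpa using X.ι_mem_ext (show l * r ^ 1 * l⁻¹ ∈ T.comap psl by simpa using hT.conj_mem h (hrT 1))

end ReS

end H6.Ree
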