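import Cfsg.Agent.H6.Ree4

/-!
Small Ree groups V: element counts, the tori of orders `q ± √(3q) + 1`, the list of the four tori.
-/

noncomputable section

namespace H6.Ree

open H5 Pointwise MulAction Suz Matrix Module

variable {K : Type*} [Field K] [Fintype K] {P : Par K} {G : Type*} [Group G]

section lin

variable {p : ℕ} [hp : Fact p.Prime] (h5 : 5 ≤ p) (hd : p ∣ Fintype.card K ^ 2 - Fintype.card K + 1)
  {M : Matrix (Fin 7) (Fin 7) K} (hM : M ^ p = 1)
include h5 hd hM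

lemma dim_inv (W : Submodule K (Fin 7 → K)) (hW : ∀ v ∈ W, M *ᵥ v ∈ W) :
    finrank K W = finrank K ↥(W ⊓ LinearMap.ker (toLin' M - 1)) ∨
      finrank K W = finrank K ↥(W ⊓ LinearMap.ker (toLin' M - 1)) + 6 := by
  classical
  let f : Function.End W := fun v => ⟨M *ᵥ v, hW _ v.2⟩
  have hf : ∀ n (v : W), ((f ^ n) v : Fin 7 → K) = (M ^ n) *ᵥ v := fun n => by
    induction n with
    | zero => intro v; rw [pow_zero, pow_zero, one_mulVec]; rfl
    | succ n ih => intro v; rw [pow_succ', pow_succ', ← mulVec_mulVec, ← ih]; rfl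
  have := Fintype.ofFinite W
  have h := Equiv.Perm.card_fixedPoints_modEq (f := f) (p := p) (n := 1)
    (funext fun v => Subtype.ext (by rw [hf, pow_one, hM, one_mulVec]; rfl))
  rw [← Nat.card_eq_fintype_card, ← Nat.card_eq_fintype_card, show Nat.card (Function.fixedPoints f) =
    Nat.card ↥(W ⊓ LinearMap.ker (toLin' M - 1)) from Nat.card_congr ⟨fun v => ⟨v.1.1, v.1.2,
      sub_eq_zero.2 (congrArg Subtype.val v.2)⟩, fun v => ⟨⟨v.1, v.2.1⟩, Subtype.ext (sub_eq_zero.1 v.2.2)⟩,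
      fun _ => rfl, fun _ => rfl⟩, Module.natCard_eq_pow_finrank (K := K) (V := W),
    Module.natCard_eq_pow_finrank (K := K) (V := ↥(W ⊓ _)), Nat.card_eq_fintype_card] at h
  have h1 := (ZMod.natCast_eq_natCast_iff _ _ _).2 h
  rw [Nat.cast_pow, Nat.cast_pow] at h1
  have ha : (Fintype.card K : ZMod p) ^ 2 - Fintype.card K + 1 = 0 := by
    have := (ZMod.natCast_eq_zero_iff _ _).2 hd
    rwa [Nat.cast_add, Nat.cast_sub (Nat.le_self_pow two_ne_zero _), Nat.cast_pow, Nat.cast_one] at this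
  have h2 : (2 : ZMod p) ≠ 0 := fun e => by
    have := Nat.le_of_dvd two_pos ((ZMod.natCast_eq_zero_iff 2 p).1 e); omega
  have h3 : (3 : ZMod p) ≠ 0 := fun e => by
    have := Nat.le_of_dvd three_pos ((ZMod.natCast_eq_zero_iff 3 p).1 e); omega
  obtain ⟨d, e⟩ := Nat.exists_eq_add_of_le (Submodule.finrank_mono
    (inf_le_left : W ⊓ LinearMap.ker (toLin' M - 1) ≤ W))
  have h7 : finrank K W ≤ 7 := by simpa using W.finrank_le
  rw [e, pow_add, mul_eq_left₀ (pow_ne_zero _ (by grind))] at h1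
  have : d ≤ 7 := by omega
  rw [e]
  interval_cases d <;> simp <;> grind

lemma dim_fix (h1 : M ≠ 1) : finrank K (LinearMap.ker (toLin' M - 1)) = 1 ∧
    finrank K (LinearMap.range (toLin' M - 1)) = 6 := by
  have h := dim_inv h5 hd hM ⊤ fun _ _ => trivial
  have h' := (toLin' M - 1).finrank_range_add_finrank_ker
  rw [top_inf_eq, finrank_top, finrank_fin_fun] at h
  rw [finrank_fin_fun] at h'
  rcases h with h | h
  · have := Submodule.eq_top_of_finrank_eq (S := LinearMap.ker (toLin' M - 1)) (by simpa using h.symm)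
    exact absurd (toLin'.injective ((sub_eq_zero.1 (LinearMap.ker_eq_top.1 this)).trans toLin'_one.symm)) h1
  · omega

lemma irred7 (h1 : M ≠ 1) {W : Submodule K (Fin 7 → K)} (hW : ∀ v ∈ W, M *ᵥ v ∈ W)
    (h : W ≤ LinearMap.range (toLin' M - 1)) : W = ⊥ ∨ W = LinearMap.range (toLin' M - 1) := by
  obtain ⟨h2, h3⟩ := dim_fix h5 hd hM h1
  have h4 := dim_inv h5 hd hM (LinearMap.range (toLin' M - 1)) (by
    rintro _ ⟨v, rfl⟩; exact ⟨M *ᵥ v, by simp [mulVec_sub]⟩)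
  have h6 := Submodule.finrank_mono (inf_le_right : LinearMap.range (toLin' M - 1) ⊓ _ ≤ LinearMap.ker (toLin' M - 1))
  have h7 := Submodule.finrank_mono (inf_le_inf_right (LinearMap.ker (toLin' M - 1)) h)
  exact (dim_inv h5 hd hM W hW).imp (fun e => Submodule.finrank_eq_zero.1 (by omega)) fun e =>
    Submodule.eq_of_le_of_finrank_eq h (by omega)

end lin

theorem cent_prime7 [Finite G] (ρ : G →* Matrix (Fin 7) (Fin 7) K) (hρ : Function.Injective ρ) {u : G}
    (hu : (orderOf u).Prime) (hπ : ∀ y ∈ Subgroup.centralizer {u}, (orderOf y).Prime →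
      5 ≤ orderOf y ∧ orderOf y ∣ Fintype.card K ^ 2 - Fintype.card K + 1) :
    IsCyclic (Subgroup.centralizer {u}) ∧ {y | IsConj u y ∧ y ∈ Subgroup.centralizer {u}}.ncard ≤ 6 := by
  classical
  have hM : ∀ y, ρ y ^ orderOf y = 1 := fun y => by rw [← map_pow]; simp
  have h1 : ∀ {y}, (orderOf y).Prime → ρ y ≠ 1 := fun h e => h.one_lt.ne' (orderOf_eq_one_iff.2
    (hρ (e.trans (map_one _).symm)))
  have := Fact.mk hu
  obtain ⟨h5, hd⟩ := hπ u (mem_cent.2 rfl) hu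
  obtain ⟨d1, d6⟩ := dim_fix h5 hd (hM u) (h1 hu)
  set R := LinearMap.range (toLin' (ρ u) - 1)
  let C := Subalgebra.centralizer K {ρ u}
  have hR : ∀ a : C, ∀ v ∈ R, toLin' a.1 v ∈ R := by
    rintro a _ ⟨v, rfl⟩
    exact ⟨a.1 *ᵥ v, by simp [mulVec_sub, a.2 _ rfl]⟩
  let res : C →ₐ[K] Module.End K R := AlgHom.mk' ⟨⟨⟨fun a => (toLin' a.1).restrict (hR a),
    LinearMap.ext fun v => Subtype.ext (by simp)⟩, fun a b => LinearMap.ext fun v => Subtype.ext (by simp)⟩,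
    LinearMap.ext fun v => Subtype.ext (by simp), fun a b => LinearMap.ext fun v => Subtype.ext (by
      simp [add_mulVec])⟩ fun c a => LinearMap.ext fun v => Subtype.ext (by simp [smul_mulVec])
  have hres : ∀ a (v : R), (res a v).1 = a.1 *ᵥ v := fun _ _ => rfl
  have : Nontrivial R := finrank_pos_iff.1 (show 0 < finrank K R by omega)
  have : NoZeroDivisors res.range := ⟨fun {a b} e => or_iff_not_imp_left.2 fun ha => by
    obtain ⟨_, a, rfl⟩ := a
    rcases irred7 h5 hd (hM u) (h1 hu) (W := LinearMap.ker (toLin' a.1) ⊓ R) (fun v hv => ⟨by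
        have := hv.1
        simp only [SetLike.mem_coe, LinearMap.mem_ker, toLin'_apply] at this ⊢
        rw [mulVec_mulVec, ← a.2 _ rfl, ← mulVec_mulVec, this, mulVec_zero],
        hR ⟨ρ u, fun _ e => e ▸ rfl⟩ v hv.2⟩) inf_le_right with h | h
    · exact Subtype.ext (LinearMap.ext fun v => Subtype.ext (h.le ⟨congrArg (fun z : res.range => (z.1 v).1) e, (b.1 v).2⟩))
    · exact absurd (Subtype.ext (LinearMap.ext fun v => Subtype.ext (h.ge v.2).1)) ha⟩
  letI : Ring (Module.End K R) := Module.End.instRing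
  letI : Ring res.range := Subalgebra.toRing _
  have := NoZeroDivisors.to_isDomain res.range
  have : Finite (Module.End K R) := Finite.of_injective _ DFunLike.coe_injective
  have hC := Finite.isDomain_to_isField res.range
  let f : Subgroup.centralizer {u} →* res.range := res.rangeRestrict.toMonoidHom.comp
    ((ρ.comp (Subgroup.subtype _)).codRestrict C fun y => by
      rintro _ rfl; exact (map_mul ..).symm.trans ((congrArg ρ (y.2 u rfl)).trans (map_mul ..)))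
  have hf : Function.Injective f := (injective_iff_map_eq_one _).2 fun y e => by_contra fun h => by
    obtain ⟨n, hn⟩ := exists_prime_pow h
    rw [← Subgroup.orderOf_coe] at hn
    have := Fact.mk hn
    have h2 := (dim_fix (hπ _ (y ^ n).2 hn).1 (hπ _ (y ^ n).2 hn).2 (hM _) (h1 hn)).1
    have h3 : R ≤ LinearMap.ker (toLin' (ρ (y ^ n).1) - 1) := fun v hv => sub_eq_zero.2
      (congrArg (fun z : res.range => (z.1 ⟨v, hv⟩).1) (show f (y ^ n) = 1 by simp [e]))
    have := Submodule.finrank_mono h3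
    omega
  refine ⟨cyclic_of_isField hC f hf, ?_⟩
  obtain ⟨hfin, hle⟩ := ncard_roots hC (ρ u).charpoly_monic.ne_zero
  have h0 : (1 : res.range) ∈ {a : res.range | Polynomial.aeval a (ρ u).charpoly = 0} := by
    obtain ⟨⟨v, hv⟩, h⟩ := finrank_pos_iff_exists_ne_zero.1 (d1.symm ▸ one_pos)
    rw [Set.mem_setOf_eq, ← map_one (algebraMap K res.range), Polynomial.aeval_algebraMap_apply_eq_algebraMap_eval,
      eval_charpoly, exists_mulVec_eq_zero_iff.1 ⟨v, fun e => h (Subtype.ext e), by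
        simpa [sub_mulVec, sub_eq_zero, eq_comm] using hv⟩, map_zero]
  rw [charpoly_natDegree_eq_dim, Fintype.card_fin] at hle
  refine le_trans ?_ ((Set.ncard_diff_singleton_of_mem h0).le.trans (by omega))
  refine Set.ncard_le_ncard_of_injOn (fun y => if h : y ∈ Subgroup.centralizer {u} then f ⟨y, h⟩
    else 0) (fun y hy => ?_) (fun a ha b hb e => ?_) hfin.diff
  · rw [dif_pos hy.2]
    obtain ⟨x, rfl⟩ := isConj_iff.1 hy.1
    refine ⟨(Polynomial.aeval_algHom_apply res.rangeRestrict _ _).trans ((congrArg _ (Subtype.ext ?_)).trans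
      (map_zero _)), fun e => hu.one_lt.ne' ?_⟩
    · refine (Polynomial.aeval_algHom_apply C.val _ _).symm.trans ?_
      have e : ρ (x * u * x⁻¹) = (ρ.toHomUnits x).1 * ρ u * (ρ.toHomUnits x).1⁻¹ := by
        rw [map_mul, map_mul, ← coe_units_inv, ← map_inv]; rfl
      rw [← charpoly_units_conj (ρ.toHomUnits x) (ρ u), ← e]
      exact aeval_self_charpoly _
    · rw [← orderOf_conj x, show x * u * x⁻¹ = 1 from congrArg Subtype.val (hf (e.trans (map_one f).symm))]; simp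
  · simp only [dif_pos ha.2, dif_pos hb.2] at e
    exact congrArg Subtype.val (hf e)

/-- the number `q² - q + 1` -/
abbrev Par.M (P : Par K) : ℕ := P.q ^ 2 - P.q + 1

lemma Par.M_eq (P : Par K) {t : ℕ} (ht : P.q = 24 * t + 3) : P.M = 576 * t ^ 2 + 120 * t + 7 := by
  rw [Par.M, ht, show (24 * t + 3) ^ 2 = 576 * t ^ 2 + 120 * t + 6 + (24 * t + 3) by ring, Nat.add_sub_cancel]

lemma Par.coprime_M (P : Par K) : P.M.Coprime (P.q ^ 3 * (P.q - 1) * (P.q + 1)) := by
  obtain ⟨t, ht⟩ := P.exists_q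
  rw [P.M_eq ht, ht, show 24 * t + 3 - 1 = 24 * t + 2 from rfl]
  refine ((Nat.Coprime.pow_right _ ?_).mul_right ?_).mul_right ?_
  · rw [show 576 * t ^ 2 + 120 * t + 7 = 1 + (24 * t + 3) * (24 * t + 2) by ring, Nat.coprime_add_mul_left_left]; simp
  · rw [show 576 * t ^ 2 + 120 * t + 7 = 1 + (24 * t + 2) * (24 * t + 3) by ring, Nat.coprime_add_mul_left_left]; simp
  · rw [show 576 * t ^ 2 + 120 * t + 7 = 3 + (24 * t + 3 + 1) * (24 * t + 1) by ring, Nat.coprime_add_mul_left_left,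
      show 24 * t + 3 + 1 = 1 + 3 * (8 * t + 1) by ring, Nat.coprime_add_mul_left_right]; simp

lemma Par.not_five (P : Par K) : ¬ 5 ∣ P.q ^ 3 * (P.q - 1) * (P.q + 1) * P.M := by
  have h : P.q % 5 = 3 ∨ P.q % 5 = 2 := by
    rw [Par.q, pow_succ, pow_mul]
    induction P.m with
    | zero => simp
    | succ n ih => rw [pow_succ]; omega
  obtain ⟨t, ht⟩ := P.exists_q
  rw [P.M_eq ht, ht, show 24 * t + 3 - 1 = 24 * t + 2 from rfl]
  simp only [Nat.prime_five.dvd_mul, Nat.prime_five.prime.dvd_pow_iff_dvd three_ne_zero]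
  obtain ⟨s, rfl | rfl⟩ : ∃ s, t = 5 * s ∨ t = 5 * s + 1 := ⟨t / 5, by omega⟩ <;> ring_nf <;> omega

namespace ReS

variable (X : ReS P G)

include X in
lemma card_eq' : Nat.card G = P.q ^ 3 * (P.q - 1) * (P.q + 1) * P.M := by
  obtain ⟨t, ht⟩ := P.exists_q
  rw [X.card_eq, P.M_eq ht, ht]; ring

lemma mem_BC {g : G} : g ∈ X.B ⊓ Subgroup.centralizer {X.a} ↔ ∃ s k, g = X.x 0 s 0 * X.D k := by
  have hc : ∀ k, X.D k * X.a = X.a * X.D k := fun k => X.D_comm k _
  refine ⟨fun ⟨⟨t, u, v, k, e⟩, h⟩ => ?_, ?_⟩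
  · obtain ⟨s, hs⟩ := (comm_D (X.x_mem t u v) P.neg_ne (mul_right_cancel (b := X.D k) (by
      rw [← a, mul_assoc, mul_assoc, ← hc, ← mul_assoc (X.x ..), ← e, mem_cent.1 h]))).1
    exact ⟨s, k, hs ▸ e⟩
  · rintro ⟨s, k, rfl⟩
    exact ⟨⟨_, _, _, _, rfl⟩, mul_mem (mem_cent.2 (X.φ_up s ▸ X.φ_a _)) (mem_cent.2 (hc k))⟩

lemma card_BC : Nat.card ↥(X.B ⊓ Subgroup.centralizer {X.a}) = P.q * (P.q - 1) := by
  rw [← P.card_units, Par.q, ← P.hK, ← Nat.card_eq_fintype_card, ← Nat.card_prod]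
  exact (Nat.card_eq_of_bijective (fun p => ⟨_, X.mem_BC.2 ⟨p.1, p.2, rfl⟩⟩) ⟨fun a b e => by
    simpa [X.x_inj, Prod.ext_iff] using xD_inj (congrArg Subtype.val e), fun g =>
    (X.mem_BC.1 g.2).elim fun s ⟨k, e⟩ => ⟨(s, k), Subtype.ext e.symm⟩⟩).symm

lemma xa_pow (s : K) : (X.x 0 s 0 * X.a) ^ 3 = X.a ∧ (X.x 0 s 0 * X.a) ^ 4 = X.x 0 s 0 := by
  have h : Commute (X.x 0 s 0) X.a := X.φ_up s ▸ X.φ_a _
  have h3 : X.x 0 s 0 ^ 3 = 1 := by simp [x_cube]
  simp [h.mul_pow, pow_succ _ 3, h3, pow_succ X.a]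

lemma orderOf_xa {s : K} (hs : s ≠ 0) : orderOf (X.x 0 s 0 * X.a) = 6 := by
  have := Fact.mk Nat.prime_three
  rw [(show Commute (X.x 0 s 0) X.a from X.φ_up s ▸ X.φ_a _).orderOf_mul_eq_mul_orderOf_of_coprime] <;>
    rw [orderOf_a, orderOf_eq_prime (p := 3) (by simp [x_cube]) (by simp [x_eq_one, hs])]
  decide

lemma three_cases {g : G} (h : 3 ∣ orderOf g) :
    g ∈ cs X.U ∨ g ∈ cs {y | ∃ s ≠ 0, y = X.x 0 s 0 * X.a} := by
  have := X.finite
  obtain ⟨n, hn⟩ := exists_order h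
  obtain ⟨x, hx⟩ := X.exists_le_U (isPGroup_zpowers hn)
  have h1 := hx _ (Subgroup.mem_zpowers _)
  have h2 : x * g * x⁻¹ ∈ X.B := mem_B_of_conj h1 (fun e => by simp [← orderOf_conj x (g ^ n), e] at hn) (by
    rw [← conj_pow, (Commute.self_pow _ n).eq, mul_inv_cancel_right, conj_pow]; exact X.U_le_B h1)
  obtain h3 | ⟨v, -, s, e⟩ | ⟨v, -, k, -, -, e⟩ := mem_B_cases h2
  · exact Or.inl ⟨x, h3⟩
  · refine Or.inr ⟨v * x, s, ?_, by rw [← e]; group⟩
    rintro rfl
    rw [← orderOf_conj x, ← orderOf_conj v, e, x_zero, one_mul, orderOf_a] at h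
    exact absurd h (by decide)
  · obtain ⟨t, ht⟩ := P.exists_q
    rw [← orderOf_conj x, ← orderOf_conj v, e] at h
    have := h.trans (X.H.orderOf_dvd_natCard (X.D_mem k))
    rw [card_H] at this
    omega

lemma orderOf_U {g : G} (h : g ∈ cs X.U) : orderOf g = 1 ∨ orderOf g = 3 ∨ orderOf g = 9 := by
  obtain ⟨x, hx⟩ := h
  have := orderOf_conj x g ▸ orderOf_dvd_of_pow_eq_one (pow_nine hx)
  simpa using (by decide : ∀ d ∈ Nat.divisors 9, d = 1 ∨ d = 3 ∨ d = 9) _ (Nat.mem_divisors.2 ⟨this, by simp⟩)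

lemma orderOf_six {g : G} (h : g ∈ cs {y | ∃ s ≠ 0, y = X.x 0 s 0 * X.a}) : orderOf g = 6 := by
  obtain ⟨x, s, hs, e⟩ := h
  rw [← orderOf_conj x, e, X.orderOf_xa hs]

include X

lemma small_cases {g : G} (h : ∀ p, p.Prime → p ∣ orderOf g → p < 5) :
    orderOf g = 1 ∨ orderOf g = 2 ∨ orderOf g = 3 ∨ orderOf g = 6 ∨ orderOf g = 9 := by
  have := X.finite
  by_cases h3 : 3 ∣ orderOf g
  · rcases X.three_cases h3 with h | h
    exacts [by have := X.orderOf_U h; omega, by have := X.orderOf_six h; omega]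
  have := Nat.eq_prime_pow_of_unique_prime_dvd (p := 2) (orderOf_pos g).ne' fun {d} hd e => by
    have := h d hd e
    interval_cases d <;> simp_all +decide
  have := orderOf_dvd_of_pow_eq_one ((sq g).trans (X.sq_of_pow (this ▸ pow_orderOf_eq_one g)))
  have := (Nat.dvd_prime Nat.prime_two).1 this
  omega

lemma count_two (hm : 1 ≤ P.m) : Nat.card {g : G // orderOf g = 2} = P.q ^ 2 * P.M := by
  have := X.finite
  have h := card_cs (A := {X.a}) (N := Subgroup.centralizer {X.a}) fun x a ha => by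
    rw [ha, mem_cent, ← mul_inv_eq_iff_eq_mul]; rfl
  obtain ⟨-, -, -, hi, -⟩ := X.card_two
  rw [Set.ncard_singleton, mul_one, ← (Subgroup.centralizer {X.a}).index_mul_card, hi] at h
  refine Eq.trans ?_ (Nat.eq_of_mul_eq_mul_right Nat.card_pos h)
  refine congrArg Set.ncard (Set.ext fun g => ⟨fun e => ?_, fun ⟨x, e⟩ => ?_⟩)
  · obtain ⟨x, rfl⟩ := X.inv_conj hm ((sq g).symm.trans (e ▸ pow_orderOf_eq_one g :)) fun h => absurd
      ((h ▸ orderOf_one :).symm.trans e) (by decide)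
    exact ⟨x⁻¹, by simp [mul_assoc]⟩
  · exact (orderOf_conj x g).symm.trans (e ▸ X.orderOf_a)

lemma count_U {i : ℕ} (hi : i = 3 ∨ i = 9) :
    Nat.card {g : G // orderOf g = i} = {u | u ∈ X.U ∧ orderOf u = i}.ncard * (P.q ^ 3 + 1) := by
  have := X.finite
  have h := card_cs (A := {u | u ∈ X.U ∧ orderOf u = i}) (N := X.B) fun x a ha =>
    ⟨fun h => mem_B_of_conj ha.1 (by rintro rfl; have := ha.2; simp at this; omega) (X.U_le_B h.1),
      fun h => ⟨conj_mem_U h ha.1, (orderOf_conj x a).trans ha.2⟩⟩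
  rw [← X.B.index_mul_card, index_B, mul_right_comm, mul_comm (_ + 1)] at h
  refine Eq.trans ?_ (Nat.eq_of_mul_eq_mul_right Nat.card_pos h)
  refine congrArg Set.ncard (Set.ext fun g => ⟨fun e => ?_, fun ⟨x, e⟩ => ?_⟩)
  · replace e : orderOf g = i := e
    rcases X.three_cases (g := g) (by omega) with ⟨x, h⟩ | h
    exacts [⟨x, h, (orderOf_conj x g).trans e⟩, by have := X.orderOf_six h; omega]
  · exact (orderOf_conj x g).symm.trans e.2

lemma ncard_U3 : {u | u ∈ X.U ∧ orderOf u = 3}.ncard = P.q ^ 2 - 1 := by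
  rw [← X.card_order_three, ← Nat.card_coe_set_eq]
  exact Nat.card_congr ⟨fun u => ⟨⟨u, u.2.1⟩, by simpa using u.2.2⟩, fun u => ⟨u.1, u.1.2, by simpa using u.2⟩,
    fun _ => rfl, fun _ => rfl⟩

lemma count_three : Nat.card {g : G // orderOf g = 3} = (P.q ^ 2 - 1) * (P.q ^ 3 + 1) := by
  rw [X.count_U (Or.inl rfl), ncard_U3]

lemma count_nine : Nat.card {g : G // orderOf g = 9} = P.q ^ 2 * (P.q - 1) * (P.q ^ 3 + 1) := by
  have := X.finite
  have h : (X.U : Set G) = insert 1 ({u | u ∈ X.U ∧ orderOf u = 3} ∪ {u | u ∈ X.U ∧ orderOf u = 9}) :=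
    Set.ext fun u => ⟨fun hu => by
      simpa [show u ∈ X.U from hu] using X.orderOf_U ⟨1, by simpa using hu⟩, by
      rintro (rfl | h | h); exacts [X.U.one_mem, h.1, h.1]⟩
  have h1 : (X.U : Set G).ncard = _ := X.card_U
  rw [h, Set.ncard_insert_of_notMem (by simp), Set.ncard_union_eq (Set.disjoint_left.2 fun u a b => by
    have := a.2.symm.trans b.2; omega), ncard_U3] at h1
  rw [X.count_U (Or.inr rfl), Nat.mul_sub_one, ← pow_succ]
  have : 0 < P.q ^ 2 := by positivity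
  congr 1
  change _ = P.q ^ 3 - _
  omega

lemma count_six : Nat.card {g : G // orderOf g = 6} = P.q ^ 2 * (P.q - 1) * (P.q ^ 3 + 1) := by
  have := X.finite
  have h := card_cs (A := {y | ∃ s ≠ 0, y = X.x 0 s 0 * X.a}) (N := X.B ⊓ Subgroup.centralizer {X.a}) (by
    rintro x _ ⟨s, hs, rfl⟩
    refine ⟨fun ⟨s', _, e⟩ => ⟨mem_B_of_conj (X.x_mem 0 s 0) (by simp [x_eq_one, hs]) ?_,
      mem_cent.2 (mul_inv_eq_iff_eq_mul.1 ?_)⟩, fun h => ?_⟩
    · rw [← (X.xa_pow s).2, ← conj_pow, e, (X.xa_pow s').2]; exact X.x_mem_B ..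
    · rw [← (X.xa_pow s).1, ← conj_pow, e, (X.xa_pow s').1, (X.xa_pow s).1]
    · have h1 := mul_inv_eq_iff_eq_mul.2 (mem_cent.1 h.2)
      obtain ⟨s', e⟩ := (comm_D (conj_mem_U h.1 (X.x_mem 0 s 0)) P.neg_ne (by
        rw [← a, ← h1, conj_mul, conj_mul, ← X.φ_up, φ_a])).1
      exact ⟨s', by rintro rfl; simp [x_eq_one, hs] at e, by rw [← e, ← h1, conj_mul, h1]⟩)
  have h1 : {y | ∃ s ≠ 0, y = X.x 0 s 0 * X.a}.ncard = P.q - 1 := by
    rw [← P.card_units, ← Nat.card_coe_set_eq]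
    exact (Nat.card_eq_of_bijective (fun k => ⟨_, k, k.ne_zero, rfl⟩) ⟨fun a b e => Units.ext (by
      simpa [X.x_inj] using e), fun ⟨_, s, hs, e⟩ => ⟨Units.mk0 s hs, Subtype.ext e.symm⟩⟩).symm
  rw [h1, card_BC, X.card_eq] at h
  obtain ⟨t, ht⟩ := P.exists_q
  refine Eq.trans (congrArg Set.ncard (Set.ext fun g => ⟨fun e => ?_, X.orderOf_six⟩))
    (Nat.eq_of_mul_eq_mul_right (m := P.q * (P.q - 1)) (by rw [ht]; simp) (h.trans (by ring)))
  replace e : orderOf g = 6 := e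
  exact (X.three_cases (by omega)).resolve_left fun h => by have := X.orderOf_U h; omega

lemma prime_cases {p : ℕ} (hp : p.Prime) (h5 : 5 ≤ p) (h : p ∣ Nat.card G) :
    p ∣ (P.q - 1) / 2 ∨ p ∣ (P.q + 1) / 4 ∨ p ∣ P.M := by
  obtain ⟨t, ht⟩ := P.exists_q
  rw [X.card_eq', show P.q - 1 = 2 * ((P.q - 1) / 2) by omega, show P.q + 1 = 2 ^ 2 * ((P.q + 1) / 4) by omega,
    Par.q, ← pow_mul] at h
  simp only [hp.dvd_mul] at h
  have h2 : ¬ p ∣ 2 := fun e => by have := Nat.le_of_dvd two_pos e; omega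
  have h3 : ¬ p ∣ 3 := fun e => by have := Nat.le_of_dvd three_pos e; omega
  have := fun e => h2 (hp.dvd_of_dvd_pow (n := 2) e)
  have := fun e => h3 (hp.dvd_of_dvd_pow (n := (2 * P.m + 1) * 3) e)
  tauto

lemma dvd_M (hm : 1 ≤ P.m) {u y : G} (hu : ¬ (orderOf u).Coprime P.M) (h : y * u = u * y)
    (hy : (orderOf y).Prime) : 5 ≤ orderOf y ∧ orderOf y ∣ P.M := by
  have := X.finite
  have key : ¬ orderOf u ∣ P.q ^ 3 * (P.q - 1) * (P.q + 1) := fun e => hu (P.coprime_M.symm.coprime_dvd_left e)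
  have k2 : ∀ {A T : Subgroup G}, Tor A T → orderOf y ∣ Nat.card A → orderOf u ∣ Nat.card T := fun hT e => by
    obtain ⟨x, hx⟩ := hT.conj_into hy e dvd_rfl
    refine orderOf_conj x u ▸ Subgroup.orderOf_dvd_natCard _ (hT.cent _ (hT.mem_of_odd hx
      (orderOf_conj x y ▸ hT.odd.of_dvd_nat e)) (fun e => hy.one_lt.ne' ?_) ▸ mem_cent.2 ?_)
    · rw [← orderOf_conj x, e, orderOf_one]
    · rw [conj_mul, conj_mul, h]
  have h5 : 5 ≤ orderOf y := by
    by_contra h5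
    obtain e | e : orderOf y = 2 ∨ orderOf y = 3 := by
      generalize orderOf y = n at hy h5
      interval_cases n <;> simp_all +decide
    · obtain ⟨Y, rfl⟩ := X.exists_a_eq hm ((sq y).symm.trans (e ▸ pow_orderOf_eq_one y :)) (by rintro rfl; simp at e)
      exact key ((Y.card_cent_a ▸ Subgroup.orderOf_dvd_natCard _ (mem_cent.2 h.symm)).trans ⟨P.q ^ 2, by ring⟩)
    · exact key ((X.dvd_B_of_comm e h.symm).mul_right _)
  refine ⟨h5, ((X.prime_cases hy h5 (orderOf_dvd_natCard y)).resolve_left fun e => key ?_).resolve_left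
    fun e => key ?_⟩
  · exact ((X.card_H ▸ k2 (X.torH hm) (X.card_AH ▸ e)).mul_left _).mul_right _
  · obtain ⟨A, T, hT, -, h1, h2, -⟩ := X.exists_torQ hm
    exact (h2 ▸ k2 hT (h1 ▸ e)).mul_left _

theorem exists_torP (hm : 1 ≤ P.m) {p : ℕ} (hp : p.Prime) (hd : p ∣ P.M) : ∃ A : Subgroup G, Tor A A ∧
    p ∣ Nat.card A ∧ Nat.card A ∣ P.M ∧ (Nat.card A).Coprime (P.M / Nat.card A) ∧ ∃ n, 0 < n ∧ n ≤ 6 ∧ n ≠ 5 ∧
      Nat.card (Subgroup.normalizer (A : Set G)) = n * Nat.card A := by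
  have := X.finite
  have := X.simple hm
  have := Fact.mk hp
  have hρ : Function.Injective X.rep := (injective_iff_map_eq_one _).2 fun g e =>
    ((X.rep.normal_ker.eq_bot_or_eq_top.resolve_right fun h => X.rep_ne.elim fun g hg => hg (h.ge trivial)).le e :)
  have key : ∀ {u : G}, (orderOf u).Prime → orderOf u ∣ P.M → _ := fun {u} hu hd => cent_prime7 X.rep hρ hu
    fun y hy hy' => P.hK ▸ X.dvd_M hm (fun e => hu.one_lt.ne' (e.eq_one_of_dvd hd)) (mem_cent.1 hy) hy'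
  obtain ⟨u, rfl⟩ := exists_prime_orderOf_dvd_card' (G := G) p (X.card_eq' ▸ hd.mul_left _)
  have h1 : ∀ r, r.Prime → r ∣ Nat.card (Subgroup.centralizer {u}) → 5 ≤ r ∧ r ∣ P.M := fun r hr e => by
    have := Fact.mk hr
    obtain ⟨y, rfl⟩ := exists_prime_orderOf_dvd_card' r e
    rw [← Subgroup.orderOf_coe] at hr ⊢
    exact X.dvd_M hm (fun e => hp.one_lt.ne' (e.eq_one_of_dvd hd)) (mem_cent.1 y.2) hr
  obtain ⟨hc, h6⟩ := key hp hd
  have hT : Tor (Subgroup.centralizer {u}) (Subgroup.centralizer {u}) := by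
    refine ⟨hc, fun e => hp.one_lt.ne' (orderOf_eq_one_iff.2 (e.le (mem_cent.2 rfl))), Nat.coprime_of_dvd
      fun r hr e e' => ?_, le_rfl, fun a ha e => le_antisymm (fun x hx => ?_) (cent_le_of_cyclic hc (mem_cent.1 ha)),
      fun s hs t ht => congrArg Subtype.val (hc.isMulCommutative.1.1 ⟨s, hs⟩ ⟨t, ht⟩), fun t ht => mul_mem ht ht⟩
    · have := (h1 r hr e).1
      have := Nat.le_of_dvd (by decide) e'
      interval_cases r <;> simp_all +decide
    · obtain ⟨n, hn⟩ := exists_prime_pow e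
      exact cent_le_of_cyclic (key hn (h1 _ hn (Subgroup.orderOf_dvd_natCard _ (pow_mem ha n))).2).1
        (mem_cent.1 (pow_mem ha n)).symm (mem_cent.2 (Commute.pow_right (mem_cent.1 hx) n))
  have h2 : Nat.card (Subgroup.centralizer {u}) ∣ P.M := Nat.Coprime.dvd_of_dvd_mul_left
    (Nat.coprime_of_dvd fun r hr e e' => hr.one_lt.ne' (Nat.eq_one_of_dvd_coprimes P.coprime_M (h1 r hr e).2 e'))
    (X.card_eq' ▸ Subgroup.card_subgroup_dvd_card _)
  set A := Subgroup.centralizer {u}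
  refine ⟨A, hT, A.orderOf_dvd_natCard (mem_cent.2 rfl), h2, Nat.coprime_of_dvd fun r hr e e' => ?_, ?_⟩
  · have := Fact.mk hr
    obtain ⟨S, hS⟩ := hT.exists_sylow e
    refine S.not_dvd_index (e'.trans (Nat.dvd_trans ?_ (Subgroup.index_dvd_of_le hS)))
    obtain ⟨j, hj⟩ := h2
    have h1 := A.card_mul_index
    rw [X.card_eq', hj, mul_left_comm] at h1
    rw [hj, Nat.mul_div_cancel_left _ Nat.card_pos, Nat.eq_of_mul_eq_mul_left Nat.card_pos h1]
    exact Nat.dvd_mul_left _ _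
  have e1 := card_fusion (Subgroup.normalizer (A : Set G)) u
  rw [inf_eq_right.2 Subgroup.le_normalizer] at e1
  refine ⟨_, Nat.pos_of_mul_pos_right (e1 ▸ Nat.card_pos), le_trans (Set.ncard_le_ncard ?_) h6,
    fun e => P.not_five (X.card_eq' ▸ Nat.dvd_trans ⟨_, e ▸ e1⟩ (Subgroup.card_subgroup_dvd_card _)), e1⟩
  rintro _ ⟨n, hn, rfl⟩
  exact ⟨isConj_iff.2 ⟨n, rfl⟩, (hn u).1 (mem_cent.2 rfl)⟩

theorem count_M (hm : 1 ≤ P.m) :
    3 * {g : G | ¬ (orderOf g).Coprime P.M}.ncard * P.M = Nat.card G * (P.q * (P.q - 2)) := by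
  have := X.finite
  obtain ⟨t, ht⟩ := P.exists_q
  obtain ⟨A, T, hT, -, h1, h2, h3⟩ := X.exists_torQ hm
  have hH := X.torH hm
  have c1 := hH.card_R (n := 2) (by rw [X.normalizer_H hm, card_N, card_H])
  have c2 := hT.card_R h3
  have hA := X.card_AH
  rw [show (P.q - 1) / 2 = 12 * t + 1 by omega] at hA
  rw [show (P.q + 1) / 4 = 6 * t + 1 by omega] at h1
  have cM := P.coprime_M
  have d1 : ∀ g ∈ hH.R, orderOf g ∣ P.q - 1 := fun g hg => (hH.conj_into' hg).elim fun x hx =>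
    X.card_H ▸ orderOf_conj x g ▸ X.H.orderOf_dvd_natCard hx
  have d2 : ∀ g ∈ hT.R, orderOf g ∣ P.q + 1 := fun g hg => (hT.conj_into' hg).elim fun x hx =>
    h2 ▸ orderOf_conj x g ▸ T.orderOf_dvd_natCard hx
  let O : ℕ → Set G := fun i => {g | orderOf g = i}
  have d3 : ∀ {n}, n.Coprime 6 → Disjoint (O 1 ∪ O 2 ∪ O 3 ∪ O 6 ∪ O 9) {g | ¬ (orderOf g).Coprime n} := fun hn =>
    Set.disjoint_left.2 fun g hg e => e ((hn.symm.pow_left 2).coprime_dvd_left (by
      rcases hg with (((h | h) | h) | h) | h <;> rw [show orderOf g = _ from h] <;> decide))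
  have d4 : ∀ {i j}, i ≠ j → Disjoint (O i) (O j) := fun h => Set.disjoint_left.2 fun _ a b => h (a.symm.trans b)
  have e : (Set.univ : Set G) = O 1 ∪ O 2 ∪ O 3 ∪ O 6 ∪ O 9 ∪ hH.R ∪ hT.R ∪ {g | ¬ (orderOf g).Coprime P.M} := by
    refine (Set.eq_univ_of_forall fun g => by_contra fun h => ?_).symm
    simp only [Set.mem_union, not_or, Tor.R, Set.mem_setOf_eq, not_not, O] at h
    have := X.small_cases (g := g) fun p hp hd => by_contra fun h5 => hp.one_lt.ne' (by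
      rcases X.prime_cases hp (by omega) (hd.trans (orderOf_dvd_natCard g)) with e | e | e
      exacts [Nat.eq_one_of_dvd_coprimes h.1.1.2 hd (X.card_AH ▸ e), Nat.eq_one_of_dvd_coprimes h.1.2 hd
        (by rwa [h1, ← show (P.q + 1) / 4 = 6 * t + 1 by omega]), Nat.eq_one_of_dvd_coprimes h.2 hd e])
    tauto
  have h0 := congrArg Set.ncard e
  rw [Set.ncard_union_eq (Set.disjoint_union_left.2 ⟨Set.disjoint_union_left.2 ⟨d3 (cM.coprime_dvd_right
      ⟨(24 * t + 3) ^ 2 * (8 * t + 1) * (12 * t + 1) * (24 * t + 4), by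
        rw [ht, show 24 * t + 3 - 1 = 24 * t + 2 from rfl]; ring⟩), Set.disjoint_left.2 fun g a b => b (cM.symm.coprime_dvd_left
        (((d1 g a).mul_left _).mul_right _))⟩, Set.disjoint_left.2 fun g a b => b (cM.symm.coprime_dvd_left
        ((d2 g a).mul_left _))⟩), Set.ncard_union_eq (t := hT.R) (Set.disjoint_union_left.2 ⟨d3 hT.cop,
      Set.disjoint_left.2 fun g a b => b (Nat.Coprime.coprime_dvd_left (d1 g a) ?_)⟩), Set.ncard_union_eq (t := hH.R) (d3 hH.cop),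
    Set.ncard_union_eq (by simp [d4]), Set.ncard_union_eq (by simp [d4]), Set.ncard_union_eq (by simp [d4]),
    Set.ncard_union_eq (by simp [d4]), Set.ncard_univ, show (O 1).ncard = 1 by simp [O],
    show (O 2).ncard = _ from X.count_two hm, show (O 3).ncard = _ from X.count_three,
    show (O 6).ncard = _ from X.count_six, show (O 9).ncard = _ from X.count_nine] at h0
  · have hG := X.card_eq'
    rw [hA] at c1
    rw [h1] at c2
    simp only [P.M_eq ht, ht, show 24 * t + 3 - 1 = 24 * t + 2 from rfl, show 24 * t + 3 - 2 = 24 * t + 1 from rfl,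
      show (24 * t + 3) ^ 2 - 1 = (24 * t + 2) * (24 * t + 4) from Nat.sub_eq_of_eq_add (by ring)] at h0 hG ⊢
    have e1 : hH.R.ncard = (24 * t + 3) ^ 3 * (24 * t + 4) * (576 * t ^ 2 + 120 * t + 7) * (12 * t) :=
      Nat.eq_of_mul_eq_mul_right (show 0 < 2 * (12 * t + 1) by omega) (by rw [hG] at c1; linarith)
    have e2 : hT.R.ncard = (24 * t + 3) ^ 3 * (24 * t + 2) * 4 * (576 * t ^ 2 + 120 * t + 7) * t :=
      Nat.eq_of_mul_eq_mul_right (show 0 < 6 * (6 * t + 1) by omega) (by rw [hG] at c2; linarith)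
    rw [e1, e2, hG] at h0
    rw [hG]
    zify at h0 ⊢
    linear_combination (-3 * (576 * t ^ 2 + 120 * t + 7)) * h0
  · rw [h1, ht]
    exact Nat.coprime_of_dvd fun k hk a b => by
      have := Nat.dvd_sub (b.mul_left 4) a
      rw [show 4 * (6 * t + 1) - (24 * t + 3 - 1) = 2 by omega, Nat.prime_dvd_prime_iff_eq hk Nat.prime_two] at this
      subst this
      omega

theorem exists_tori (hm : 1 ≤ P.m) : ∃ A₁ A₂ : Subgroup G, Tor A₁ A₁ ∧ Tor A₂ A₂ ∧
    Nat.card A₁ = P.q - 3 ^ (P.m + 1) + 1 ∧ Nat.card A₂ = P.q + 3 ^ (P.m + 1) + 1 ∧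
    Nat.card (Subgroup.normalizer (A₁ : Set G)) = 6 * Nat.card A₁ ∧
    Nat.card (Subgroup.normalizer (A₂ : Set G)) = 6 * Nat.card A₂ ∧ Nat.card A₁ * Nat.card A₂ = P.M := by
  have := X.finite
  have h27 := P.le_q hm
  have hc := X.count_M hm
  obtain ⟨s, hs⟩ : ∃ s, P.q = s + 2 := ⟨P.q - 2, by omega⟩
  have hM : P.M = (s + 2) * s + (s + 3) := by
    rw [Par.M, hs, show (s + 2) ^ 2 = (s + 2) * s + (s + 2) + (s + 2) by ring, Nat.add_sub_cancel]; ring
  rw [hs, Nat.add_sub_cancel] at hc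
  set Pi := {g : G | ¬ (orderOf g).Coprime P.M}
  have h0 : 0 < Nat.card G := Nat.card_pos
  have hlt : 3 * Pi.ncard < Nat.card G := Nat.lt_of_mul_lt_mul_right (a := P.M) (by rw [hc, hM]; nlinarith)
  have hsub : ∀ {A : Subgroup G} (h : Tor A A), Nat.card A ∣ P.M → h.R ⊆ Pi := fun h hd g hg e =>
    hg (e.coprime_dvd_right hd)
  have hor : ∀ {A B : Subgroup G}, Tor A A → Tor B B → Nat.card A = Nat.card B ∨ (Nat.card A).Coprime (Nat.card B) :=
    fun {A B} h h' => or_iff_not_imp_right.2 fun e => by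
      obtain ⟨g, rfl⟩ := have := h.cyc; exists_zpowers_eq A
      obtain ⟨x, hx⟩ := h'.conj_into' (Nat.card_zpowers g ▸ e)
      have h1 : g ≠ 1 := by rintro rfl; simp at e
      rw [← h'.cent _ hx (by simpa), cent_cj, card_cj, h.cent g (Subgroup.mem_zpowers g) h1]
  have hdis : ∀ {A B : Subgroup G} (h : Tor A A) (h' : Tor B B), (Nat.card A).Coprime (Nat.card B) →
      Disjoint h.R h'.R := fun h h' e => Set.disjoint_left.2 fun g a b => (h.conj_into' a).elim fun x hx =>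
    b (e.coprime_dvd_left (orderOf_conj x g ▸ Subgroup.orderOf_dvd_natCard _ hx))
  have big : ∀ {A : Subgroup G} (h : Tor A A) {n}, Nat.card (Subgroup.normalizer (A : Set G)) = n * Nat.card A →
      4 * Nat.card G ≤ 5 * n * h.R.ncard := fun {A} h n e => by
    have h3 := h.card_R e
    obtain ⟨k, hk⟩ := Nat.exists_eq_add_of_le' (h.five_le dvd_rfl fun e => h.ne (Subgroup.card_eq_one.1 e))
    rw [hk] at h3
    exact Nat.le_of_mul_le_mul_right (c := k + 5) (by nlinarith) (by omega)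
  obtain ⟨A₁, h₁, -, a₁, b₁, n₁, -, c₁, d₁, e₁⟩ := X.exists_torP hm (Nat.minFac_prime (show P.M ≠ 1 by omega))
    (Nat.minFac_dvd _)
  obtain ⟨A₂, h₂, a₂, b₂, ⟨n₂, -, c₂, d₂, e₂⟩, h12⟩ : ∃ A : Subgroup G, Tor A A ∧ Nat.card A ∣ P.M ∧
      (Nat.card A).Coprime (P.M / Nat.card A) ∧ (∃ n, 0 < n ∧ n ≤ 6 ∧ n ≠ 5 ∧
      Nat.card (Subgroup.normalizer (A : Set G)) = n * Nat.card A) ∧ (Nat.card A₁).Coprime (Nat.card A) := by
    by_contra h
    have e2 := eq_of_primes a₁ b₁ fun p hp hd => by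
      obtain ⟨A, h1, h2, h3⟩ := X.exists_torP hm hp hd
      exact (hor h₁ h1).resolve_right (fun e => h ⟨A, h1, h3.1, h3.2.1, h3.2.2, e⟩) ▸ h2
    have h3 := h₁.card_R e₁
    rw [show h₁.R = Pi by rw [Tor.R, e2], e2] at h3
    have : n₁ * s = 3 * s + 3 := Nat.eq_of_mul_eq_mul_right (show 0 < Nat.card G * (s + 2) by positivity) (by
      rw [hM] at h3 hc
      zify at h3 hc ⊢
      linear_combination 3 * h3 - n₁ * hc)
    interval_cases n₁ <;> omega
  have f₁ := big h₁ e₁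
  have f₂ := big h₂ e₂
  have g₁ := Nat.mul_le_mul_right h₁.R.ncard (show 5 * n₁ ≤ 30 by omega)
  have g₂ := Nat.mul_le_mul_right h₂.R.ncard (show 5 * n₂ ≤ 30 by omega)
  have e2 := eq_of_primes (h12.mul_dvd_of_dvd_of_dvd a₁ a₂) (Nat.Coprime.mul_left (b₁.coprime_dvd_right (by
      rw [← Nat.div_div_eq_div_mul]
      exact Nat.div_dvd_of_dvd ((Nat.dvd_div_iff_mul_dvd a₁).2 (h12.mul_dvd_of_dvd_of_dvd a₁ a₂))))
    (b₂.coprime_dvd_right (by
      rw [mul_comm, ← Nat.div_div_eq_div_mul]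
      exact Nat.div_dvd_of_dvd ((Nat.dvd_div_iff_mul_dvd a₂).2 (h12.symm.mul_dvd_of_dvd_of_dvd a₂ a₁)))))
    fun p hp hd => by
      obtain ⟨A, h, h2, a, -, n, -, c, -, e⟩ := X.exists_torP hm hp hd
      rcases hor h₁ h with e1 | e1
      · exact (e1 ▸ h2).mul_right _
      rcases hor h₂ h with e2 | e2
      · exact (e2 ▸ h2).mul_left _
      have := Set.ncard_le_ncard (Set.union_subset (Set.union_subset (hsub h₁ a₁) (hsub h₂ a₂)) (hsub h a))
      rw [Set.ncard_union_eq (Set.disjoint_union_left.2 ⟨hdis h₁ h e1, hdis h₂ h e2⟩),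
        Set.ncard_union_eq (hdis h₁ h₂ h12)] at this
      have := big h e
      have := Nat.mul_le_mul_right h.R.ncard (show 5 * n ≤ 30 by omega)
      omega
  have e : Pi.ncard = h₁.R.ncard + h₂.R.ncard := by
    rw [← Set.ncard_union_eq (hdis h₁ h₂ h12)]
    exact congrArg _ (Set.ext fun g => by
      simp only [Pi, Tor.R, ← e2, Nat.coprime_mul_iff_right, not_and_or, Set.mem_union, Set.mem_setOf_eq])
  obtain rfl : n₁ = 6 := by_contra fun h => by
    have := Nat.mul_le_mul_right h₁.R.ncard (show 5 * n₁ ≤ 20 by omega)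
    omega
  obtain rfl : n₂ = 6 := by_contra fun h => by
    have := Nat.mul_le_mul_right h₂.R.ncard (show 5 * n₂ ≤ 20 by omega)
    omega
  have k₁ := h₁.card_R e₁
  have k₂ := h₂.card_R e₂
  have hsum : Nat.card A₁ + Nat.card A₂ = 2 * (s + 3) := Nat.eq_of_mul_eq_mul_right h0 (by
    rw [e, ← e2] at hc
    rw [hM] at e2
    zify at k₁ k₂ hc e2 ⊢
    linear_combination (Nat.card A₂ : ℤ) * k₁ + (Nat.card A₁ : ℤ) * k₂ - 2 * hc + 2 * (Nat.card G : ℤ) * e2)
  have hr : P.q * 3 = (3 ^ (P.m + 1)) ^ 2 := by rw [← pow_mul, ← pow_succ]; congr 1; ring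
  have hq : ((Nat.card A₁ : ℤ) - (s + 3) - 3 ^ (P.m + 1)) * (Nat.card A₁ - (s + 3) + 3 ^ (P.m + 1)) = 0 := by
    rw [hM] at e2
    rw [hs] at hr
    zify at e2 hsum hr
    linear_combination (Nat.card A₁ : ℤ) * hsum - e2 + hr
  have hl : 3 ^ (P.m + 1) ≤ P.q := Nat.pow_le_pow_right (by omega) (by omega)
  rw [show ((3 : ℤ) ^ (P.m + 1)) = (3 ^ (P.m + 1) : ℕ) by simp] at hq
  rcases mul_eq_zero.1 hq with h | h
  · exact ⟨A₂, A₁, h₂, h₁, by omega, by omega, e₂, e₁, by rw [mul_comm, e2]⟩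
  · exact ⟨A₁, A₂, h₁, h₂, by omega, by omega, e₁, e₂, e2⟩

end ReS

end H6.Ree
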