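import Cfsg.Agent.H6.Ree5

/-!
Small Ree groups VI: element orders, counts, tori.
-/

noncomputable section

namespace H6.Ree

open H5 Pointwise MulAction Suz

variable {K : Type*} [Field K] [Fintype K] {P : Par K} {G : Type*} [Group G]

lemma Tor.dvd {A T : Subgroup G} (h : Tor A T) {g : G} (hg : g ∈ cs T) : orderOf g ∣ 2 * Nat.card A := by
  obtain ⟨x, hx⟩ := hg
  rw [← orderOf_conj x, orderOf_dvd_iff_pow_eq_one, pow_mul, pow_two]
  exact orderOf_dvd_iff_pow_eq_one.1 (Subgroup.orderOf_dvd_natCard _ (h.sq _ hx))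

lemma Tor.gen {A T : Subgroup G} (h : Tor A T) : ∃ g ∈ A, orderOf g = Nat.card A := by
  have := h.cyc
  obtain ⟨g, hg⟩ := exists_zpowers_eq A
  exact ⟨g, hg ▸ Subgroup.mem_zpowers g, by rw [← Nat.card_zpowers, hg]⟩

lemma Tor.of_cyclic [Finite G] {A T B : Subgroup G} (h : Tor A T) (hB : IsCyclic B)
    (e : Nat.card B = Nat.card A) : ∃ g, Tor B (H5.cj g T) :=
  (h.conj_cyclic h.cyc hB dvd_rfl e).elim fun g hg => ⟨g, hg ▸ h.cj g⟩

/-- the four orders -/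
def Par.Ord (P : Par K) (n : ℕ) : Prop := n = (P.q - 1) / 2 ∨ n = (P.q + 1) / 4 ∨ n = P.q - 3 ^ (P.m + 1) + 1 ∨
  n = P.q + 3 ^ (P.m + 1) + 1

namespace ReS

variable (X : ReS P G) (hm : 1 ≤ P.m)

include X hm

theorem exists_tor {p : ℕ} (hp : p.Prime) (h5 : 5 ≤ p) (h : p ∣ Nat.card G) : ∃ A T : Subgroup G, Tor A T ∧
    p ∣ Nat.card A ∧ (Nat.card A = (P.q - 1) / 2 ∨ Nat.card A = (P.q + 1) / 4 ∨
      T = A ∧ Nat.card A = P.q - 3 ^ (P.m + 1) + 1 ∨ T = A ∧ Nat.card A = P.q + 3 ^ (P.m + 1) + 1) := by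
  rcases X.prime_cases hp h5 h with h | h | h
  · exact ⟨_, _, X.torH hm, X.card_AH ▸ h, Or.inl X.card_AH⟩
  · obtain ⟨A, T, hT, -, e, -⟩ := X.exists_torQ hm
    exact ⟨A, T, hT, e ▸ h, Or.inr (Or.inl e)⟩
  · obtain ⟨A, B, hA, hB, e1, e2, -, -, e⟩ := X.exists_tori hm
    rcases (Nat.Prime.dvd_mul hp).1 (e ▸ h) with h | h
    exacts [⟨A, A, hA, h, by simp [e1]⟩, ⟨B, B, hB, h, by simp [e2]⟩]

theorem isCyclic_sylow {p : ℕ} [hp : Fact p.Prime] (h3 : 3 < p) (S : Sylow p G) : IsCyclic S := by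
  have := X.finite
  by_cases h : p ∣ Nat.card G
  · obtain ⟨A, T, hT, hd, -⟩ := X.exists_tor hm hp.out (hp.out.five_le_of_ne_two_of_ne_three (by omega) (by omega)) h
    exact hT.isCyclic_sylow hd S
  · have : Subsingleton S := (Nat.card_eq_one_iff_unique.1 (by
      rw [S.card_eq_multiplicity, Nat.factorization_eq_zero_of_not_dvd h, pow_zero])).1
    exact isCyclic_of_subsingleton

theorem orders (d : ℕ) : (∃ g : G, orderOf g = d) ↔ (d ∣ 6 ∨ d ∣ 9 ∨ d ∣ P.q - 1 ∨ d ∣ (P.q + 1) / 2 ∨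
    d ∣ P.q - 3 ^ (P.m + 1) + 1 ∨ d ∣ P.q + 3 ^ (P.m + 1) + 1) := by
  have := X.finite
  obtain ⟨t, ht⟩ := P.exists_q
  constructor
  · rintro ⟨g, rfl⟩
    by_cases h : ∀ p, p.Prime → p ∣ orderOf g → p < 5
    · rcases X.small_cases h with h | h | h | h | h <;> simp [h]
    push Not at h
    obtain ⟨p, hp, hd, h5⟩ := h
    obtain ⟨A, T, hT, hA, e⟩ := X.exists_tor hm hp h5 (hd.trans (orderOf_dvd_natCard g))
    have h1 := hT.conj_into hp hA hd
    have h2 := hT.dvd h1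
    have h3 : T = A → orderOf g ∣ Nat.card A := fun e => h1.elim fun x hx =>
      orderOf_conj x g ▸ Subgroup.orderOf_dvd_natCard _ (e ▸ hx)
    rcases e with e | e | ⟨e', e⟩ | ⟨e', e⟩
    · exact Or.inr (Or.inr (Or.inl (by rwa [e, show 2 * ((P.q - 1) / 2) = P.q - 1 by omega] at h2)))
    · exact Or.inr (Or.inr (Or.inr (Or.inl (by rwa [e, show 2 * ((P.q + 1) / 4) = (P.q + 1) / 2 by omega] at h2))))
    · simp [← e, h3 e']
    · simp [← e, h3 e']
  have key : ∀ n, (∃ g : G, orderOf g = n) → d ∣ n → ∃ g : G, orderOf g = d := fun n ⟨g, hg⟩ h =>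
    (exists_order (hg ▸ h)).elim fun k hk => ⟨_, hk⟩
  obtain ⟨A, B, hA, hB, e1, e2, -⟩ := X.exists_tori hm
  rintro (h | h | h | h | h | h)
  · exact key _ ⟨_, X.orderOf_xa one_ne_zero⟩ h
  · obtain ⟨g, hg⟩ := (Nat.card_ne_zero.1 (X.count_nine.trans_ne (by rw [ht]; simp))).1
    exact key _ ⟨g, hg⟩ h
  · have := X.isCyclic_H
    obtain ⟨g, hg⟩ := exists_zpowers_eq X.H
    exact key _ ⟨g, by rw [← Nat.card_zpowers, hg, X.card_H]⟩ h
  · obtain ⟨A, T, hT, -, e1, e2, -⟩ := X.exists_torQ hm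
    have h1 := hT.card_T_even dvd_rfl
    have hE : (E T).ncard = 4 := Nat.eq_of_mul_eq_mul_right (m := Nat.card A) Nat.card_pos
      (by rw [← hT.card_T]; omega)
    have := Nat.totient_pos.2 (Nat.card_pos (α := A))
    obtain ⟨g, -, hg⟩ := Set.nonempty_of_ncard_ne_zero (s := {t | t ∈ T ∧ orderOf t = 2 * Nat.card A})
      (by rw [hE] at h1; omega)
    exact key _ ⟨g, hg⟩ (by rwa [e1, show 2 * ((P.q + 1) / 4) = (P.q + 1) / 2 by omega])
  · obtain ⟨g, -, hg⟩ := hA.gen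
    exact key _ ⟨g, hg⟩ (e1 ▸ h)
  · obtain ⟨g, -, hg⟩ := hB.gen
    exact key _ ⟨g, hg⟩ (e2 ▸ h)

theorem count_H {i : ℕ} (h2 : 2 < i) (hi : i ∣ P.q - 1) :
    2 * Nat.card {g : G // orderOf g = i} = i.totient * P.q ^ 3 * (P.q ^ 3 + 1) := by
  have := X.finite
  obtain ⟨t, ht⟩ := P.exists_q
  have hT := X.torH hm
  have hc : P.q - 1 = 2 * Nat.card X.AH := by rw [card_AH]; omega
  have h1 := hT.card_order (i := i) fun h => absurd (Nat.le_of_dvd two_pos (h.dvd_of_dvd_mul_right (hc ▸ hi)))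
    (by omega)
  have h3 : {t | t ∈ X.H ∧ orderOf t = i}.ncard = i.totient := by
    rcases Nat.even_or_odd' i with ⟨j, rfl | rfl⟩
    · have hj := Nat.dvd_of_mul_dvd_mul_left two_pos (hc ▸ hi)
      have h4 := hT.card_T_even hj
      have hE : (E X.H).ncard = 2 := Nat.eq_of_mul_eq_mul_right (m := Nat.card X.AH) Nat.card_pos
        (by rw [← hT.card_T, card_H, hc])
      rw [Nat.totient_two_mul_of_odd (hT.odd.of_dvd_nat hj)]
      rw [hE] at h4; omega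
    · exact hT.card_T_odd (Nat.Coprime.dvd_of_dvd_mul_left (by simp) (hc ▸ hi))
  rw [h3, X.normalizer_H hm, card_N, X.card_eq] at h1
  exact Nat.eq_of_mul_eq_mul_right (m := P.q - 1) (by omega) (by linarith)

theorem count_Q {i : ℕ} (h1 : 1 < i) (hi : i ∣ (P.q + 1) / 4) :
    6 * Nat.card {g : G // orderOf g = i} = i.totient * P.q ^ 3 * (P.q - 1) * P.M ∧
    2 * Nat.card {g : G // orderOf g = 2 * i} = i.totient * P.q ^ 3 * (P.q - 1) * P.M := by
  have := X.finite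
  obtain ⟨t, ht⟩ := P.exists_q
  obtain ⟨A, T, hT, -, e1, e2, e3⟩ := X.exists_torQ hm
  rw [← e1] at hi
  have hE : (E T).ncard = 4 := Nat.eq_of_mul_eq_mul_right (m := Nat.card A) Nat.card_pos
    (by rw [← hT.card_T]; omega)
  have a1 := hT.card_order (i := i) fun h => h1.ne' (h.eq_one_of_dvd hi)
  have a2 := hT.card_order (i := 2 * i) fun h => h1.ne' (h.coprime_mul_left.eq_one_of_dvd hi)
  have a3 := hT.card_T_even hi
  rw [hE] at a3
  rw [show {t | t ∈ T ∧ orderOf t = 2 * i}.ncard = 3 * i.totient by omega] at a2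
  rw [hT.card_T_odd hi] at a1
  rw [e3, e2, X.card_eq'] at a1 a2
  exact ⟨Nat.eq_of_mul_eq_mul_right (m := P.q + 1) (by omega) (by linarith),
    Nat.eq_of_mul_eq_mul_right (m := 3 * (P.q + 1)) (by omega) (by linarith)⟩

omit hm in
theorem count_P {A : Subgroup G} (hT : Tor A A) (e : Nat.card (Subgroup.normalizer (A : Set G)) = 6 * Nat.card A)
    {n : ℕ} (hn : Nat.card A * n = P.M) {i : ℕ} (h1 : 1 < i) (hi : i ∣ Nat.card A) :
    6 * Nat.card {g : G // orderOf g = i} = i.totient * P.q ^ 3 * (P.q ^ 2 - 1) * n := by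
  have := X.finite
  have a1 := hT.card_order (i := i) fun h => h1.ne' (h.eq_one_of_dvd hi)
  rw [hT.card_T_odd hi, e, X.card_eq', ← hn] at a1
  rw [show P.q ^ 2 - 1 = (P.q + 1) * (P.q - 1) from Nat.sq_sub_sq _ 1]
  exact Nat.eq_of_mul_eq_mul_right (m := Nat.card A) Nat.card_pos (by linarith)

theorem exists_ord {n : ℕ} (h : P.Ord n) : ∃ A T : Subgroup G, Tor A T ∧ Nat.card A = n := by
  obtain ⟨A, B, hA, hB, e1, e2, -⟩ := X.exists_tori hm
  obtain ⟨A', T, hT, -, e, -⟩ := X.exists_torQ hm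
  rcases h with rfl | rfl | rfl | rfl
  exacts [⟨_, _, X.torH hm, X.card_AH⟩, ⟨_, _, hT, e⟩, ⟨_, _, hA, e1⟩, ⟨_, _, hB, e2⟩]

end ReS

end H6.Ree
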