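import Cfsg.Agent.H6.Ree6
import Cfsg.Agent.H1.Fitting

/-!
Small Ree groups VII: four-groups, solvable subgroups, generation.
-/

noncomputable section

namespace H6.Ree

open H5 Pointwise MulAction Suz

variable {K : Type*} [Field K] [Fintype K] {P : Par K} {G : Type*} [Group G]

lemma comm_of_sq {E : Subgroup G} (h : ∀ e ∈ E, e * e = 1) {a b : G} (ha : a ∈ E) (hb : b ∈ E) : a * b = b * a := by
  rw [← inv_eq_of_mul_eq_one_right (h _ (mul_mem ha hb)), mul_inv_rev, inv_eq_of_mul_eq_one_right (h _ ha),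
    inv_eq_of_mul_eq_one_right (h _ hb)]

lemma mem_sq_of_odd {r h : G} (hh : h ∈ Subgroup.zpowers r) (ho : Odd (orderOf h)) : h ∈ Subgroup.zpowers (r ^ 2) := by
  obtain ⟨k, rfl⟩ := hh
  obtain ⟨j, hj⟩ := ho
  refine ⟨k * (j + 1 : ℕ), ?_⟩
  have : (r ^ k) ^ (2 * j + 1) = 1 := hj ▸ pow_orderOf_eq_one _
  simp only at this ⊢
  rw [← zpow_natCast, ← zpow_mul, show ((2 : ℕ) : ℤ) * (k * (j + 1 : ℕ)) = k * (2 * j + 1 : ℕ) + k by push_cast; ring,
    zpow_add, zpow_mul, zpow_natCast, this, one_mul]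

lemma Par.exists_k (P : Par K) (hm : 1 ≤ P.m) : ∃ k : Kˣ, k ≠ 1 ∧ k ≠ -1 := by
  by_contra! e
  have := Set.ncard_le_ncard (s := Set.univ) (t := ({1, -1} : Set Kˣ)) fun k _ => (eq_or_ne k 1).imp_right (e k)
  have h1 := P.le_q hm
  have h2 := Set.ncard_insert_le (1 : Kˣ) {-1}
  rw [Set.ncard_univ, P.card_units] at this
  rw [Set.ncard_singleton] at h2
  omega

lemma Par.exists_χ (P : Par K) {s : K} (hs : s ≠ 0) : ∃ k : Kˣ, (k : K) ^ 2 * (P.f k ^ 3)⁻¹ = s := by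
  let c : Kˣ →* Kˣ := MonoidHom.mk' (fun k => k ^ 2 * (Units.map P.f.toMonoidHom k ^ 3)⁻¹) fun a b => by
    simp [mul_pow, mul_comm, mul_left_comm, mul_assoc]
  obtain ⟨k, hk⟩ := Finite.surjective_of_injective (f := c) ((injective_iff_map_eq_one c).2 fun k e =>
    P.c1 (by simpa [c] using congrArg Units.val e)) (Units.mk0 s hs)
  exact ⟨k, by simpa [c] using congrArg Units.val hk⟩

namespace ReS

variable (X : ReS P G) (hm : 1 ≤ P.m)

include X hm

omit hm in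
lemma sq_of_two {E : Subgroup G} (hE : IsPGroup 2 E) : ∀ e ∈ E, e * e = 1 := fun e he =>
  (hE ⟨e, he⟩).elim fun _ hn => X.sq_of_pow (congrArg Subtype.val hn)

theorem four {E : Subgroup G} (hE : IsPGroup 2 E) (h4 : Nat.card E = 4) : ∃ A : Subgroup G, IsCyclic A ∧
    Nat.card A = (P.q + 1) / 4 ∧ Subgroup.normalizer (E : Set G) ≤ Subgroup.normalizer (A : Set G) := by
  have := X.finite
  obtain ⟨t, ht⟩ := P.exists_q
  have hsq := X.sq_of_two hE
  obtain ⟨⟨e, he⟩, he1⟩ := Subgroup.ne_bot_iff_exists_ne_one.1 (show E ≠ ⊥ by rintro rfl; simp at h4)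
  obtain ⟨Y, rfl⟩ := X.exists_a_eq hm (hsq e he) fun h => he1 (Subtype.ext h)
  have hext := Y.eq_ext (fun g hg => mem_cent.2 (comm_of_sq hsq hg he)) he
  have h2 : Nat.card (E.comap Y.ι) = 2 := by have := Y.card_ext (E.comap Y.ι); rw [← hext] at this; omega
  obtain ⟨⟨l, hl⟩, hl1, hu⟩ := (Nat.card_eq_two_iff' 1).1 h2
  have hl1 : l ≠ 1 := fun e => hl1 (Subtype.ext e)
  have hl2 : l * l = 1 := Y.ι_inj (by rw [map_mul, hsq _ hl, map_one])
  have key : ∀ {T D : Subgroup (PG K)}, IsTor (Fintype.card K + 1) T D → ∃ r, Subgroup.zpowers r = T.comap psl ∧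
      orderOf r = 2 * (6 * t + 1) := fun {T D} hT => by
    have := hT.cyc
    have : IsCyclic (T.comap psl) := isCyclic_of_injective ((psl.comp (Subgroup.subtype _)).codRestrict T
      fun x => x.2) fun a b e => Subtype.ext (psl_inj (congrArg Subtype.val e))
    obtain ⟨r, hr⟩ := exists_zpowers_eq (T.comap psl)
    exact ⟨r, hr, by rw [← Nat.card_zpowers, hr, card_comap_psl, hT.card_inf_PS, P.gcd_two, P.hK, ← Par.q]; omega⟩
  obtain ⟨T, D, hT, hlT⟩ : ∃ T D : Subgroup (PG K), IsTor (Fintype.card K + 1) T D ∧ psl l ∈ T := by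
    obtain ⟨T, D, hT, -⟩ := exists_nonsplit K
    obtain ⟨r, hr, hor⟩ := key hT
    obtain ⟨c, hc⟩ := isConj_iff.1 (isConj_invol (x := r ^ (6 * t + 1)) (y := l) (by rw [orderOf_pow, hor]; simp)
      (orderOf_eq_prime ((sq l).trans hl2) hl1))
    exact ⟨_, _, hT.cj (psl c), by
      rw [← hc, map_mul, map_mul, map_inv, conj_mem_cj]; exact hr.le (Subgroup.npow_mem_zpowers r _)⟩
  obtain ⟨r, hr, hor⟩ := key hT
  have hA : Nat.card ((Subgroup.zpowers (r ^ 2)).map Y.ι) = 6 * t + 1 := by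
    rw [Subgroup.card_map_of_injective Y.ι_inj, Nat.card_zpowers, orderOf_pow, hor]; simp
  have hmem : ∀ y, y ∈ (Subgroup.zpowers (r ^ 2)).map Y.ι ↔ Odd (orderOf y) ∧ ∀ e ∈ E, y * e = e * y := fun y => by
    refine ⟨fun hy => ⟨Odd.of_dvd_nat (by simp [parity_simps]) (hA ▸ Subgroup.orderOf_dvd_natCard _ hy), ?_⟩,
      fun ⟨ho, hy⟩ => ?_⟩
    · obtain ⟨h, hh, rfl⟩ := hy
      have hh : psl h ∈ T := hr.le (Subgroup.zpowers_le.2 (Subgroup.npow_mem_zpowers r 2) hh)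
      intro e he'
      obtain ⟨l', hl', e⟩ := hext.le he'
      have : h * l' = l' * h := by
        by_cases e1 : l' = 1
        · simp [e1]
        · rw [show l' = l from congrArg Subtype.val (hu ⟨l', hl'⟩ fun e => e1 (congrArg Subtype.val e))]
          exact psl_inj (by rw [map_mul, map_mul, hT.comm hh hlT])
      rcases e with rfl | rfl
      · rw [← map_mul, this, map_mul]
      · rw [ι_a', ← map_mul, this, map_mul, mul_assoc]
    · obtain ⟨h, rfl⟩ := Y.eq_ι (hy _ he) ho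
      rw [orderOf_injective _ Y.ι_inj] at ho
      refine ⟨h, mem_sq_of_odd (hr.ge ?_) ho, rfl⟩
      by_cases h1 : h * h = 1
      · have := (orderOf_dvd_of_pow_eq_one ((sq h).trans h1))
        rw [orderOf_eq_one_iff.1 (Nat.eq_one_of_dvd_coprimes (by simpa using ho) dvd_rfl this)]
        exact one_mem _
      · refine hT.mem_of_sq (hT.centralizer_le hlT (by rwa [ne_eq, map_eq_one_iff _ psl_inj]) (mem_cent.2 ?_))
          (by rwa [← map_mul, ne_eq, map_eq_one_iff _ psl_inj])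
        rw [← map_mul, Y.ι_inj (show Y.ι (h * l) = Y.ι (l * h) by simpa using hy _ hl), map_mul]
  refine ⟨_, by rw [MonoidHom.map_zpowers]; infer_instance, hA.trans (by omega), fun n hn y => ?_⟩
  simp only [SetLike.mem_coe, hmem, orderOf_conj]
  refine and_congr_right fun _ => ⟨fun h e he => ?_, fun h e he => ?_⟩
  · simpa [mul_assoc, mul_inv_eq_iff_eq_mul] using congrArg (fun z => n * z * n⁻¹) (h _ ((inv_mem hn e).1 he))
  · simpa [← mul_assoc] using congrArg (fun z => n⁻¹ * z * n) (h _ ((hn e).1 he))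

theorem local_odd {p : ℕ} (hp : p.Prime) (h2 : p ≠ 2) {Q : Subgroup G} (hQ : IsPGroup p Q) (h1 : Q ≠ ⊥) :
    ∃ A : Subgroup G, Subgroup.normalizer (Q : Set G) ≤ Subgroup.normalizer (A : Set G) ∧
      ((∃ S : Sylow 3 G, A = S) ∨ IsCyclic A ∧ P.Ord (Nat.card A)) := by
  have := X.finite
  have := Fact.mk hp
  obtain ⟨⟨u, hu⟩, hu1⟩ := Subgroup.ne_bot_iff_exists_ne_one.1 h1
  obtain rfl | h3 := eq_or_ne p 3
  · obtain ⟨S, hS⟩ := hQ.exists_le_sylow
    obtain ⟨Y, hY⟩ := X.exists_U_eq S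
    refine ⟨S, fun n hn => ?_, Or.inl ⟨S, rfl⟩⟩
    rw [← hY] at hS ⊢
    rw [normalizer_U]
    exact mem_B_of_conj (hS hu) (fun e => hu1 (Subtype.ext e)) (Y.U_le_B (hS ((hn u).1 hu)))
  obtain ⟨A, T, hT, hd, e⟩ := X.exists_tor hm hp (hp.five_le_of_ne_two_of_ne_three h2 h3)
    ((hQ.card_eq_or_dvd.resolve_left (by rwa [Subgroup.card_eq_one])).trans (Subgroup.card_subgroup_dvd_card Q))
  obtain ⟨S, hS⟩ := hT.exists_sylow hd
  obtain ⟨c, -, hc⟩ := exists_conj_sylow S le_top hQ le_top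
  have hT' := hT.cj c⁻¹
  refine ⟨_, ((hT'.norm_sub (fun y hy => mem_cj.2 (by simpa using hS (hc y hy))) h1).trans
    (hT'.norm_sub le_rfl hT'.ne).symm).le, Or.inr ⟨hT'.cyc, ?_⟩⟩
  rw [card_cj, Par.Ord]; tauto

theorem solvable (S : Subgroup G) (hS : Group.IsSolvable S) : ∃ A : Subgroup G,
    S ≤ Subgroup.normalizer (A : Set G) ∧ ((∃ R : Sylow 2 G, A = R) ∨ (∃ R : Sylow 3 G, A = R) ∨
      IsCyclic A ∧ P.Ord (Nat.card A)) := by
  have := X.finite
  have := Fact.mk Nat.prime_two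
  have hN : ∀ p, S ≤ Subgroup.normalizer ((Cfsg.pCore p S).map S.subtype : Set G) := fun p =>
    H1.normal_map_subtype_iff.1 inferInstance
  by_cases h : ∃ p, p.Prime ∧ p ≠ 2 ∧ (Cfsg.pCore p S).map S.subtype ≠ ⊥
  · obtain ⟨p, hp, h2, h⟩ := h
    obtain ⟨A, hA, e⟩ := X.local_odd hm hp h2 (H1.map_subtype_pCore_isPGroup S) h
    exact ⟨A, (hN p).trans hA, Or.inr e⟩
  push Not at h
  set E := (Cfsg.pCore 2 S).map S.subtype
  have hE : IsPGroup 2 E := H1.map_subtype_pCore_isPGroup S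
  have hF : Cfsg.fittingSubgroup S ≤ Cfsg.pCore 2 S := H1.fitting_eq_iSup_pCore.le.trans (iSup_le fun p => by
    by_cases e : p.1 = 2
    · rw [e]
    · rw [(Subgroup.map_eq_bot_iff_of_injective _ S.subtype_injective).1 (h p p.2 e)]; exact bot_le)
  have hC : ∀ s ∈ S, (∀ e ∈ E, e * s = s * e) → s ∈ E := fun s hs h =>
    ⟨⟨s, hs⟩, hF (H1.centralizer_fitting_le fun y hy => Subtype.ext (h _ ⟨y, hF hy, rfl⟩)), rfl⟩
  obtain ⟨R, hR⟩ := hE.exists_le_sylow
  have hd := X.card_sylow R ▸ Subgroup.card_dvd_of_le hR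
  have : Nat.card E ≤ 2 ∨ Nat.card E = 4 ∨ Nat.card E = 8 := by
    have := Nat.le_of_dvd (by omega) hd
    generalize Nat.card E = n at *
    interval_cases n <;> simp_all
  rcases this with e | e | e
  · refine ⟨R, fun s hs => Subgroup.le_normalizer (hR (hC s hs fun y hy => by_contra fun hne => ?_)), Or.inl ⟨R, rfl⟩⟩
    have h1 : s * y * s⁻¹ ≠ y := fun e => hne (mul_inv_eq_iff_eq_mul.1 e).symm
    have h2 : y ≠ 1 := by rintro rfl; simp at hne
    have := Set.ncard_le_ncard (s := {1, y, s * y * s⁻¹}) (t := E) (by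
      rintro _ (rfl | rfl | rfl)
      exacts [one_mem E, hy, (hN 2 hs y).1 hy])
    rw [Set.ncard_eq_three.2 ⟨_, _, _, h2.symm, by simpa [eq_comm] using h2, h1.symm, rfl⟩] at this
    exact absurd (this.trans e) (by decide)
  · obtain ⟨A, h1, h2, h3⟩ := X.four hm hE e
    exact ⟨A, (hN 2).trans h3, Or.inr (Or.inr ⟨h1, Or.inr (Or.inl h2)⟩)⟩
  · exact ⟨E, hN 2, Or.inl ⟨R, Subgroup.eq_of_le_of_card_ge hR (by rw [e, X.card_sylow])⟩⟩

theorem U2_mem {L : Subgroup G} (hD : ∀ (k : Kˣ) {g}, g ∈ L → X.D k * g * (X.D k)⁻¹ ∈ L) (h3 : ∀ w, X.x 0 0 w ∈ L)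
    (h1 : ∀ k, ∃ a b a' b', X.x k a b * X.x 1 a' b' * (X.x 1 a' b' * X.x k a b)⁻¹ ∈ L) (s w : K) : X.x 0 s w ∈ L := by
  obtain ⟨k, hk, hk'⟩ := P.exists_k hm
  have h2 : ∃ w ≠ 0, X.x 0 w 0 ∈ L := by
    obtain ⟨a, b, a', b', this⟩ := h1 k
    rw [X.x_mul, X.x_mul, x_inv, X.x_mul] at this
    generalize hz : (_ - _ - _ : K) = z at this
    refine ⟨P.f k ^ 3 - k, fun e => ?_, ?_⟩
    · exact (P.c2 (k := k) (by rw [sub_eq_zero.1 e]; simp)).elim hk hk'
    · have := mul_mem this (h3 (-z))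
      rw [X.x_mul] at this
      convert this using 2 <;> simp [add_comm (1 : K)] <;> ring
  suffices X.x 0 s 0 ∈ L by simpa [X.x_mul] using mul_mem this (h3 w)
  obtain rfl | hs := eq_or_ne s 0
  · simp
  obtain ⟨w, hw, e⟩ := h2
  obtain ⟨d, hd⟩ := P.exists_sq (Units.mk0 (s / w) (div_ne_zero hs hw))
  have := hD (P.ν d) e
  rw [← φ_dg', ← X.φ_up, ← map_inv, ← map_mul, ← map_mul, show dg d * up w * (dg d)⁻¹ = up (d ^ 2 * w) from ?_,
    X.φ_up] at this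
  · rcases hd with hd | hd <;> have hd := (div_eq_iff hw).1 (congrArg Units.val hd)
    · exact hd ▸ by simpa using this
    · exact hd ▸ by simpa [x_inv] using inv_mem this
  · rw [mul_inv_eq_iff_eq_mul]; simp [sl2_mul, sl2_eq_iff]; field_simp

theorem U_le {L : Subgroup G} (hH : X.H ≤ L) {t u v : K} (ht : t ≠ 0) (h : X.x t u v ∈ L) : X.U ≤ L := by
  have hD : ∀ (k : Kˣ) {g}, g ∈ L → X.D k * g * (X.D k)⁻¹ ∈ L := fun k _ hg =>
    mul_mem (mul_mem (hH (X.D_mem k)) hg) (inv_mem (hH (X.D_mem k)))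
  have h1 : ∀ s, ∃ u v, X.x s u v ∈ L := fun s => by
    obtain rfl | hs := eq_or_ne s 0
    · exact ⟨0, 0, by simp⟩
    obtain ⟨k, hk⟩ := P.exists_χ (div_ne_zero hs ht)
    have := hD k h
    rw [X.D_x, hk, div_mul_cancel₀ _ ht] at this
    exact ⟨_, _, this⟩
  have h3 : ∀ w, X.x 0 0 w ∈ L := fun w => by
    obtain rfl | hw := eq_or_ne w 0
    · simp
    have h0 : -(t ^ 2 * P.f t ^ 3) ≠ 0 := by simp [ht]
    have := hD (Units.mk0 (w / _) (div_ne_zero hw h0)) (X.x_cube t u v ▸ pow_mem h 3)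
    rwa [X.D_x, mul_zero, mul_zero, Units.val_mk0, div_mul_cancel₀ _ h0] at this
  rintro _ ⟨a, b, c, rfl⟩
  obtain ⟨b', c', e⟩ := h1 a
  have := mul_mem e (X.U2_mem hm hD h3 (fun k => by
    obtain ⟨a, b, e⟩ := h1 k
    obtain ⟨a', b', e'⟩ := h1 1
    exact ⟨a, b, a', b', mul_mem (mul_mem e e') (inv_mem (mul_mem e' e))⟩) (b - b') (c - c'))
  rw [X.x_mul] at this
  convert this using 2 <;> simp

theorem two_gen : ∃ a b : G, Subgroup.closure ({a, b} : Set G) = ⊤ := by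
  obtain ⟨k, hk⟩ := IsCyclic.exists_generator (α := Kˣ)
  refine ⟨X.D k, X.x 1 0 0 * X.W, ?_⟩
  set L := Subgroup.closure {X.D k, X.x 1 0 0 * X.W}
  have hb : X.x 1 0 0 * X.W ∈ L := Subgroup.subset_closure (by simp)
  have hH : X.H ≤ L := by
    rintro _ ⟨l, rfl⟩
    obtain ⟨n, rfl⟩ := hk l
    exact map_zpow X.D k n ▸ L.zpow_mem (Subgroup.subset_closure (by simp)) n
  have h := L.mul_mem (L.mul_mem (L.mul_mem hb (hH (X.D_mem (-1)⁻¹))) (L.inv_mem hb)) (hH (X.D_mem (-1)⁻¹))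
  rw [mul_inv_rev, X.W_inv, mul_assoc (X.x 1 0 0), mul_assoc (X.x 1 0 0), ← mul_assoc _ X.W, X.W_D, inv_inv,
    X.x_inv, map_inv, mul_assoc (X.x 1 0 0), X.D_x, X.x_mul] at h
  have hU := X.U_le hm hH (by simpa [one_add_one_eq_two, pow_succ] using P.two) h
  have hB : X.B ≤ L := by rintro _ ⟨a, b, c, l, rfl⟩; exact mul_mem (hU (X.x_mem ..)) (hH (X.D_mem l))
  refine eq_top_iff.2 fun g _ => ?_
  obtain h | ⟨b, h1, u, h2, rfl⟩ := bruhat' (X := X) g
  exacts [hB h, mul_mem (mul_mem (hB h1) ((L.mul_mem_cancel_left (hU (X.x_mem ..))).1 hb)) (hU h2)]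

end ReS

end H6.Ree
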