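import Cfsg.Prelude.Def_LieExceptional
import Cfsg.Prelude.Def_Sz

/-!
# Suzuki groups I: the matrix model

`Par F` (field of order `2^(2m+1)`, `m ≥ 1`), the Tits automorphism `P.θ`, the ovoid `P.On`, the
group `P.G0 ≤ GL₄(F)`, its elements `T`, `D`, `W`; the abstract structure `SzS P G`, with models
`P.model`, `P.sz : SzS P (Cfsg.Sz F m)`, `P.lie : SzS P (Cfsg.Lie.Sz F (2^(m+1)))`.
-/

noncomputable section

namespace H6.Suz

open Matrix

/-- parameters -/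
structure Par (F : Type*) [Field F] [Fintype F] where
  m : ℕ
  hm : 1 ≤ m
  hF : Fintype.card F = 2 ^ (2 * m + 1)

variable {F : Type*} [Field F] [Fintype F] (P : Par F)

namespace Par

include P in
lemma charP : CharP F 2 := by
  obtain ⟨p, hp, n, hp', h⟩ := FiniteField.card' F
  rw [P.hF] at h
  have := (Nat.prime_dvd_prime_iff_eq Nat.prime_two hp').1 (Nat.prime_two.dvd_of_dvd_pow
    (h ▸ dvd_pow_self 2 (by omega)))
  exact this ▸ hp

include P in
lemma two : (2 : F) = 0 := by have := P.charP; exact CharTwo.two_eq_zero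

/-- the Tits automorphism -/
def θ : F ≃+* F :=
  have := P.charP
  RingEquiv.ofBijective (iterateFrobenius F 2 (P.m + 1))
    (Finite.injective_iff_bijective.1 (RingHom.injective _))

lemma θ_apply (x : F) : P.θ x = x ^ 2 ^ (P.m + 1) := by
  have := P.charP
  exact iterateFrobenius_def ..

@[simp] lemma θθ (x : F) : P.θ (P.θ x) = x ^ 2 := by
  rw [θ_apply, θ_apply, ← pow_mul, ← pow_add, show P.m + 1 + (P.m + 1) = 2 * P.m + 1 + 1 by ring,
    pow_succ, pow_mul, ← P.hF, FiniteField.pow_card]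

lemma symm_sq (x : F) : P.θ.symm x ^ 2 = P.θ x := by rw [← P.θθ]; simp

include P in
lemma eight_le : 8 ≤ Fintype.card F := by
  have := P.hm
  rw [P.hF]; exact Nat.pow_le_pow_right (n := 2) (i := 3) (by omega) (by omega)

include P in
lemma exists_ne : ∃ y : F, y ≠ 0 ∧ y ≠ 1 := by
  classical
  obtain ⟨y, -, h⟩ := Finset.exists_mem_notMem_of_card_lt_card (s := {0, 1}) (t := Finset.univ (α := F))
    (Finset.card_le_two.trans_lt (by have := P.eight_le; simp; omega))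
  exact ⟨y, by simpa using h⟩

lemma exists_θ_ne : ∃ y : F, P.θ y ≠ y ^ 2 := by
  obtain ⟨y, h0, h1⟩ := P.exists_ne
  by_contra! h
  have h2 := P.θθ y
  have := P.two
  rw [h, h] at h2
  grind

include P in
lemma sq_inj {x y : F} (h : x ^ 2 = y ^ 2) : x = y := by have := P.two; grind

lemma mul_θ_inj {x y : F} (h : x * P.θ x = y * P.θ y) : x = y := by
  have h1 := congrArg P.θ h
  simp only [map_mul, θθ] at h1
  by_cases hx : x = 0
  · subst hx; exact Eq.symm (by simpa using h.symm)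
  · have : P.θ x ≠ 0 := by simpa
    by_cases hy : y = 0
    · subst hy; simp [hx] at h
    · grind

lemma exists_mul_θ (y : F) : ∃ x, x * P.θ x = y :=
  Finite.injective_iff_surjective.1 (fun _ _ => P.mul_θ_inj) y

/-- the anisotropic form -/
def f (x y : F) : F := x * y + x ^ 2 * P.θ x + P.θ y

lemma θ_f (x y : F) : P.θ (P.f x y) = P.θ x * P.θ y + P.θ x ^ 2 * x ^ 2 + y ^ 2 := by simp [f]

lemma f_eq_zero {x y : F} (h : P.f x y = 0) : x = 0 ∧ y = 0 := by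
  have h1 := P.θ_f x y
  have := P.two
  rw [h, map_zero] at h1
  have h2 : P.θ y * y ^ 2 = 0 := by unfold f at h; grind
  obtain rfl : y = 0 := by simpa using h2
  simpa [f] using h

lemma f_inv {x y : F} (h : P.f x y ≠ 0) : P.f (y / P.f x y) (x / P.f x y) = (P.f x y)⁻¹ := by
  have h1 := P.θ_f x y
  have h2 : P.θ (P.f x y) ≠ 0 := by simpa
  have := P.two
  have h3 : P.f x y = x * y + x ^ 2 * P.θ x + P.θ y := rfl
  generalize P.f x y = z at *
  simp only [f, map_div₀]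
  field_simp
  grind

/-- points of the ovoid -/
def pt : Option (F × F) → Fin 4 → F
  | none => ![1, 0, 0, 0]
  | some p => ![P.f p.1 p.2, p.2, p.1, 1]

lemma pt_ne_zero (o : Option (F × F)) : P.pt o ≠ 0 := by cases o <;> simp [pt]

lemma pt_inj {c c' : F} (hc : c ≠ 0) {o o' : Option (F × F)} (h : c • P.pt o = c' • P.pt o') :
    o = o' := by
  have h3 := congrFun h 3
  have h2 := congrFun h 2
  have h1 := congrFun h 1
  have h0 := congrFun h 0
  cases o <;> cases o' <;> simp [pt, hc] at h0 h1 h2 h3 ⊢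
  · simp [hc, ← h3] at h0
  · subst h3; ext <;> simp_all

/-- the cone over the ovoid -/
def On (v : Fin 4 → F) : Prop := ∃ c ≠ (0 : F), ∃ o, v = c • P.pt o

lemma On.smul {P : Par F} {v : Fin 4 → F} (h : P.On v) {c : F} (hc : c ≠ 0) : P.On (c • v) := by
  obtain ⟨d, hd, o, rfl⟩ := h
  exact ⟨c * d, mul_ne_zero hc hd, o, smul_smul ..⟩

/-- the Suzuki group -/
def G0 : Subgroup (GL (Fin 4) F) where
  carrier := {g | (g : Matrix (Fin 4) (Fin 4) F).det = 1 ∧ ∀ v, P.On (g.1 *ᵥ v) ↔ P.On v}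
  one_mem' := by simp
  mul_mem' ha hb := ⟨by simp [ha.1, hb.1], fun v => by
    rw [Units.val_mul, ← mulVec_mulVec, ha.2, hb.2]⟩
  inv_mem' {g} hg := ⟨by simp [hg.1], fun v => by rw [← hg.2, mulVec_mulVec]; simp⟩

lemma mem_G0 {g : GL (Fin 4) F} (h1 : (g : Matrix (Fin 4) (Fin 4) F).det = 1)
    (h : ∀ o, P.On (g.1 *ᵥ P.pt o)) : g ∈ P.G0 := by
  have h2 : ∀ v, P.On v → P.On (g.1 *ᵥ v) := by
    rintro _ ⟨c, hc, o, rfl⟩
    rw [mulVec_smul]; exact (h o).smul hc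
  refine ⟨h1, fun v => ⟨fun hv => ?_, h2 v⟩⟩
  have hi : Function.Injective fun v => g.1 *ᵥ v := mulVec_injective_of_isUnit g.isUnit
  obtain ⟨w, hw, e⟩ := ((Set.toFinite {v | P.On v}).injOn_iff_bijOn_of_mapsTo h2).1 hi.injOn |>.surjOn hv
  exact hi e ▸ hw

/-- unipotent matrices -/
def Tm (a b : F) : Matrix (Fin 4) (Fin 4) F :=
  !![1, a, b + a * P.θ a, P.f a b; 0, 1, P.θ a, b; 0, 0, 1, a; 0, 0, 0, 1]

/-- diagonal matrices -/
def Dm (l : F) : Matrix (Fin 4) (Fin 4) F := diagonal ![P.θ l * l, l, l⁻¹, (P.θ l * l)⁻¹]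

variable (F) in
/-- the antidiagonal matrix -/
def Wm : Matrix (Fin 4) (Fin 4) F := !![0, 0, 0, 1; 0, 0, 1, 0; 0, 1, 0, 0; 1, 0, 0, 0]

lemma Tm_mul (a b c d : F) : P.Tm a b * P.Tm c d = P.Tm (a + c) (b + d + P.θ a * c) := by
  have := P.two
  ext i j
  fin_cases i <;> fin_cases j <;> simp [Tm, f, mul_apply, Fin.sum_univ_four] <;> grind

lemma Tm_pt (a b x y : F) :
    P.Tm a b *ᵥ P.pt (some (x, y)) = P.pt (some (a + x, b + y + P.θ a * x)) := by
  have := P.two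
  ext i
  fin_cases i <;> simp [Tm, f, pt, mulVec, dotProduct, Fin.sum_univ_four] <;> grind

lemma Tm_none (a b : F) : P.Tm a b *ᵥ P.pt none = P.pt none := by
  ext i
  fin_cases i <;> simp [Tm, pt, mulVec, dotProduct, Fin.sum_univ_four]

lemma Dm_pt {l : F} (hl : l ≠ 0) (x y : F) : P.Dm l *ᵥ P.pt (some (x, y)) =
    (P.θ l * l)⁻¹ • P.pt (some (P.θ l * x, P.θ l * l ^ 2 * y)) := by
  have : P.θ l ≠ 0 := by simpa
  ext i
  fin_cases i <;> simp [Dm, f, pt, mulVec_diagonal] <;> field_simp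

lemma Dm_none (l : F) : P.Dm l *ᵥ P.pt none = (P.θ l * l) • P.pt none := by
  ext i
  fin_cases i <;> simp [Dm, pt, mulVec_diagonal]

omit [Fintype F] in
lemma Wm_mulVec (v : Fin 4 → F) : Wm F *ᵥ v = ![v 3, v 2, v 1, v 0] := by
  ext i
  fin_cases i <;> simp [Wm, mulVec, dotProduct, Fin.sum_univ_four]

lemma Wm_none : Wm F *ᵥ P.pt none = P.pt (some (0, 0)) := by simp [Wm_mulVec, pt, f]

lemma Wm_zero : Wm F *ᵥ P.pt (some (0, 0)) = P.pt none := by simp [Wm_mulVec, pt, f]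

lemma Wm_pt {x y : F} (h : P.f x y ≠ 0) : Wm F *ᵥ P.pt (some (x, y)) =
    P.f x y • P.pt (some (y / P.f x y, x / P.f x y)) := by
  ext i
  fin_cases i <;> simp [Wm_mulVec, pt, P.f_inv h, h, mul_div_cancel₀]

omit [Fintype F] in
lemma Wm_sq : Wm F * Wm F = 1 := by
  ext i j
  fin_cases i <;> fin_cases j <;> simp [Wm, mul_apply, Fin.sum_univ_four]

lemma det_Tm (a b : F) : (P.Tm a b).det = 1 := by
  simp [Tm, det_succ_row_zero, Fin.sum_univ_succ, Fin.succAbove]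

lemma det_Dm {l : F} (hl : l ≠ 0) : (P.Dm l).det = 1 := by
  have : P.θ l ≠ 0 := by simpa
  simp [Dm, Fin.prod_univ_four]; field_simp

include P in
lemma det_eq_one {M : Matrix (Fin 4) (Fin 4) F} (h : M.det * M.det = 1) : M.det = 1 :=
  P.sq_inj (by rw [sq, h, one_pow])

include P in
lemma det_Wm : (Wm F).det = 1 := P.det_eq_one (by rw [← det_mul, Wm_sq, det_one])

/-- group elements from matrices -/
def mkG (M : Matrix (Fin 4) (Fin 4) F) (h1 : M.det = 1) (h : ∀ o, P.On (M *ᵥ P.pt o)) :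
    P.G0 :=
  ⟨GeneralLinearGroup.mkOfDetNeZero M (h1 ▸ one_ne_zero), P.mem_G0 h1 h⟩

lemma on_pt (o : Option (F × F)) : P.On (P.pt o) := ⟨1, one_ne_zero, o, (one_smul _ _).symm⟩

/-- unipotent elements -/
def T (a b : F) : P.G0 := P.mkG (P.Tm a b) (P.det_Tm a b) fun
  | none => by rw [Tm_none]; exact P.on_pt _
  | some (_, _) => by rw [Tm_pt]; exact P.on_pt _

/-- diagonal elements -/
def D : Fˣ →* P.G0 :=
  MonoidHom.mk' (fun k => P.mkG (P.Dm (P.θ.symm k)) (P.det_Dm (by simp)) fun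
    | none => by rw [Dm_none]; exact (P.on_pt _).smul (by simp)
    | some (_, _) => by rw [P.Dm_pt (by simp)]; exact (P.on_pt _).smul (by simp)) fun a b => by
    refine Subtype.ext (Units.ext ?_)
    change P.Dm _ = P.Dm _ * P.Dm _
    simp only [Dm, diagonal_mul_diagonal]
    congr 1
    ext i
    fin_cases i <;> simp <;> ring

/-- the Weyl element -/
def W : P.G0 := P.mkG (Wm F) P.det_Wm fun
  | none => P.Wm_none ▸ P.on_pt _
  | some (x, y) => by
    by_cases h : P.f x y = 0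
    · obtain ⟨rfl, rfl⟩ := P.f_eq_zero h
      exact P.Wm_zero ▸ P.on_pt _
    · rw [P.Wm_pt h]; exact (P.on_pt _).smul h

/-- the matrix of an element -/
def mat (g : P.G0) : Matrix (Fin 4) (Fin 4) F := g.1.1

lemma mat_mul (g h : P.G0) : P.mat (g * h) = P.mat g * P.mat h := rfl
lemma mat_T (a b : F) : P.mat (P.T a b) = P.Tm a b := rfl
lemma mat_D (k : Fˣ) : P.mat (P.D k) = P.Dm (P.θ.symm k) := rfl
lemma mat_W : P.mat P.W = Wm F := rfl
lemma mat_ext {g h : P.G0} (e : P.mat g = P.mat h) : g = h := Subtype.ext (Units.ext e)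

lemma exists_pt (g : P.G0) (o : Option (F × F)) :
    ∃ c ≠ (0 : F), ∃ o', P.mat g *ᵥ P.pt o = c • P.pt o' :=
  (g.2.2 _).2 (P.on_pt o)

lemma pt_inj' (g : P.G0) {o₁ o₂ o : Option (F × F)} {c d : F} (hd : d ≠ 0)
    (h1 : P.mat g *ᵥ P.pt o₁ = c • P.pt o) (h2 : P.mat g *ᵥ P.pt o₂ = d • P.pt o) : o₁ = o₂ :=
  P.pt_inj hd (c' := c) (mulVec_injective_of_isUnit (A := P.mat g) g.1.isUnit (by
    simp only [mulVec_smul, h1, h2, smul_comm c d]))

lemma lin_aux {a b c d β : F} (h : ∀ x y, P.f (a * x + b * y) (c * x + d * y) = β * P.f x y) :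
    b = 0 ∧ c = 0 ∧ d = a * P.θ a ∧ β = a ^ 2 * P.θ a := by
  obtain ⟨y, hy⟩ := P.exists_θ_ne
  have := P.two
  have h1 := h 0 y
  have h2 := h 0 1
  have h3 := h 0 (y + 1)
  have h4 := h y 0
  have h5 := h 1 0
  have h6 := h (y + 1) 0
  simp only [f, map_add, map_mul, map_zero, map_one] at h1 h2 h3 h4 h5 h6
  obtain rfl : b = 0 := by simpa using (show b ^ 2 * P.θ b = 0 by grind)
  have h7 : β = a ^ 2 * P.θ a := by grind
  obtain rfl : c = 0 := by simpa using (show P.θ c = 0 by grind)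
  exact ⟨rfl, rfl, P.θ.injective (by simp at h2 ⊢; grind), h7⟩

lemma row3 (g : P.G0) {α : F} (hα : α ≠ 0) (h : P.mat g *ᵥ P.pt none = α • P.pt none) :
    P.mat g 3 0 = 0 ∧ P.mat g 3 1 = 0 ∧ P.mat g 3 2 = 0 := by
  have h0 : P.mat g 3 0 = 0 := by
    simpa [pt, mulVec, dotProduct, Fin.sum_univ_four] using congrFun h 3
  have h1 : ∀ x y, P.mat g 3 1 * y + P.mat g 3 2 * x + P.mat g 3 3 ≠ 0 := fun x y e => by
    obtain ⟨c, hc, _ | o, e'⟩ := P.exists_pt g (some (x, y))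
    · exact absurd (P.pt_inj' g hα e' h) (by simp)
    · have := congrFun e' 3
      simp [pt, mulVec, dotProduct, Fin.sum_univ_four, h0, e] at this
      exact hc this.symm
  refine ⟨h0, by_contra fun e => h1 0 (-P.mat g 3 3 / P.mat g 3 1) ?_,
    by_contra fun e => h1 (-P.mat g 3 3 / P.mat g 3 2) 0 ?_⟩ <;> field_simp <;> ring

theorem eq_D (g : P.G0) {α δ : F} (hα : α ≠ 0) (h : P.mat g *ᵥ P.pt none = α • P.pt none)
    (hδ : δ ≠ 0) (h' : P.mat g *ᵥ P.pt (some (0, 0)) = δ • P.pt (some (0, 0))) : ∃ k, g = P.D k := by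
  obtain ⟨a0, a1, a2⟩ := P.row3 g hα h
  obtain ⟨b0, b1, b2⟩ := P.row3 (P.W * g * P.W) hδ (by
    rw [mat_mul, mat_mul, ← mulVec_mulVec, ← mulVec_mulVec, mat_W, Wm_none, h', mulVec_smul, Wm_zero])
  simp [mat_mul, mat_W, Wm, mul_apply, Fin.sum_univ_four, vecMul, dotProduct] at b0 b1 b2
  have c0 := congrFun h 0
  have c1 := congrFun h 1
  have c2 := congrFun h 2
  have d1 := congrFun h' 1
  have d2 := congrFun h' 2
  have d3 := congrFun h' 3
  simp [pt, mulVec, dotProduct, Fin.sum_univ_four, f] at c0 c1 c2 d1 d2 d3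
  obtain ⟨e1, e2, e3, e4⟩ := P.lin_aux (a := P.mat g 2 2 / δ) (b := P.mat g 2 1 / δ)
    (c := P.mat g 1 2 / δ) (d := P.mat g 1 1 / δ) (β := α / δ) fun x y => by
      obtain ⟨c, hc, _ | o, e'⟩ := P.exists_pt g (some (x, y))
      · exact absurd (P.pt_inj' g hα e' h) (by simp)
      have f0 := congrFun e' 0
      have f1 := congrFun e' 1
      have f2 := congrFun e' 2
      have f3 := congrFun e' 3
      simp [pt, mulVec, dotProduct, Fin.sum_univ_four, *] at f0 f1 f2 f3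
      subst f3
      rw [show _ * x + _ * y = o.1 by field_simp; grind, show _ * x + _ * y = o.2 by field_simp; grind]
      field_simp; grind
  rw [div_eq_zero_iff, or_iff_left hδ] at e1 e2
  have hd : (P.mat g).det = 1 := g.2.1
  obtain ⟨l, hl⟩ := P.θ.surjective (P.mat g 2 2 / δ)
  rw [← hl, θθ, div_eq_iff hδ] at e3 e4
  rw [eq_div_iff hδ] at hl
  have e : P.mat g = diagonal ![α, P.mat g 1 1, P.mat g 2 2, δ] := by
    ext i j
    fin_cases i <;> fin_cases j <;> simp [*]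
  rw [e, det_diagonal, Fin.prod_univ_four] at hd
  simp at hd
  have h5 : δ * (P.θ l * l) = 1 := P.sq_inj (P.sq_inj (by grind))
  have h6 : l ≠ 0 := by rintro rfl; simp at h5
  have h7 : P.θ l ≠ 0 := by simpa
  refine ⟨Units.mk0 _ h7, P.mat_ext ?_⟩
  rw [e, mat_D, Dm]
  congr 1
  ext i
  fin_cases i <;> simp <;> grind

lemma T_mul (a b c d : F) : P.T a b * P.T c d = P.T (a + c) (b + d + P.θ a * c) :=
  P.mat_ext (P.Tm_mul a b c d)

lemma T_zero : P.T 0 0 = 1 := by simpa using P.T_mul 0 0 0 0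

lemma T_inv (a b : F) : (P.T a b)⁻¹ = P.T a (b + P.θ a * a) := by
  have := P.two
  rw [inv_eq_iff_mul_eq_one, T_mul, ← T_zero]
  congr 1 <;> grind

lemma W_sq : P.W * P.W = 1 := P.mat_ext Wm_sq

lemma D_T (k : Fˣ) (a b : F) : P.D k * P.T a b * (P.D k)⁻¹ = P.T (k * a) (k * P.θ k * b) := by
  rw [mul_inv_eq_iff_eq_mul]
  refine P.mat_ext ?_
  obtain ⟨l, hl⟩ := P.θ.surjective k
  have h6 : l ≠ 0 := by rintro rfl; exact k.ne_zero (by simpa using hl.symm)
  have h7 : P.θ l ≠ 0 := by simpa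
  simp only [mat_mul, mat_T, mat_D, ← hl, RingEquiv.symm_apply_apply, θθ]
  ext i j
  fin_cases i <;> fin_cases j <;> simp [Tm, Dm, f] <;> field_simp

lemma W_D (k : Fˣ) : P.W * P.D k * P.W = P.D k⁻¹ := by
  refine P.mat_ext ?_
  simp only [mat_mul, mat_W, mat_D]
  ext i j
  fin_cases i <;> fin_cases j <;> simp [Wm, Dm, mul_apply, Fin.sum_univ_four, mul_comm, vecMul_diagonal]

lemma eq_DT (g : P.G0) {α : F} (hα : α ≠ 0) (h : P.mat g *ᵥ P.pt none = α • P.pt none) :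
    ∃ k a b, g = P.T a b * P.D k := by
  obtain ⟨c, hc, _ | ⟨x, y⟩, e⟩ := P.exists_pt g (some (0, 0))
  · exact absurd (P.pt_inj' g hα e h) (by simp)
  obtain ⟨k, hk⟩ := P.eq_D ((P.T x y)⁻¹ * g) hα
    (by rw [mat_mul, ← mulVec_mulVec, h, T_inv, mat_T, mulVec_smul, Tm_none]) hc (by
      rw [mat_mul, ← mulVec_mulVec, e, T_inv, mat_T, mulVec_smul, Tm_pt]
      have := P.two
      congr 4 <;> grind)
  exact ⟨k, x, y, by rw [← hk]; simp⟩

lemma exists_W (g : P.G0) {c x y : F} (hc : c ≠ 0)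
    (h : P.mat g *ᵥ P.pt none = c • P.pt (some (x, y))) :
    ∃ k : Fˣ, ∃ a b, g = P.T x y * P.D k * P.W * P.T a b ∧ k * P.θ k * P.θ c = 1 := by
  have e : P.mat (P.W * (P.T x y)⁻¹ * g) *ᵥ P.pt none = c • P.pt none := by
    rw [mat_mul, mat_mul, ← mulVec_mulVec, ← mulVec_mulVec, h, T_inv, mat_T, mulVec_smul, Tm_pt,
      mulVec_smul, mat_W, ← P.Wm_zero]
    have := P.two
    congr 5 <;> grind
  obtain ⟨k, a, b, hk⟩ := P.eq_DT _ hc e
  refine ⟨k⁻¹, k⁻¹ * a, k⁻¹ * P.θ (k⁻¹ : Fˣ) * b, ?_, ?_⟩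
  · rw [← D_T]
    nth_rw 1 [← W_D]
    rw [map_inv, mul_assoc _ _ P.W, mul_assoc _ _ P.W, W_sq]
    simp only [mul_assoc, mul_one, mul_inv_cancel_left, inv_inv]
    rw [← hk, ← mul_assoc P.W, ← mul_assoc P.W, W_sq]; simp
  · rw [hk, mat_mul, ← mulVec_mulVec, mat_D, Dm_none, mulVec_smul, mat_T, Tm_none] at e
    have := congrFun e 0
    simp [pt] at this
    simp [← this, sq]
    have : P.θ k ≠ 0 := by simp
    field_simp

end Par

variable {P}

/-- abstract Suzuki groups -/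
structure SzS (P : Par F) (G : Type*) [Group G] where
  T : F → F → G
  D : Fˣ →* G
  W : G
  T_mul : ∀ a b c d, T a b * T c d = T (a + c) (b + d + P.θ a * c)
  T_inj : ∀ a b, T a b = 1 → a = 0 ∧ b = 0
  D_T : ∀ k a b, D k * T a b * (D k)⁻¹ = T (k * a) (k * P.θ k * b)
  W_sq : W * W = 1
  W_D : ∀ k, W * D k * W = D k⁻¹
  W_ne : ∀ a b k, W ≠ T a b * D k
  rel : ∀ a b, P.f a b ≠ 0 → ∃ k : Fˣ, ∃ c d, W * T a b * W =
    T (b / P.f a b) (a / P.f a b) * D k * W * T c d ∧ k * P.f a b ^ 2 = P.θ (P.f a b)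
  bruhat : ∀ g, (∃ a b k, g = T a b * D k) ∨ ∃ a b k c d, g = T a b * D k * W * T c d
  rep : G →* GL (Fin 4) F
  rep_inj : Function.Injective rep
  rep_D : ∀ k v, (rep (D k)).1 *ᵥ v = v → k = 1 ∨ v = 0

/-- transport -/
def SzS.map {G G' : Type*} [Group G] [Group G'] (X : SzS P G) (e : G ≃* G') : SzS P G' where
  T a b := e (X.T a b)
  D := e.toMonoidHom.comp X.D
  W := e X.W
  T_mul a b c d := by rw [← map_mul, X.T_mul]
  T_inj a b h := X.T_inj a b (by simpa using h)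
  D_T k a b := by simp [← X.D_T]
  W_sq := by rw [← map_mul, X.W_sq, map_one]
  W_D k := by simpa using congrArg e (X.W_D k)
  W_ne a b k h := X.W_ne a b k (e.injective (by simpa using h))
  rel a b h := by
    obtain ⟨k, c, d, h, h'⟩ := X.rel a b h
    exact ⟨k, c, d, by simpa using congrArg e h, h'⟩
  bruhat g := by
    obtain ⟨a, b, k, h⟩ | ⟨a, b, k, c, d, h⟩ := X.bruhat (e.symm g)
    exacts [Or.inl ⟨a, b, k, by simpa using congrArg e h⟩,
      Or.inr ⟨a, b, k, c, d, by simpa using congrArg e h⟩]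
  rep := X.rep.comp e.symm.toMonoidHom
  rep_inj := X.rep_inj.comp e.symm.injective
  rep_D k v h := X.rep_D k v (by simpa using h)

namespace Par

variable (P)

/-- the matrix model -/
def model : SzS P P.G0 where
  T := P.T
  D := P.D
  W := P.W
  T_mul := P.T_mul
  T_inj a b h := ⟨congrFun₂ (congrArg P.mat h) 0 1, congrFun₂ (congrArg P.mat h) 1 3⟩
  D_T := P.D_T
  W_sq := P.W_sq
  W_D := P.W_D
  W_ne a b k h := by
    have := congrFun₂ (congrArg P.mat h) 3 0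
    simp [mat_mul, mat_W, mat_T, mat_D, Wm, Tm, Dm] at this
  rel a b h := by
    obtain ⟨k, c, d, e, e'⟩ := P.exists_W (P.W * P.T a b * P.W) h (by
      rw [mat_mul, mat_mul, ← mulVec_mulVec, ← mulVec_mulVec, mat_W, Wm_none, mat_T, Tm_pt,
        add_zero, add_zero, mul_zero, add_zero, P.Wm_pt h])
    refine ⟨k, c, d, e, ?_⟩
    have h1 := congrArg P.θ e'
    simp only [map_mul, θθ, map_one] at h1
    have : P.θ k ≠ 0 := by simp
    have := k.ne_zero
    grind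
  bruhat g := by
    obtain ⟨c, hc, _ | ⟨x, y⟩, e⟩ := P.exists_pt g none
    · obtain ⟨k, a, b, h⟩ := P.eq_DT g hc e
      exact Or.inl ⟨a, b, k, h⟩
    · obtain ⟨k, a, b, h, -⟩ := P.exists_W g hc e
      exact Or.inr ⟨x, y, k, a, b, h⟩
  rep := P.G0.subtype
  rep_inj := Subtype.val_injective
  rep_D k v h := by
    obtain ⟨l, hl⟩ := P.θ.surjective k
    have h1 : P.Dm l *ᵥ v = v := by rw [← P.θ.symm_apply_apply l, hl]; exact h
    refine or_iff_not_imp_left.2 fun hk => ?_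
    have h2 : l ≠ 1 := by rintro rfl; exact hk (Units.ext (by simpa using hl.symm))
    have h3 : P.θ l * l ≠ 1 := fun e => h2 (P.mul_θ_inj (by simpa [mul_comm] using e))
    ext i
    have := congrFun h1 i
    fin_cases i <;> simp [Dm, mulVec_diagonal, mul_eq_right₀, mul_left_eq_self₀, h2, h3] at this ⊢ <;>
      grind

lemma mk_mem {v : Fin 4 → F} (hv : v ≠ 0) :
    Projectivization.mk F v hv ∈ Cfsg.suzukiOvoid F P.m ↔ P.On v := by
  have e : ∀ x y : F, x * y + x ^ (2 ^ (P.m + 1) + 2) + y ^ (2 ^ (P.m + 1)) = P.f x y := fun x y => by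
    rw [f, θ_apply, θ_apply]; ring
  simp only [Cfsg.suzukiOvoid, Set.mem_setOf_eq, Projectivization.mk_eq_mk_iff', e]
  refine ⟨fun ⟨w, hw, ⟨c, hc⟩, h⟩ => ⟨c, by rintro rfl; simp [hv.symm] at hc, ?_⟩, ?_⟩
  · rcases h with rfl | ⟨x, y, rfl⟩
    exacts [⟨none, hc.symm⟩, ⟨some (x, y), hc.symm⟩]
  · rintro ⟨c, -, _ | ⟨x, y⟩, rfl⟩
    exacts [⟨_, P.pt_ne_zero none, ⟨c, rfl⟩, Or.inl rfl⟩,
      ⟨_, P.pt_ne_zero (some (x, y)), ⟨c, rfl⟩, Or.inr ⟨x, y, rfl⟩⟩]

lemma mem_Sz {g : SpecialLinearGroup (Fin 4) F} :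
    g ∈ Cfsg.Sz F P.m ↔ SpecialLinearGroup.toGL g ∈ P.G0 := by
  rw [MulAction.mem_stabilizer_set]
  refine ⟨fun h => P.mem_G0 g.2 fun o => ?_, fun h p => ?_⟩
  · exact (P.mk_mem _).1 ((h (Projectivization.mk F _ (P.pt_ne_zero o))).2 ((P.mk_mem _).2 (P.on_pt o)))
  · induction p using Projectivization.ind with
    | h v hv => rw [Projectivization.smul_mk, mk_mem, mk_mem]; exact h.2 v

/-- the ovoid stabiliser -/
def szEquiv : P.G0 ≃* Cfsg.Sz F P.m where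
  toFun g := ⟨⟨P.mat g, g.2.1⟩, P.mem_Sz.2 (by convert g.2; exact Units.ext rfl)⟩
  invFun g := ⟨_, P.mem_Sz.1 g.2⟩
  left_inv _ := P.mat_ext rfl
  right_inv _ := rfl
  map_mul' _ _ := rfl

/-- the ovoid stabiliser as an abstract Suzuki group -/
def sz : SzS P (Cfsg.Sz F P.m) := P.model.map P.szEquiv

/-- preserving the form -/
def Symp (M : Matrix (Fin 4) (Fin 4) F) : Prop := Mᵀ * Wm F * M = Wm F

omit [Fintype F] in
lemma mem_Sp4 {g : GL (Fin 4) F} : g ∈ Cfsg.Lie.Sp4 F ↔ Symp g.1 := by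
  have e : ∀ u v : Fin 4 → F, Cfsg.Lie.altForm4 u v = u ⬝ᵥ Wm F *ᵥ v := fun u v => by
    simp [Wm_mulVec, Cfsg.Lie.altForm4, dotProduct, Fin.sum_univ_four]
  have e' : ∀ u v : Fin 4 → F, g.1 *ᵥ u ⬝ᵥ Wm F *ᵥ g.1 *ᵥ v = u ⬝ᵥ (g.1ᵀ * Wm F * g.1) *ᵥ v := by
    intro u v
    rw [← mulVec_mulVec, ← mulVec_mulVec, dotProduct_mulVec u, vecMul_transpose]
  change (∀ u v, Cfsg.Lie.altForm4 (g.1 *ᵥ u) (g.1 *ᵥ v) = _) ↔ _
  simp only [e, e']
  refine ⟨fun h => ?_, fun h u v => by rw [h]⟩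
  ext i j
  simpa using h (Pi.single i 1) (Pi.single j 1)

omit [Fintype F] in
lemma star4_eq (g : Matrix (Fin 4) (Fin 4) F) : Cfsg.Lie.star4 g =
    !![g 0 0 * g 1 1 - g 1 0 * g 0 1, g 0 0 * g 1 2 - g 1 0 * g 0 2, g 0 1 * g 1 3 - g 1 1 * g 0 3,
        g 0 2 * g 1 3 - g 1 2 * g 0 3;
      g 0 0 * g 2 1 - g 2 0 * g 0 1, g 0 0 * g 2 2 - g 2 0 * g 0 2, g 0 1 * g 2 3 - g 2 1 * g 0 3,
        g 0 2 * g 2 3 - g 2 2 * g 0 3;
      g 1 0 * g 3 1 - g 3 0 * g 1 1, g 1 0 * g 3 2 - g 3 0 * g 1 2, g 1 1 * g 3 3 - g 3 1 * g 1 3,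
        g 1 2 * g 3 3 - g 3 2 * g 1 3;
      g 2 0 * g 3 1 - g 3 0 * g 2 1, g 2 0 * g 3 2 - g 3 0 * g 2 2, g 2 1 * g 3 3 - g 3 1 * g 2 3,
        g 2 2 * g 3 3 - g 3 2 * g 2 3] := by
  ext i j
  fin_cases i <;> fin_cases j <;> rfl

omit [Fintype F] in
lemma Symp.col {M : Matrix (Fin 4) (Fin 4) F} (h : Symp M) (i j : Fin 4) :
    M 0 i * M 3 j + M 1 i * M 2 j + M 2 i * M 1 j + M 3 i * M 0 j = Wm F i j := by
  rw [← congrFun₂ h i j]
  simp [Wm, mul_apply, Fin.sum_univ_four]; ring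

omit [Fintype F] in
lemma Symp.transpose {M : Matrix (Fin 4) (Fin 4) F} (h : Symp M) : Symp Mᵀ := by
  have : M * (Wm F * Mᵀ * Wm F) = 1 := mul_eq_one_comm.1 (by
    rw [mul_assoc, mul_assoc, ← mul_assoc Mᵀ, h, Wm_sq])
  rw [Symp, transpose_transpose, ← mul_one (_ * _), ← Wm_sq, ← mul_assoc, mul_assoc M, mul_assoc M,
    this, one_mul]

include P in
lemma star4_mul {g h : Matrix (Fin 4) (Fin 4) F} (hg : Symp g) (hh : Symp h) :
    Cfsg.Lie.star4 (g * h) = Cfsg.Lie.star4 g * Cfsg.Lie.star4 h := by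
  ext p r
  have h1 := hg.transpose.col (Cfsg.Lie.pairOf p).1 (Cfsg.Lie.pairOf p).2
  have h2 := hh.col (Cfsg.Lie.pairOf r).1 (Cfsg.Lie.pairOf r).2
  have h3 : ∀ p, Wm F (Cfsg.Lie.pairOf p).1 (Cfsg.Lie.pairOf p).2 = 0 := fun p => by
    fin_cases p <;> rfl
  have e0 : Cfsg.Lie.pairOf 0 = (0, 1) := rfl
  have e1 : Cfsg.Lie.pairOf 1 = (0, 2) := rfl
  have e2 : Cfsg.Lie.pairOf 2 = (1, 3) := rfl
  have e3 : Cfsg.Lie.pairOf 3 = (2, 3) := rfl
  simp only [h3, transpose_apply] at h1 h2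
  simp only [Cfsg.Lie.star4, mul_apply, of_apply, Fin.sum_univ_four, e0, e1, e2, e3]
  have := P.two
  grind

/-- the defining set -/
def LS : Submonoid (GL (Fin 4) F) where
  carrier := {g | Symp g.1 ∧ Cfsg.Lie.star4 g.1 = g.1.map P.θ}
  one_mem' := ⟨by simp [Symp], by
    rw [star4_eq]
    ext i j
    fin_cases i <;> fin_cases j <;> simp⟩
  mul_mem' {g h} hg hh := ⟨mem_Sp4.1 (mul_mem (mem_Sp4.2 hg.1) (mem_Sp4.2 hh.1)), by
    rw [Units.val_mul, Matrix.map_mul, ← hg.2, ← hh.2, P.star4_mul hg.1 hh.1]⟩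

lemma mem_LS (g : P.G0) : g.1 ∈ P.LS := by
  have := P.two
  have hT : ∀ a b, (P.T a b).1 ∈ P.LS := fun a b => by
    refine ⟨?_, (star4_eq _).trans ?_⟩ <;> ext i j <;> fin_cases i <;> fin_cases j <;>
      simp [show (P.T a b).1.1 = P.Tm a b from rfl, Tm, Wm, f, mul_apply, Fin.sum_univ_four] <;> grind
  have hW : P.W.1 ∈ P.LS := by
    refine ⟨?_, (star4_eq _).trans ?_⟩ <;> ext i j <;> fin_cases i <;> fin_cases j <;>
      simp [show P.W.1.1 = Wm F from rfl, Wm, mul_apply, Fin.sum_univ_four] <;> grind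
  have hD : ∀ k, (P.D k).1 ∈ P.LS := fun k => by
    obtain ⟨l, hl⟩ := P.θ.surjective k
    have h6 : l ≠ 0 := by rintro rfl; exact k.ne_zero (by simpa using hl.symm)
    have h7 : P.θ l ≠ 0 := by simpa
    have e : (P.D k).1.1 = P.Dm l := by rw [← P.θ.symm_apply_apply l, hl]; rfl
    refine ⟨?_, (star4_eq _).trans ?_⟩ <;> ext i j <;> fin_cases i <;> fin_cases j <;>
      simp [e, Dm, Wm] <;> field_simp
  obtain ⟨a, b, k, rfl⟩ | ⟨a, b, k, c, d, rfl⟩ := P.model.bruhat g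
  exacts [mul_mem (hT a b) (hD k), mul_mem (mul_mem (mul_mem (hT a b) (hD k)) hW) (hT c d)]

lemma on_of_LS {g : GL (Fin 4) F} (hg : g ∈ P.LS) : P.On (g.1 *ᵥ P.pt none) := by
  have h0 : g.1 *ᵥ P.pt none ≠ 0 := fun e => P.pt_ne_zero none
    (mulVec_injective_of_isUnit g.isUnit (by simpa using e))
  have e : g.1 *ᵥ P.pt none = ![g.1 0 0, g.1 1 0, g.1 2 0, g.1 3 0] := by
    ext i
    fin_cases i <;> simp [pt, mulVec, dotProduct, Fin.sum_univ_four]
  rw [e] at h0 ⊢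
  have := P.two
  have h1 := hg.1.col 0 1
  have h2 := (star4_eq _).symm.trans hg.2
  have a0 := congrFun₂ h2 0 0
  have a1 := congrFun₂ h2 1 0
  have a2 := congrFun₂ h2 2 0
  have a3 := congrFun₂ h2 3 0
  simp [Wm] at h1 a0 a1 a2 a3
  by_cases h3 : g.1 3 0 = 0
  · have h4 : g.1 2 0 = 0 := by simpa using (show g.1 2 0 * P.θ (g.1 2 0) = 0 by grind)
    have h5 : g.1 1 0 = 0 := by simpa using (show g.1 1 0 ^ 2 * P.θ (g.1 1 0) = 0 by grind)
    exact ⟨g.1 0 0, fun h => h0 (by simp [*]), none, by simp [pt, *]⟩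
  · have : P.θ (g.1 3 0) ≠ 0 := by simpa
    refine ⟨_, h3, some (g.1 2 0 / g.1 3 0, g.1 1 0 / g.1 3 0), ?_⟩
    ext i
    fin_cases i <;> simp [pt, f] <;> field_simp
    grind

theorem lie_eq : Cfsg.Lie.Sz F (2 ^ (P.m + 1)) = P.G0 := by
  have e : {g | g ∈ Cfsg.Lie.Sp4 F ∧ Cfsg.Lie.star4 (g : Matrix (Fin 4) (Fin 4) F) =
      (g : Matrix (Fin 4) (Fin 4) F).map (fun x => x ^ 2 ^ (P.m + 1))} = (P.G0 : Set _) := by
    ext g
    rw [Set.mem_setOf_eq, mem_Sp4, ← show ⇑P.θ = _ from funext P.θ_apply]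
    refine ⟨fun h => P.mem_G0 (P.det_eq_one ?_) fun o => ?_, fun h => P.mem_LS ⟨g, h⟩⟩
    · simpa [P.det_Wm] using congrArg det h.1
    · cases o with
      | none => exact P.on_of_LS h
      | some o =>
        have := P.on_of_LS (mul_mem h (P.mem_LS (P.T o.1 o.2 * P.W)))
        rwa [Units.val_mul, ← mulVec_mulVec, show (P.T o.1 o.2 * P.W).1.1 = P.Tm _ _ * Wm F from rfl,
          ← mulVec_mulVec, Wm_none, Tm_pt, add_zero, add_zero, mul_zero, add_zero] at this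
  rw [Cfsg.Lie.Sz, e, Subgroup.closure_eq]

/-- the twisted symplectic group as an abstract Suzuki group -/
def lie : SzS P (Cfsg.Lie.Sz F (2 ^ (P.m + 1))) := P.model.map (MulEquiv.subgroupCongr P.lie_eq.symm)

end Par

end H6.Suz
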