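import Cfsg.Agent.H6.Suz1
import Cfsg.Agent.H1.Basic

/-!
# Suzuki groups II: the subgroups `U`, `Z`, `H`, `B`, `N`, orders, simplicity, the doubly transitive action
-/

noncomputable section

namespace H6.Suz

open Pointwise MulAction
open scoped commutatorElement

variable {F : Type*} [Field F] [Fintype F] {P : Par F} {G : Type*} [Group G]

lemma Par.mul_θ_ne_one (P : Par F) {k : Fˣ} (hk : k ≠ 1) : k * P.θ k ≠ 1 := fun e =>
  hk (Units.ext (P.mul_θ_inj (by simpa using e)))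

lemma Par.card_units (P : Par F) : Nat.card Fˣ = 2 ^ (2 * P.m + 1) - 1 := by
  rw [Nat.card_units, Nat.card_eq_fintype_card, P.hF]

lemma Par.exists_sq (P : Par F) (x : F) : ∃ z, z ^ 2 = x :=
  Finite.injective_iff_surjective.1 (fun _ _ => P.sq_inj) x

lemma Par.f_zero (P : Par F) : P.f 0 0 = 0 := by simp [Par.f]

namespace SzS

variable (X : SzS P G)

include X in
lemma finite : Finite G := Finite.of_injective _ X.rep_inj

@[simp] lemma T_zero : X.T 0 0 = 1 := by simpa using X.T_mul 0 0 0 0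

lemma T_inv (a b : F) : (X.T a b)⁻¹ = X.T a (b + P.θ a * a) := by
  have := P.two
  rw [inv_eq_iff_mul_eq_one, X.T_mul, ← X.T_zero]
  congr 1 <;> grind

lemma T_eq_iff {a b c d : F} : X.T a b = X.T c d ↔ a = c ∧ b = d := by
  refine ⟨fun h => ?_, fun h => by rw [h.1, h.2]⟩
  have := X.T_inj _ _ ((X.T_mul _ _ _ _).symm.trans (X.T_inv a b ▸ inv_mul_eq_one.2 h))
  have := P.two
  grind

lemma T_eq_one {a b : F} : X.T a b = 1 ↔ a = 0 ∧ b = 0 := by rw [← X.T_zero, T_eq_iff]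

lemma T_sq (a b : F) : X.T a b * X.T a b = X.T 0 (a * P.θ a) := by
  have := P.two
  rw [X.T_mul]; congr 1 <;> grind

lemma T_comm (a b c d : F) :
    X.T a b * X.T c d * (X.T a b)⁻¹ * (X.T c d)⁻¹ = X.T 0 (P.θ a * c + P.θ c * a) := by
  have := P.two
  simp only [T_inv, X.T_mul, map_add]; congr 1 <;> grind

lemma T_conj (a b c d : F) :
    X.T a b * X.T c d * (X.T a b)⁻¹ = X.T c (d + P.θ a * c + P.θ c * a) := by
  have := P.two
  simp only [T_inv, X.T_mul, map_add]; congr 1 <;> grind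

lemma D_mul_T (k : Fˣ) (a b : F) : X.D k * X.T a b = X.T (k * a) (k * P.θ k * b) * X.D k := by
  rw [← X.D_T]; simp

@[simp] lemma W_inv : X.W⁻¹ = X.W := inv_eq_of_mul_eq_one_left X.W_sq

@[simp] lemma W_W (g : G) : X.W * (X.W * g) = g := by rw [← mul_assoc, X.W_sq, one_mul]

@[simp] lemma mul_W_W (g : G) : g * X.W * X.W = g := by rw [mul_assoc, X.W_sq, mul_one]

lemma W_mul_D (k : Fˣ) : X.W * X.D k = X.D k⁻¹ * X.W := by rw [← X.W_D]; simp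

/-- the Sylow `2`-subgroup -/
def U : Subgroup G where
  carrier := {g | ∃ a b, g = X.T a b}
  one_mem' := ⟨0, 0, X.T_zero.symm⟩
  mul_mem' := by rintro _ _ ⟨a, b, rfl⟩ ⟨c, d, rfl⟩; exact ⟨_, _, X.T_mul ..⟩
  inv_mem' := by rintro _ ⟨a, b, rfl⟩; exact ⟨_, _, X.T_inv ..⟩

/-- its centre -/
def Z : Subgroup G where
  carrier := {g | ∃ b, g = X.T 0 b}
  one_mem' := ⟨0, X.T_zero.symm⟩
  mul_mem' := by rintro _ _ ⟨b, rfl⟩ ⟨d, rfl⟩; exact ⟨b + d, by simp [X.T_mul]⟩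
  inv_mem' := by rintro _ ⟨b, rfl⟩; exact ⟨b, by simp [X.T_inv]⟩

/-- the split torus -/
def H : Subgroup G := X.D.range

/-- the Borel subgroup -/
def B : Subgroup G where
  carrier := {g | ∃ a b k, g = X.T a b * X.D k}
  one_mem' := ⟨0, 0, 1, by simp⟩
  mul_mem' := by
    rintro _ _ ⟨a, b, k, rfl⟩ ⟨c, d, l, rfl⟩
    exact ⟨_, _, k * l, by rw [mul_assoc, ← mul_assoc (X.D k), D_mul_T, ← mul_assoc, ← mul_assoc,
      X.T_mul, map_mul, mul_assoc]⟩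
  inv_mem' := by
    rintro _ ⟨a, b, k, rfl⟩
    exact ⟨_, _, k⁻¹, by rw [mul_inv_rev, ← map_inv, T_inv, D_mul_T]⟩

/-- the dihedral subgroup -/
def N : Subgroup G where
  carrier := {g | ∃ k, g = X.D k ∨ g = X.D k * X.W}
  one_mem' := ⟨1, Or.inl (map_one _).symm⟩
  mul_mem' := by
    rintro _ _ ⟨k, rfl | rfl⟩ ⟨l, rfl | rfl⟩
    · exact ⟨k * l, Or.inl (map_mul ..).symm⟩
    · exact ⟨k * l, Or.inr (by rw [map_mul, mul_assoc])⟩
    · exact ⟨k * l⁻¹, Or.inr (by rw [map_mul, mul_assoc, W_mul_D, mul_assoc])⟩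
    · exact ⟨k * l⁻¹, Or.inl (by rw [map_mul, mul_assoc, ← mul_assoc X.W, X.W_D])⟩
  inv_mem' := by
    rintro _ ⟨k, rfl | rfl⟩
    · exact ⟨k⁻¹, Or.inl (map_inv ..).symm⟩
    · exact ⟨k, Or.inr (by rw [mul_inv_rev, W_inv, ← map_inv, W_mul_D, inv_inv])⟩

lemma T_mem (a b : F) : X.T a b ∈ X.U := ⟨a, b, rfl⟩
lemma T_mem_Z (b : F) : X.T 0 b ∈ X.Z := ⟨b, rfl⟩
lemma D_mem (k : Fˣ) : X.D k ∈ X.H := ⟨k, rfl⟩
lemma W_mem : X.W ∈ X.N := ⟨1, Or.inr (by simp)⟩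
lemma Z_le_U : X.Z ≤ X.U := fun _ ⟨b, h⟩ => ⟨0, b, h⟩
lemma U_le_B : X.U ≤ X.B := fun _ ⟨a, b, h⟩ => ⟨a, b, 1, by simpa using h⟩
lemma H_le_B : X.H ≤ X.B := fun _ ⟨k, h⟩ => ⟨0, 0, k, by simpa using h.symm⟩
lemma H_le_N : X.H ≤ X.N := fun _ ⟨k, h⟩ => ⟨k, Or.inl h.symm⟩
lemma T_mem_B (a b : F) : X.T a b ∈ X.B := X.U_le_B (X.T_mem a b)
lemma D_mem_B (k : Fˣ) : X.D k ∈ X.B := X.H_le_B (X.D_mem k)
lemma W_not_mem : X.W ∉ X.B := fun ⟨a, b, k, h⟩ => X.W_ne a b k h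

variable {X}

lemma eq_one_of_D_mem {k : Fˣ} (h : X.D k ∈ X.U) : k = 1 := by
  obtain ⟨a, b, h⟩ := h
  have := X.D_T k 1 0
  rw [h, T_conj, T_eq_iff] at this
  exact Units.ext (by simpa using this.1.symm)

lemma D_inj : Function.Injective X.D := (injective_iff_map_eq_one _).2 fun _ h =>
  eq_one_of_D_mem (h ▸ one_mem _)

lemma TD_inj {a b c d : F} {k l : Fˣ} (h : X.T a b * X.D k = X.T c d * X.D l) :
    a = c ∧ b = d ∧ k = l := by
  have : X.D (k * l⁻¹) = (X.T a b)⁻¹ * X.T c d := by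
    rw [map_mul, map_inv, eq_inv_mul_iff_mul_eq, ← mul_assoc, h]; simp
  obtain rfl := mul_inv_eq_one.1 (eq_one_of_D_mem (this ▸ mul_mem (inv_mem (X.T_mem ..)) (X.T_mem ..)))
  exact ⟨(X.T_eq_iff.1 (mul_right_cancel h)).1, (X.T_eq_iff.1 (mul_right_cancel h)).2, rfl⟩

lemma not_mem_B {b b' : G} (hb : b ∈ X.B) (hb' : b' ∈ X.B) : b * X.W * b' ∉ X.B := fun h =>
  X.W_not_mem ((X.B.mul_mem_cancel_left hb).1 ((X.B.mul_mem_cancel_right hb').1 h))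

lemma eq_one_of_W {u : G} (hu : u ∈ X.U) (h : X.W * u * X.W ∈ X.B) : u = 1 := by
  obtain ⟨a, b, rfl⟩ := hu
  by_cases h0 : P.f a b = 0
  · exact X.T_eq_one.2 (P.f_eq_zero h0)
  obtain ⟨k, c, d, e, -⟩ := X.rel a b h0
  exact absurd (e ▸ h) (not_mem_B (mul_mem (X.T_mem_B ..) (X.D_mem_B k)) (X.T_mem_B ..))

lemma conj_mem_U {b u : G} (hb : b ∈ X.B) (hu : u ∈ X.U) : b * u * b⁻¹ ∈ X.U := by
  obtain ⟨a, b, k, rfl⟩ := hb
  obtain ⟨c, d, rfl⟩ := hu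
  have := mul_mem (mul_mem (X.T_mem a b) (X.D_T k c d ▸ X.T_mem _ _)) (inv_mem (X.T_mem a b))
  simpa [mul_assoc] using this

lemma conj_mem_Z {b u : G} (hb : b ∈ X.B) (hu : u ∈ X.Z) : b * u * b⁻¹ ∈ X.Z := by
  obtain ⟨a, b, k, rfl⟩ := hb
  obtain ⟨d, rfl⟩ := hu
  rw [show ∀ a b c : G, a * b * c * (a * b)⁻¹ = a * (b * c * b⁻¹) * a⁻¹ by intros; group, X.D_T,
    T_conj, mul_zero]
  exact X.T_mem_Z _

lemma bruhat' (g : G) : g ∈ X.B ∨ ∃ b ∈ X.B, ∃ u ∈ X.U, g = b * X.W * u :=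
  (X.bruhat g).imp id fun ⟨a, b, k, c, d, h⟩ => ⟨_, ⟨a, b, k, rfl⟩, _, X.T_mem c d, h⟩

lemma bruhat_unique {b b' u u' : G} (hb : b ∈ X.B) (hb' : b' ∈ X.B) (hu : u ∈ X.U) (hu' : u' ∈ X.U)
    (h : b * X.W * u = b' * X.W * u') : b = b' ∧ u = u' := by
  have : X.W * (u * u'⁻¹) * X.W = b⁻¹ * b' := by
    rw [eq_inv_mul_iff_mul_eq, ← mul_assoc, ← mul_assoc, ← mul_assoc, h]; simp
  obtain rfl := mul_inv_eq_one.1 (eq_one_of_W (mul_mem hu (inv_mem hu')) (this ▸ mul_mem (inv_mem hb) hb'))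
  exact ⟨by simpa using h, rfl⟩

theorem mem_B_of_conj {t x : G} (ht : t ∈ X.U) (h1 : t ≠ 1) (h : x * t * x⁻¹ ∈ X.B) : x ∈ X.B := by
  refine (X.bruhat' x).resolve_right ?_
  rintro ⟨b, hb, u, hu, rfl⟩
  have := mul_mem (mul_mem (inv_mem hb) h) hb
  exact h1 (by simpa using eq_one_of_W (conj_mem_U (X.U_le_B hu) ht) (by simpa [mul_assoc] using this))

lemma mem_H_of_W {g : G} (hg : g ∈ X.B) (h : X.W * g * X.W ∈ X.B) : g ∈ X.H := by
  obtain ⟨a, b, k, rfl⟩ := hg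
  have := eq_one_of_W (X.T_mem a b) (by
    have := mul_mem h (X.D_mem_B k)
    rwa [mul_assoc, W_mul_D, show ∀ a b c d e : G, a * (b * c) * (d * e) = a * b * (c * d) * e by
      intros; group, ← map_mul, mul_inv_cancel, map_one, mul_one] at this)
  rw [this, one_mul]; exact X.D_mem k

lemma eq_one_of_comm {u : G} (hu : u ∈ X.U) {k : Fˣ} (hk : k ≠ 1) (h : X.D k * u = u * X.D k) :
    u = 1 := by
  obtain ⟨a, b, rfl⟩ := hu
  rw [D_mul_T, mul_left_inj, T_eq_iff, mul_left_eq_self₀, mul_left_eq_self₀] at h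
  exact X.T_eq_one.2 ⟨h.1.resolve_left (by simpa), h.2.resolve_left (P.mul_θ_ne_one hk)⟩

lemma mem_H_of_conj {b : G} (hb : b ∈ X.B) {k : Fˣ} (hk : k ≠ 1) (h : b * X.D k * b⁻¹ ∈ X.H) :
    b ∈ X.H := by
  obtain ⟨a, b, l, rfl⟩ := hb
  obtain ⟨j, hj⟩ := h
  have h1 : X.T 0 0 * X.D j * X.T a b = X.T a b * X.D k := by
    rw [T_zero, one_mul, hj, mul_assoc _ (X.D l), ← map_mul, mul_comm l, map_mul]; group
  have h2 := h1
  rw [mul_assoc, D_mul_T, ← mul_assoc, X.T_mul] at h2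
  obtain rfl := (TD_inj h2).2.2
  rw [eq_one_of_comm (X.T_mem a b) hk (by simpa using h1), one_mul]; exact X.D_mem l

theorem mem_N_of_conj {x : G} {k : Fˣ} (hk : k ≠ 1) (h : x * X.D k * x⁻¹ ∈ X.H) : x ∈ X.N := by
  rcases X.bruhat' x with hx | ⟨b, hb, u, hu, rfl⟩
  · exact X.H_le_N (mem_H_of_conj hx hk h)
  have h1 := mul_mem (mul_mem (inv_mem hb) (X.H_le_B h)) hb
  have h2 := mem_H_of_conj (X.U_le_B hu) hk (mem_H_of_W (mul_mem (mul_mem (X.U_le_B hu) (X.D_mem_B k))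
    (inv_mem (X.U_le_B hu))) (by simpa [mul_assoc] using h1))
  obtain ⟨l, rfl⟩ := h2
  rw [eq_one_of_D_mem hu, map_one, mul_one] at h ⊢
  exact mul_mem (X.H_le_N (mem_H_of_conj hb (inv_ne_one.2 hk) (by
    rw [← X.W_D]; simpa [mul_assoc] using h))) X.W_mem

lemma conj_D {x : G} (hx : x ∈ X.N) (k : Fˣ) :
    x ∈ X.H ∧ x * X.D k * x⁻¹ = X.D k ∨ x ∉ X.B ∧ x * x = 1 ∧ x * X.D k * x⁻¹ = X.D k⁻¹ := by
  obtain ⟨l, rfl | rfl⟩ := hx
  · exact Or.inl ⟨X.D_mem l, by rw [← map_mul, mul_comm, map_mul]; simp⟩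
  · refine Or.inr ⟨by simpa using not_mem_B (X.D_mem_B l) (one_mem _), ?_, ?_⟩
    · rw [mul_assoc, ← mul_assoc X.W, X.W_D, ← map_mul]; simp
    · rw [mul_assoc (X.D l), W_mul_D, mul_inv_rev, W_inv, ← map_inv, ← mul_assoc, ← mul_assoc,
        mul_W_W, ← map_mul, ← map_mul, mul_inv_cancel_comm]

lemma conj_mem_H {x h : G} (hx : x ∈ X.N) (hh : h ∈ X.H) : x * h * x⁻¹ ∈ X.H := by
  obtain ⟨k, rfl⟩ := hh
  rcases conj_D hx k with h | h
  exacts [h.2.symm ▸ X.D_mem _, h.2.2.symm ▸ X.D_mem _]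

include P in
lemma _root_.H6.Suz.Par.inv_ne {k : Fˣ} (hk : k ≠ 1) : k⁻¹ ≠ k := fun e =>
  hk (Units.ext (P.sq_inj (by
    have := congrArg Units.val (mul_eq_one_iff_inv_eq.2 e)
    simpa [sq] using this)))

theorem mem_H_of_comm {x : G} {k : Fˣ} (hk : k ≠ 1) (h : x * X.D k = X.D k * x) : x ∈ X.H := by
  have h' : x * X.D k * x⁻¹ = X.D k := by rw [h]; simp
  rcases conj_D (mem_N_of_conj hk (h'.symm ▸ X.D_mem k)) k with e | e
  exacts [e.1, absurd (D_inj (e.2.2.symm.trans h')) (P.inv_ne hk)]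

lemma exists_conj_D {k : Fˣ} (hk : k ≠ 1) (a b : F) :
    ∃ v ∈ X.U, v * (X.T a b * X.D k) * v⁻¹ = X.D k := by
  have h1 : 1 + (k : F) ≠ 0 := fun e => hk (Units.ext (show (k : F) = 1 by have := P.two; grind))
  have h2 : 1 + (k : F) * P.θ k ≠ 0 := fun e => P.mul_θ_ne_one hk (by have := P.two; grind)
  obtain ⟨c, rfl⟩ : ∃ c, a = (1 + k) * c := ⟨a / (1 + k), by field_simp⟩
  obtain ⟨d, hd⟩ : ∃ d, (1 + k * P.θ k) * d = b + P.θ c * ((1 + k) * c) :=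
    ⟨_, mul_div_cancel₀ _ h2⟩
  refine ⟨_, X.T_mem c d, ?_⟩
  rw [mul_inv_eq_iff_eq_mul, D_mul_T, ← mul_assoc, X.T_mul]
  have := P.two
  congr 2 <;> grind

lemma mem_U_or {g : G} (hg : g ∈ X.B) : g ∈ X.U ∨ ∃ v ∈ X.U, ∃ k ≠ 1, v * g * v⁻¹ = X.D k := by
  obtain ⟨a, b, k, rfl⟩ := hg
  by_cases hk : k = 1
  · exact Or.inl ⟨a, b, by simp [hk]⟩
  · obtain ⟨v, hv, e⟩ := X.exists_conj_D hk a b
    exact Or.inr ⟨v, hv, k, hk, e⟩

lemma pow_four {u : G} (hu : u ∈ X.U) : u ^ 4 = 1 := by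
  obtain ⟨a, b, rfl⟩ := hu
  rw [show 4 = 2 * 2 from rfl, pow_mul, sq, sq, T_sq, T_sq]; simp

lemma sq_of_mem_Z {u : G} (hu : u ∈ X.Z) : u * u = 1 := by
  obtain ⟨b, rfl⟩ := hu
  rw [T_sq]; simp

lemma mem_Z_of_sq {u : G} (hu : u ∈ X.U) (h : u * u = 1) : u ∈ X.Z := by
  obtain ⟨a, b, rfl⟩ := hu
  rw [T_sq, T_eq_one] at h
  obtain rfl : a = 0 := by simpa using h.2
  exact X.T_mem_Z b

lemma comm_of_mem_Z {z u : G} (hz : z ∈ X.Z) (hu : u ∈ X.U) : u * z = z * u := by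
  obtain ⟨b, rfl⟩ := hz
  obtain ⟨c, d, rfl⟩ := hu
  simp [X.T_mul, add_comm]

lemma pow_card_H {h : G} (hh : h ∈ X.H) : h ^ (2 ^ (2 * P.m + 1) - 1) = 1 := by
  obtain ⟨k, rfl⟩ := hh
  rw [← map_pow, ← P.card_units, pow_card_eq_one', map_one]

lemma mem_U_of_pow {g : G} (hg : g ∈ X.B) {n : ℕ} (h : g ^ 2 ^ n = 1) : g ∈ X.U := by
  refine (mem_U_or hg).resolve_right fun ⟨v, _, k, hk, e⟩ => hk ?_
  have : k ^ 2 ^ n = 1 := D_inj (X := X) (by rw [map_pow, ← e, conj_pow, h]; simp)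
  have _ := P.charP
  exact Units.ext (iterateFrobenius_inj F 2 n (by
    simpa [iterateFrobenius_def] using congrArg Units.val this))

variable (X)

lemma card_U : Nat.card X.U = (2 ^ (2 * P.m + 1)) ^ 2 := by
  rw [← P.hF, ← Nat.card_eq_fintype_card, sq, ← Nat.card_prod]
  exact (Nat.card_eq_of_bijective (fun p : F × F => (⟨_, X.T_mem p.1 p.2⟩ : X.U))
    ⟨fun _ _ e => Prod.ext_iff.2 (X.T_eq_iff.1 (congrArg Subtype.val e)),
      fun ⟨_, a, b, h⟩ => ⟨(a, b), Subtype.ext h.symm⟩⟩).symm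

lemma card_Z : Nat.card X.Z = 2 ^ (2 * P.m + 1) := by
  rw [← P.hF, ← Nat.card_eq_fintype_card]
  exact (Nat.card_eq_of_bijective (fun b : F => (⟨_, X.T_mem_Z b⟩ : X.Z))
    ⟨fun _ _ e => (X.T_eq_iff.1 (congrArg Subtype.val e)).2,
      fun ⟨_, b, h⟩ => ⟨b, Subtype.ext h.symm⟩⟩).symm

/-- the torus is the multiplicative group -/
def HEquiv : Fˣ ≃* X.H := MonoidHom.ofInjective D_inj

lemma card_H : Nat.card X.H = 2 ^ (2 * P.m + 1) - 1 := by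
  rw [← P.card_units, Nat.card_congr X.HEquiv.toEquiv]

lemma isCyclic_H : IsCyclic X.H := isCyclic_of_surjective _ X.HEquiv.surjective

lemma card_B : Nat.card X.B = (2 ^ (2 * P.m + 1)) ^ 2 * (2 ^ (2 * P.m + 1) - 1) := by
  rw [← P.card_units, ← P.hF, ← Nat.card_eq_fintype_card, sq, ← Nat.card_prod, ← Nat.card_prod]
  exact (Nat.card_eq_of_bijective (fun p : (F × F) × Fˣ => (⟨_, p.1.1, p.1.2, p.2, rfl⟩ : X.B))
    ⟨fun _ _ e => by
      have := TD_inj (congrArg Subtype.val e)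
      exact Prod.ext (Prod.ext this.1 this.2.1) this.2.2,
      fun ⟨_, a, b, k, h⟩ => ⟨((a, b), k), Subtype.ext h.symm⟩⟩).symm

lemma card_N : Nat.card X.N = 2 * (2 ^ (2 * P.m + 1) - 1) := by
  rw [← P.card_units, two_mul, ← Nat.card_sum]
  refine (Nat.card_eq_of_bijective (Sum.elim (fun k => (⟨_, k, Or.inl rfl⟩ : X.N))
    fun k => ⟨_, k, Or.inr rfl⟩) ⟨?_, ?_⟩).symm
  · have h : ∀ k l, X.D k ≠ X.D l * X.W := fun k l e =>
      not_mem_B (X.D_mem_B l) (one_mem _) (by simpa [← e] using X.D_mem_B k)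
    rintro (k | k) (l | l) e <;> have := congrArg Subtype.val e
    exacts [congrArg _ (D_inj this), absurd this (h _ _), absurd this.symm (h _ _),
      congrArg _ (D_inj (mul_right_cancel this))]
  · rintro ⟨_, k, rfl | rfl⟩
    exacts [⟨.inl k, rfl⟩, ⟨.inr k, rfl⟩]

/-- a point of a doubly transitive action -/
structure Pt {Ω : Type*} [MulAction G Ω] (ω : Ω) : Prop where
  stab : ∀ g : G, g • ω = ω ↔ g ∈ X.B
  trans : ∀ x, ∃ g : G, g • ω = x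

lemma pt_quot : X.Pt (QuotientGroup.mk 1 : G ⧸ X.B) :=
  ⟨fun g => by rw [Quotient.smul_mk, QuotientGroup.eq]; simp,
    fun x => by obtain ⟨g, rfl⟩ := QuotientGroup.mk_surjective x; exact ⟨g, by simp⟩⟩

namespace Pt

variable {X} {Ω : Type*} [MulAction G Ω] {ω : Ω} (h : X.Pt ω)
include h

lemma exists_eq (x : Ω) : x = ω ∨ ∃ u ∈ X.U, x = u • X.W • ω := by
  obtain ⟨g, rfl⟩ := h.trans x
  rcases X.bruhat g with hg | ⟨a, b, k, c, d, rfl⟩
  · exact Or.inl ((h.stab g).2 hg)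
  · refine Or.inr ⟨_, X.T_mem a b, ?_⟩
    rw [mul_smul, (h.stab _).2 (X.T_mem_B c d), mul_assoc, ← inv_inv k, ← W_mul_D, mul_smul, mul_smul,
      (h.stab _).2 (X.D_mem_B _)]

lemma ne {b : G} (hb : b ∈ X.B) : b • X.W • ω ≠ ω := fun e =>
  not_mem_B hb (one_mem _) ((h.stab _).1 (by simpa [mul_smul] using e))

lemma stab_W {g : G} : g • X.W • ω = X.W • ω ↔ X.W * g * X.W ∈ X.B := by
  rw [← h.stab, mul_smul, mul_smul, smul_eq_iff_eq_inv_smul X.W, W_inv]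

lemma inj {u v : G} (hu : u ∈ X.U) (hv : v ∈ X.U) (e : u • X.W • ω = v • X.W • ω) : u = v :=
  (inv_mul_eq_one.1 (eq_one_of_W (mul_mem (inv_mem hv) hu) (h.stab_W.1 (by
    rw [mul_smul, e, inv_smul_smul])))).symm

lemma card : Nat.card Ω = (2 ^ (2 * P.m + 1)) ^ 2 + 1 := by
  have := X.finite
  rw [← X.card_U, ← Finite.card_option]
  refine (Nat.card_eq_of_bijective (fun o : Option X.U => o.elim ω fun u => u.1 • X.W • ω)
    ⟨?_, fun x => ?_⟩).symm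
  · rintro (_ | u) (_ | v) e
    exacts [rfl, absurd e.symm (h.ne (X.U_le_B v.2)), absurd e (h.ne (X.U_le_B u.2)),
      congrArg _ (Subtype.ext (h.inj u.2 v.2 e))]
  · obtain rfl | ⟨u, hu, rfl⟩ := h.exists_eq x
    exacts [⟨none, rfl⟩, ⟨some ⟨u, hu⟩, rfl⟩]

lemma exists_pair {a b : Ω} (hab : a ≠ b) : ∃ g : G, g • ω = a ∧ g • X.W • ω = b := by
  obtain ⟨g, rfl⟩ := h.trans a
  obtain e | ⟨u, hu, e⟩ := h.exists_eq (g⁻¹ • b)
  · exact absurd (by rw [← e]; simp) hab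
  · exact ⟨g * u, by rw [mul_smul, (h.stab u).2 (X.U_le_B hu)], by rw [mul_smul, ← e]; simp⟩

lemma two_trans : IsMultiplyPretransitive G Ω 2 :=
  is_two_pretransitive_iff.2 fun hab hcd => by
    obtain ⟨g, rfl, rfl⟩ := h.exists_pair hab
    obtain ⟨g', rfl, rfl⟩ := h.exists_pair hcd
    exact ⟨g' * g⁻¹, by simp [mul_smul], by simp [mul_smul]⟩

lemma mem_H {g : G} : g • ω = ω ∧ g • X.W • ω = X.W • ω ↔ g ∈ X.H :=
  ⟨fun e => mem_H_of_W ((h.stab g).1 e.1) (h.stab_W.1 e.2), fun ⟨k, e⟩ =>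
    e ▸ ⟨(h.stab _).2 (X.D_mem_B k), h.stab_W.2 (X.W_D k ▸ X.D_mem_B _)⟩⟩

lemma three (g : G) (a b c : Ω) (hab : a ≠ b) (hbc : b ≠ c) (hac : a ≠ c) (ha : g • a = a)
    (hb : g • b = b) (hc : g • c = c) : g = 1 := by
  obtain ⟨x, rfl, rfl⟩ := h.exists_pair hab
  obtain ⟨k, hk⟩ := (h.mem_H (g := x⁻¹ * g * x)).1 (by simp [mul_smul, ha, hb])
  obtain e | ⟨u, hu, e⟩ := h.exists_eq (x⁻¹ • c)
  · exact absurd (by rw [← e]; simp) hac
  have h1 : X.D k • u • X.W • ω = u • X.W • ω := by rw [← e, hk]; simp [mul_smul, hc]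
  have h2 := h.inj (conj_mem_U (X.D_mem_B k) hu) hu (by
    rw [mul_smul, mul_smul, (h.mem_H.2 (inv_mem (X.D_mem k))).2, h1])
  by_cases h3 : k = 1
  · rw [h3, map_one, eq_comm, mul_assoc, inv_mul_eq_one] at hk; simpa using hk
  · rw [eq_one_of_comm hu h3 (mul_inv_eq_iff_eq_mul.1 h2), one_smul] at e
    exact absurd (by rw [← e]; simp) hbc

end Pt

lemma index_B : X.B.index = (2 ^ (2 * P.m + 1)) ^ 2 + 1 := X.pt_quot.card

include X in
theorem card_eq : Nat.card G =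
    (2 ^ (2 * P.m + 1)) ^ 2 * (2 ^ (2 * P.m + 1) - 1) * ((2 ^ (2 * P.m + 1)) ^ 2 + 1) := by
  rw [← X.B.card_mul_index, card_B, index_B]

lemma _root_.H6.Suz.Par.exists_unit_ne (P : Par F) : ∃ k : Fˣ, k ≠ 1 := by
  obtain ⟨y, h0, h1⟩ := P.exists_ne
  exact ⟨Units.mk0 y h0, fun e => h1 (congrArg Units.val e)⟩

lemma isPGroup_U : IsPGroup 2 X.U := IsPGroup.of_card (by rw [card_U, ← pow_mul])

/-- `U` as a Sylow subgroup -/
def sylow : Sylow 2 G where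
  toSubgroup := X.U
  isPGroup' := X.isPGroup_U
  is_maximal' {Q} hQ hle := by
    have := X.finite
    have := hQ.isNilpotent
    by_contra hne
    obtain ⟨g, hg, hg'⟩ := SetLike.exists_of_lt (normalizerCondition_of_isNilpotent
      (X.U.subgroupOf Q) (lt_top_iff_ne_top.2 fun e => hne
        (le_antisymm (Subgroup.subgroupOf_eq_top.1 e) hle)))
    obtain ⟨n, hn⟩ := hQ g
    exact hg' (mem_U_of_pow (mem_B_of_conj (X.T_mem 0 1) (by simp [T_eq_one])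
      (X.U_le_B ((hg ⟨_, hle (X.T_mem 0 1)⟩).1 (X.T_mem 0 1)))) (congrArg Subtype.val hn))

lemma exists_sylow (S : Sylow 2 G) : ∃ g : G, (S : Subgroup G) = MulAut.conj g • X.U := by
  have := X.finite
  obtain ⟨g, rfl⟩ := exists_smul_eq G X.sylow S
  exact ⟨g, rfl⟩

lemma exists_le_U {Q : Subgroup G} (hQ : IsPGroup 2 Q) : ∃ g : G, ∀ x ∈ Q, g * x * g⁻¹ ∈ X.U := by
  obtain ⟨S, hS⟩ := hQ.exists_le_sylow
  obtain ⟨g, e⟩ := X.exists_sylow S
  exact ⟨g⁻¹, fun x hx => by simpa using H1.mem_conj_smul.1 (e ▸ hS hx)⟩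

lemma normalizer_eq {K L : Subgroup G} (h1 : ∀ x ∈ L, ∀ u ∈ K, x * u * x⁻¹ ∈ K)
    (h2 : ∀ x, (∀ u ∈ K, x * u * x⁻¹ ∈ K) → x ∈ L) : Subgroup.normalizer (K : Set G) = L :=
  le_antisymm (fun x hx => h2 x fun u hu => (hx u).1 hu) fun x hx u =>
    ⟨h1 x hx u, fun h => by simpa [mul_assoc] using h1 _ (inv_mem hx) _ h⟩

lemma normalizer_U : Subgroup.normalizer (X.U : Set G) = X.B :=
  normalizer_eq (fun _ hx _ => conj_mem_U hx) fun _ h =>
    mem_B_of_conj (X.T_mem 0 1) (by simp [T_eq_one]) (X.U_le_B (h _ (X.T_mem 0 1)))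

lemma normalizer_Z : Subgroup.normalizer (X.Z : Set G) = X.B :=
  normalizer_eq (fun _ hx _ => conj_mem_Z hx) fun _ h =>
    mem_B_of_conj (X.T_mem 0 1) (by simp [T_eq_one]) (X.U_le_B (X.Z_le_U (h _ (X.T_mem_Z 1))))

lemma normalizer_H : Subgroup.normalizer (X.H : Set G) = X.N :=
  normalizer_eq (fun _ hx _ => conj_mem_H hx) fun _ h => by
    obtain ⟨k, hk⟩ := P.exists_unit_ne
    exact mem_N_of_conj hk (h _ (X.D_mem k))

variable {X} in
lemma eq_top {K : Subgroup G} (h1 : X.B ≤ K) {g : G} (h2 : g ∈ K) (h3 : g ∉ X.B) : K = ⊤ := by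
  obtain ⟨b, hb, u, hu, rfl⟩ := (X.bruhat' g).resolve_left h3
  have hW := (K.mul_mem_cancel_left (h1 hb)).1 ((K.mul_mem_cancel_right (h1 (X.U_le_B hu))).1 h2)
  refine eq_top_iff.2 fun g _ => (X.bruhat' g).elim (fun h => h1 h) ?_
  rintro ⟨b, hb, u, hu, rfl⟩
  exact mul_mem (mul_mem (h1 hb) hW) (h1 (X.U_le_B hu))

lemma isCoatom_B : IsCoatom X.B :=
  ⟨fun e => X.W_not_mem (e ▸ trivial), fun _ h =>
    let ⟨_, h1, h2⟩ := SetLike.exists_of_lt h; eq_top h.le h1 h2⟩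

/-- a subgroup containing `U` and an element outside `B` -/
lemma eq_top_of_U {K : Subgroup G} (h1 : X.U ≤ K) {g : G} (h2 : g ∈ K) (h3 : g ∉ X.B) : K = ⊤ := by
  obtain ⟨a, b, k, c, d, rfl⟩ := (X.bruhat g).resolve_left h3
  have hW : X.D k * X.W ∈ K := by
    simpa [mul_assoc] using mul_mem (mul_mem (inv_mem (h1 (X.T_mem a b))) h2) (inv_mem (h1 (X.T_mem c d)))
  have key : ∀ y : F, y ≠ 0 → ∀ l : Fˣ, l * y ^ 2 = P.θ y → X.D l * X.W ∈ K := fun y hy l hl => by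
    obtain ⟨b, rfl⟩ := P.θ.surjective y
    obtain ⟨l', c, d, e, e'⟩ := X.rel 0 b (by simpa [Par.f] using hy)
    obtain rfl : l = l' := Units.ext (mul_right_cancel₀ (pow_ne_zero 2 hy)
      (by simpa [Par.f, hl] using e'.symm))
    have := mul_mem (mul_mem (inv_mem hW) (h1 (conj_mem_U (X.D_mem_B k) (X.T_mem 0 b)))) hW
    rw [show _ * _ * _ = X.W * X.T 0 b * X.W by simp [mul_assoc], e] at this
    rw [K.mul_mem_cancel_right (h1 (X.T_mem c d)), mul_assoc] at this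
    exact (K.mul_mem_cancel_left (h1 (X.T_mem _ _))).1 this
  have k2 : ∀ l : Fˣ, X.D l * X.W ∈ K := fun l => by
    obtain ⟨x, hx⟩ := P.exists_sq (l⁻¹ : Fˣ)
    have h0 : x ≠ 0 := by rintro rfl; exact (l⁻¹).ne_zero (by simpa using hx.symm)
    have h4 : l * x ^ 2 = 1 := by rw [hx]; simp
    refine key (x ^ 2 * P.θ x) (by simpa) l ?_
    simp only [map_mul, map_pow, Par.θθ]
    grind
  refine eq_top ?_ h2 h3
  rintro _ ⟨a, b, l, rfl⟩
  exact mul_mem (h1 (X.T_mem a b)) (by simpa using mul_mem (k2 l) (k2 1))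

lemma B_le_commutator : X.B ≤ commutator G := by
  obtain ⟨k, hk⟩ := P.exists_unit_ne
  rintro _ ⟨a, b, l, rfl⟩
  refine mul_mem ?_ ?_
  · obtain ⟨v, -, e⟩ := X.exists_conj_D hk a b
    rw [show X.T a b = ⁅v⁻¹, X.D k⁆ by rw [commutatorElement_def]; nth_rw 1 [← e]; group]
    exact Subgroup.commutator_mem_commutator trivial trivial
  · obtain ⟨j, rfl⟩ : ∃ j, l = j * j := ⟨Units.map (P.θ.symm.trans P.θ.symm).toMonoidHom l, by
      ext; simp [← sq, P.symm_sq]⟩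
    rw [show X.D (j * j) = ⁅X.D j, X.W⁆ by
      rw [commutatorElement_def, W_inv, mul_assoc, mul_assoc, ← mul_assoc X.W, ← map_inv, X.W_D]; simp]
    exact Subgroup.commutator_mem_commutator trivial trivial

include X

theorem perfect : commutator G = ⊤ :=
  eq_top X.B_le_commutator ((inferInstance : (commutator G).Normal).conj_mem _
    (X.B_le_commutator (X.T_mem_B 0 1)) X.W) fun h => by
    simpa [T_eq_one] using eq_one_of_W (X.T_mem 0 1) (by simpa using h)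

lemma nontrivial : Nontrivial G := ⟨_, _, show X.T 0 1 ≠ 1 by simp [T_eq_one]⟩

theorem simple : IsSimpleGroup G := by
  have := X.nontrivial
  refine ⟨fun K hK => or_iff_not_imp_left.2 fun h0 => ?_⟩
  obtain ⟨⟨g, hg⟩, h1⟩ := Subgroup.ne_bot_iff_exists_ne_one.1 h0
  have h1 : g ≠ 1 := fun e => h1 (Subtype.ext e)
  obtain ⟨g, hg, hB⟩ : ∃ g ∈ K, g ∉ X.B := by
    by_contra! h
    rcases mem_U_or (h g hg) with hu | ⟨v, -, k, hk, e⟩
    · exact X.W_not_mem (mem_B_of_conj hu h1 (h _ (hK.conj_mem g hg _)))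
    · have h2 : X.D k ∈ K := e ▸ hK.conj_mem g hg v
      have h3 := h _ (hK.conj_mem _ (mul_mem (hK.conj_mem _ h2 (X.T 0 1)) (inv_mem h2)) X.W)
      have h4 := eq_one_of_W (u := X.T 0 1 * X.D k * (X.T 0 1)⁻¹ * (X.D k)⁻¹) (by
        simpa [mul_assoc] using mul_mem (X.T_mem 0 1)
          (conj_mem_U (X.D_mem_B k) (inv_mem (X.T_mem 0 1)))) (by simpa using h3)
      simpa [T_eq_one] using eq_one_of_comm (X.T_mem 0 1) hk
        (commutatorElement_eq_one_iff_mul_comm.1 h4).symm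
  -- `G = K U`, so `G / K` is a perfect `2`-group
  have h2 := X.eq_top_of_U (K := X.U ⊔ K) le_sup_left (Subgroup.mem_sup_right hg) hB
  have := X.finite
  have := X.isPGroup_U.isNilpotent
  have h3 : Group.IsSolvable (G ⧸ K) :=
    Group.isSolvable_of_surjective (f := (QuotientGroup.mk' K).comp X.U.subtype) fun x => by
      obtain ⟨g, rfl⟩ := QuotientGroup.mk_surjective x
      obtain ⟨u, hu, k, hk, rfl⟩ := Subgroup.mem_sup_of_normal_right.1 (h2 ▸ Subgroup.mem_top g)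
      exact ⟨⟨u, hu⟩, by simp [(QuotientGroup.eq_one_iff k).2 hk]⟩
  by_contra h4
  have := QuotientGroup.nontrivial_iff.2 h4
  refine (Group.IsSolvable.commutator_lt_top_of_nontrivial (G ⧸ K)).ne ?_
  have := map_commutator_eq G (QuotientGroup.mk' K)
  rw [X.perfect, ← MonoidHom.range_eq_map, QuotientGroup.range_mk'] at this
  exact this.symm

end SzS

end H6.Suz
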