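import Cfsg.Agent.H6.Suz3

/-!
# Suzuki groups IV: the action on the ovoid, Sylow subgroups, centralisers
-/

noncomputable section

namespace H6.Suz

open Pointwise MulAction Matrix
open scoped commutatorElement

variable {F : Type*} [Field F] [Fintype F] {G : Type*} [Group G] {P : Par F}

namespace Par

variable (P)

/-- points of the ovoid -/
def opt (o : Option (F × F)) : Cfsg.suzukiOvoid F P.m :=
  ⟨Projectivization.mk F _ (P.pt_ne_zero o), (P.mk_mem _).2 (P.on_pt o)⟩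

lemma opt_surj (x : Cfsg.suzukiOvoid F P.m) : ∃ o, x = P.opt o := by
  obtain ⟨x, hx⟩ := x
  induction x using Projectivization.ind with
  | h v hv =>
    obtain ⟨c, -, o, rfl⟩ := (P.mk_mem hv).1 hx
    exact ⟨o, Subtype.ext ((Projectivization.mk_eq_mk_iff' ..).2 ⟨c, rfl⟩)⟩

lemma smul_opt {g : P.G0} {o o' : Option (F × F)} :
    P.szEquiv g • P.opt o = P.opt o' ↔ ∃ c : F, c • P.pt o' = P.mat g *ᵥ P.pt o :=
  Subtype.ext_iff.trans (Projectivization.mk_eq_mk_iff' F (P.mat g *ᵥ P.pt o) _ (fun e => by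
    obtain ⟨c, hc, o, h⟩ := P.exists_pt g o
    exact smul_ne_zero hc (P.pt_ne_zero o) (h ▸ e)) _)

lemma W_opt : P.sz.W • P.opt none = P.opt (some (0, 0)) :=
  P.smul_opt.2 ⟨1, by rw [one_smul, ← Wm_none]; rfl⟩

theorem pt_opt : P.sz.Pt (P.opt none) where
  stab g := by
    obtain ⟨g, rfl⟩ := P.szEquiv.surjective g
    rw [smul_opt]
    refine ⟨fun ⟨c, hc⟩ => ?_, fun ⟨a, b, k, h⟩ => ?_⟩
    · obtain ⟨k, a, b, rfl⟩ := P.eq_DT g (α := c) (by
        rintro rfl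
        obtain ⟨c, hc', o, h⟩ := P.exists_pt g none
        exact smul_ne_zero hc' (P.pt_ne_zero o) (by rw [← h, ← hc, zero_smul])) hc.symm
      exact ⟨a, b, k, map_mul ..⟩
    · obtain rfl : g = P.T a b * P.D k := P.szEquiv.injective (h.trans (map_mul ..).symm)
      exact ⟨_, by rw [mat_mul, ← mulVec_mulVec, mat_D, Dm_none, mulVec_smul, mat_T, Tm_none]⟩
  trans x := by
    obtain ⟨_ | ⟨a, b⟩, rfl⟩ := P.opt_surj x
    · exact ⟨1, one_smul ..⟩
    · exact ⟨P.szEquiv (P.T a b * P.W), P.smul_opt.2 ⟨1, by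
        rw [mat_mul, ← mulVec_mulVec, mat_W, Wm_none, mat_T, Tm_pt]; simp⟩⟩

lemma exists_comm (b : F) : ∃ a c, P.θ a * c + P.θ c * a = b := by
  obtain ⟨y, h0, h1⟩ := P.exists_ne
  have h : P.θ y + y ≠ 0 := fun e => by
    have := congrArg P.θ e
    rw [map_add, θθ, map_zero] at this
    have := P.two
    grind
  obtain ⟨k, hk⟩ := P.exists_mul_θ (b / (P.θ y + y))
  exact ⟨k * y, k, by rw [map_mul]; field_simp at hk; linear_combination hk⟩

lemma r_lt : 2 ^ (P.m + 1) < P.q := Nat.pow_lt_pow_right (by omega) (by have := P.hm; omega)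

lemma tori_mul : (P.q + 2 ^ (P.m + 1) + 1) * (P.q - 2 ^ (P.m + 1) + 1) = P.q ^ 2 + 1 := by
  have hr : P.q * 2 = (2 ^ (P.m + 1)) ^ 2 := by rw [← pow_mul, ← pow_succ]; congr 1; ring
  have := P.r_lt
  generalize 2 ^ (P.m + 1) = r at *
  generalize P.q = q at *
  zify [this.le] at *
  linear_combination hr

end Par

namespace SzS

variable (X : SzS P G)

/-- conjugate structure -/
def conj (x : G) : SzS P G := X.map (MulAut.conj x)

lemma mem_conj_U {x g : G} : g ∈ (X.conj x).U ↔ x⁻¹ * g * x ∈ X.U :=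
  exists₂_congr fun a b => by
    change g = x * _ * x⁻¹ ↔ _
    exact ⟨fun h => by simp [mul_assoc, h], fun h => by simp [mul_assoc, ← h]⟩

lemma mem_conj_H {x g : G} : g ∈ (X.conj x).H ↔ x⁻¹ * g * x ∈ X.H :=
  exists_congr fun a => by
    change x * _ * x⁻¹ = g ↔ _
    exact ⟨fun h => by simp [mul_assoc, ← h], fun h => by simp [mul_assoc, h]⟩

lemma mem_conj_B {x g : G} : g ∈ (X.conj x).B ↔ x⁻¹ * g * x ∈ X.B :=
  exists₃_congr fun a b k => by
    change g = x * _ * x⁻¹ * (x * _ * x⁻¹) ↔ _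
    constructor <;> intro h
    · simp [mul_assoc, h]
    · simpa [mul_assoc] using congrArg (fun z => x * z * x⁻¹) h

lemma fpf_conj {x g : G} : (X.conj x).Fpf g ↔ X.Fpf g :=
  ⟨fun h y hy => h (x * y * x⁻¹ * x) (X.mem_conj_B.2 (by simpa [mul_assoc] using hy)),
    fun h y hy => h (x⁻¹ * y) (by simpa [mul_assoc] using X.mem_conj_B.1 hy)⟩

include X in
lemma exists_U_eq (S : Sylow 2 G) : ∃ Y : SzS P G, Y.U = S := by
  obtain ⟨g, hg⟩ := X.exists_sylow S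
  exact ⟨X.conj g, by ext; rw [hg, mem_conj_U, H1.mem_conj_smul]⟩

lemma tri' (g : G) : X.Fpf g ∨ (∃ Y : SzS P G, g ∈ Y.U) ∨ ∃ Y : SzS P G, ∃ k ≠ 1, g = Y.D k := by
  obtain h | ⟨x, h⟩ | ⟨x, k, hk, h⟩ := X.tri g
  exacts [Or.inl h, Or.inr (Or.inl ⟨X.conj x⁻¹, X.mem_conj_U.2 (by simpa using h)⟩),
    Or.inr (Or.inr ⟨X.conj x⁻¹, k, hk, by change _ = x⁻¹ * X.D k * x⁻¹⁻¹; simp [← h, mul_assoc]⟩)]

lemma center_U : Subgroup.center X.U = X.Z.subgroupOf X.U := by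
  ext ⟨_, a, b, rfl⟩
  refine ⟨fun h => ?_, fun h => Subgroup.mem_center_iff.2 fun u => Subtype.ext (comm_of_mem_Z h u.2)⟩
  obtain rfl : a = 0 := by
    by_contra ha
    obtain ⟨y, h0, h1⟩ := P.exists_ne
    have e := (X.T_eq_iff.1 ((X.T_mul ..).symm.trans ((congrArg Subtype.val (Subgroup.mem_center_iff.1 h
      ⟨_, X.T_mem (a * y) 0⟩)).trans (X.T_mul ..)))).2
    have e1 : P.θ y = y := mul_left_cancel₀ (mul_ne_zero ha (P.θ.map_ne_zero_iff.2 ha)) (by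
      rw [map_mul] at e; linear_combination e)
    have := P.θθ y
    grind
  exact X.T_mem_Z b

lemma commutator_U : commutator X.U = X.Z.subgroupOf X.U := by
  refine le_antisymm (Subgroup.commutator_le.2 ?_) ?_
  · rintro ⟨_, a, b, rfl⟩ - ⟨_, c, d, rfl⟩ -
    exact ⟨_, X.T_comm a b c d⟩
  · rintro ⟨_, h⟩ ⟨b, rfl⟩
    obtain ⟨a, c, rfl⟩ := P.exists_comm b
    have := Subgroup.commutator_mem_commutator (Subgroup.mem_top (⟨_, X.T_mem a 0⟩ : X.U))
      (Subgroup.mem_top (⟨_, X.T_mem c 0⟩ : X.U))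
    rwa [show ⁅(⟨_, X.T_mem a 0⟩ : X.U), ⟨_, X.T_mem c 0⟩⁆ = ⟨_, h⟩ from
      Subtype.ext (X.T_comm a 0 c 0)] at this

lemma orderOf_T {a : F} (ha : a ≠ 0) (b : F) : orderOf (X.T a b) = 4 :=
  orderOf_eq_prime_pow (p := 2) (n := 1) (by simp [sq, T_sq, T_eq_one, ha]) (pow_four (X.T_mem a b))

lemma exponent_U : Monoid.exponent X.U = 4 :=
  Nat.dvd_antisymm (Monoid.exponent_dvd_of_forall_pow_eq_one fun u => Subtype.ext (pow_four u.2))
    (by rw [← X.orderOf_T one_ne_zero 0, ← Subgroup.orderOf_mk _ (X.T_mem 1 0)]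
        exact Monoid.order_dvd_exponent _)

lemma cent_D {k : Fˣ} (hk : k ≠ 1) : Subgroup.centralizer {X.D k} = X.H :=
  le_antisymm (fun _ hx => mem_H_of_comm hk (mem_cent.1 hx)) (by
    rintro _ ⟨l, rfl⟩; rw [mem_cent, ← map_mul, mul_comm, map_mul])

/-- orders of the three tori -/
def _root_.H6.Suz.Par.tori (P : Par F) : Set ℕ :=
  {P.q - 1, P.q + 2 ^ (P.m + 1) + 1, P.q - 2 ^ (P.m + 1) + 1}

variable {X} in
lemma Fpf.card_cent {g : G} (h : X.Fpf g) :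
    (Nat.card (Subgroup.centralizer {g}) = P.q + 2 ^ (P.m + 1) + 1 ∨
    Nat.card (Subgroup.centralizer {g}) = P.q - 2 ^ (P.m + 1) + 1) ∧
    Nat.card (Subgroup.normalizer (Subgroup.centralizer {g} : Set G)) =
      4 * Nat.card (Subgroup.centralizer {g}) := by
  obtain ⟨g₁, g₂, h₁, h₂, e₁, e₂, n₁, n₂, H⟩ := X.exists_tori
  have key : ∀ {g'}, X.Fpf g' → g ∈ cls (Subgroup.centralizer {g'}) →
      Nat.card (Subgroup.normalizer (Subgroup.centralizer {g} : Set G)) =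
      Nat.card (Subgroup.normalizer (Subgroup.centralizer {g'} : Set G)) := fun h' ⟨h1, x, hx⟩ => by
    rw [← h'.cent_eq hx (by simpa), cent_conj, H1.normalizer_conj_smul, H1.card_conj_smul]
  rcases H g h with h' | h'
  · rw [key h₁ h', (h₁.mem_cls h').2]; exact ⟨Or.inl e₁, n₁⟩
  · rw [key h₂ h', (h₂.mem_cls h').2]; exact ⟨Or.inr e₂, n₂⟩

include X

theorem cent_or {g : G} (h1 : g ≠ 1) : (∃ Y : SzS P G, g ∈ Y.U ∧ Subgroup.centralizer {g} ≤ Y.U) ∨
    IsCyclic (Subgroup.centralizer {g}) ∧ Nat.card (Subgroup.centralizer {g}) ∈ P.tori := by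
  obtain h | ⟨Y, h⟩ | ⟨Y, k, hk, rfl⟩ := X.tri' g
  · exact Or.inr ⟨h.cyclic, Or.inr h.card_cent.1⟩
  · exact Or.inl ⟨Y, h, fun x hx => mem_U_of_comm h h1 (mem_cent.1 hx)⟩
  · rw [Y.cent_D hk]
    exact Or.inr ⟨Y.isCyclic_H, Or.inl Y.card_H⟩

lemma coprime_tori {a b : ℕ} (ha : a ∈ P.tori) (hb : b ∈ P.tori) : a = b ∨ a.Coprime b := by
  obtain ⟨g₁, -, h₁, -, e₁, -⟩ := X.exists_tori
  have h := h₁.hall
  rw [e₁, ← P.tori_mul, Nat.mul_div_cancel_left _ (Nat.succ_pos _)] at h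
  have h' := (Nat.coprime_mul_iff_right.1 P.coprime_B).2
  rw [← P.tori_mul, Nat.coprime_mul_iff_left] at h'
  rcases ha with rfl | rfl | rfl <;> rcases hb with rfl | rfl | rfl <;>
    first | exact Or.inl rfl | exact Or.inr (by
      first | exact h | exact h.symm | exact h'.1 | exact h'.2 | exact h'.1.symm | exact h'.2.symm)

omit X in
lemma _root_.H6.Suz.Par.odd_tori (P : Par F) {a : ℕ} (ha : a ∈ P.tori) : ¬ 2 ∣ a := by
  have := P.two_dvd_q
  have := P.eight_le_q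
  have := P.r_lt
  have : 2 ∣ 2 ^ (P.m + 1) := dvd_pow_self 2 (by omega)
  rcases ha with rfl | rfl | rfl <;> omega

theorem cyclic_of_odd {p : ℕ} [Fact p.Prime] (hp : p ≠ 2) {Q : Subgroup G} (hQ : IsPGroup p Q) :
    IsCyclic Q := by
  have := X.finite
  rcases subsingleton_or_nontrivial Q with _ | _
  · infer_instance
  have := hQ.center_nontrivial
  obtain ⟨⟨z, hz⟩, h1⟩ := exists_ne (1 : Subgroup.center Q)
  have h1 : (z : G) ≠ 1 := fun e => h1 (Subtype.ext (Subtype.ext e))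
  obtain ⟨Y, h, -⟩ | ⟨h, -⟩ := X.cent_or h1
  · exact absurd (Subgroup.disjoint_def.1 (IsPGroup.disjoint_of_ne p 2 hp _ _ hQ Y.isPGroup_U) z.2 h) h1
  · exact Subgroup.isCyclic_of_le fun y hy => mem_cent.2
      (congrArg Subtype.val (Subgroup.mem_center_iff.1 hz ⟨y, hy⟩))

theorem isCN : Cfsg.IsCNGroup G := fun g h1 => by
  have := X.finite
  obtain ⟨Y, -, h⟩ | ⟨h, -⟩ := X.cent_or h1
  · exact (Y.isPGroup_U.to_le h).isNilpotent
  · exact @CommGroup.isNilpotent _ h.commGroup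

omit X in
lemma U_eq {X Y : SzS P G} {g : G} (h1 : g ≠ 1) (hX : g ∈ X.U) (hY : g ∈ Y.U) : X.U = Y.U := by
  obtain ⟨x, hx⟩ := X.exists_sylow Y.sylow
  change Y.U = _ at hx
  rw [hx, H1.mem_conj_smul] at hY
  rw [hx, eq_comm, H1.conj_smul_eq_self_iff, normalizer_U]
  exact inv_mem_iff.1 (mem_B_of_conj hX h1 (X.U_le_B (by simpa using hY)))

omit X in
lemma le_U {X : SzS P G} {K : Subgroup G} (hH : X.H ≤ K) {a b : F} (ha : a ≠ 0) (h : X.T a b ∈ K) :
    X.U ≤ K := by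
  have h1 : ∀ c ≠ 0, ∃ d, X.T c d ∈ K := fun c hc => by
    have h0 := hH (X.D_mem (Units.mk0 (c / a) (by simp [ha, hc])))
    have := K.mul_mem (K.mul_mem h0 h) (K.inv_mem h0)
    rw [X.D_T, Units.val_mk0, div_mul_cancel₀ _ ha] at this
    exact ⟨_, this⟩
  have h2 : ∀ d, X.T 0 d ∈ K := fun d => by
    obtain ⟨c, rfl⟩ := P.exists_mul_θ d
    by_cases hc : c = 0
    · simp [hc]
    obtain ⟨d, hd⟩ := h1 c hc
    exact X.T_sq c d ▸ K.mul_mem hd hd
  rintro _ ⟨c, d, rfl⟩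
  by_cases hc : c = 0
  · exact hc ▸ h2 d
  obtain ⟨e, he⟩ := h1 c hc
  simpa [X.T_mul] using K.mul_mem he (h2 (d - e))

end SzS

end H6.Suz
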