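import Cfsg.Agent.H6.Suz4
import Cfsg.Agent.H6.AutOut

/-!
# Suzuki groups V: embeddings between Suzuki groups come from field embeddings; automorphisms
-/

noncomputable section

namespace H6.Suz

open Pointwise MulAction Matrix
open scoped commutatorElement

variable {F : Type*} [Field F] [Fintype F] {G : Type*} [Group G] {P : Par F}
  {K : Type*} [Field K] [Fintype K] {S : Type*} [Group S] {Q : Par K}

namespace SzS

/-- `ι` is induced by the field map `σ` -/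
structure Ind (Y : SzS Q S) (X : SzS P G) (ι : S →* G) (σ : K →+* F) : Prop where
  T : ∀ a b, ι (Y.T a b) = X.T (σ a) (σ b)
  D : ∀ k, ι (Y.D k) = X.D (Units.map σ.toMonoidHom k)
  W : ι Y.W = X.W

variable (Y : SzS Q S) (X : SzS P G)

lemma hom_ext {ι ι' : S →* G} (h1 : ∀ a b, ι (Y.T a b) = ι' (Y.T a b)) (h2 : ∀ k, ι (Y.D k) = ι' (Y.D k))
    (h3 : ι Y.W = ι' Y.W) : ι = ι' := MonoidHom.ext fun g => by
  obtain ⟨a, b, k, rfl⟩ | ⟨a, b, k, c, d, rfl⟩ := Y.bruhat g <;> simp only [map_mul, h1, h2, h3]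

lemma align₁ (ι : S →* G) (hι : Function.Injective ι) : ∃ X' : SzS P G, (∃ g, X' = X.conj g) ∧
    (∀ u ∈ Y.U, ι u ∈ X'.U) ∧ (∀ u ∈ Y.H, ι u ∈ X'.H) ∧ ι Y.W = X'.W := by
  obtain ⟨g₁, h₁⟩ := X.exists_le_U (Y.isPGroup_U.map ι)
  obtain ⟨k, hk⟩ := IsCyclic.exists_generator (α := Kˣ)
  have hk1 : k ≠ 1 := by
    rintro rfl
    obtain ⟨l, hl⟩ := Q.exists_unit_ne
    exact hl (by simpa using hk l)
  have ht : g₁ * ι (Y.T 0 1) * g₁⁻¹ ≠ 1 := by simp [map_eq_one_iff ι hι, Y.T_eq_one]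
  have hB : g₁ * ι (Y.D k) * g₁⁻¹ ∈ X.B := mem_B_of_conj (h₁ _ ⟨_, Y.T_mem 0 1, rfl⟩) ht (X.U_le_B (by
    simpa [mul_assoc] using h₁ _ ⟨_, conj_mem_U (Y.D_mem_B k) (Y.T_mem 0 1), rfl⟩))
  obtain ⟨v, hv, l, hl, e⟩ := (mem_U_or hB).resolve_left fun h => by
    have h4 : Y.D k ^ 2 ^ 2 = 1 := hι (by simpa using pow_four h)
    exact hk1 (eq_one_of_D_mem (mem_U_of_pow (Y.D_mem_B k) h4))
  have hW : v * g₁ * ι Y.W * (v * g₁)⁻¹ * X.D l * (v * g₁ * ι Y.W * (v * g₁)⁻¹)⁻¹ = X.D l⁻¹ := by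
    have := congrArg ι (Y.W_D k)
    simp only [map_mul, map_inv] at this
    rw [map_inv, ← e]
    simp only [_root_.mul_inv_rev, inv_inv, ← map_inv ι Y.W, Y.W_inv, mul_assoc] at this ⊢
    simp [← this, mul_assoc]
  obtain ⟨n, hn | hn⟩ := mem_N_of_conj hl (hW ▸ X.D_mem _)
  · rw [hn, ← map_inv, ← map_mul, ← map_mul, mul_inv_cancel_comm] at hW
    exact absurd (D_inj hW).symm (P.inv_ne hl)
  obtain ⟨z, hz⟩ := P.exists_sq n
  obtain ⟨z, rfl⟩ : ∃ y : Fˣ, y = z := ⟨Units.mk0 z (by rintro rfl; exact n.ne_zero (by simp [← hz])), rfl⟩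
  obtain rfl : z * z = n := Units.ext (by simpa [sq] using hz)
  refine ⟨_, ⟨(v * g₁)⁻¹ * X.D z, rfl⟩, fun u hu => X.mem_conj_U.2 ?_, ?_, ?_⟩
  · simpa [mul_assoc] using conj_mem_U (inv_mem (X.D_mem_B z)) (conj_mem_U (X.U_le_B hv) (h₁ _ ⟨u, hu, rfl⟩))
  · rintro _ ⟨k', rfl⟩
    obtain ⟨j, rfl⟩ := hk k'
    have := conj_mem_H (inv_mem (X.H_le_N (X.D_mem z))) (zpow_mem (e ▸ X.D_mem l) j)
    rw [conj_zpow, conj_zpow] at this
    simpa [mem_conj_H, mul_assoc] using this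
  · change _ = (v * g₁)⁻¹ * X.D z * X.W * ((v * g₁)⁻¹ * X.D z)⁻¹
    rw [_root_.mul_inv_rev _ (X.D z), ← mul_assoc, mul_assoc _ X.W, ← map_inv, W_mul_D, inv_inv,
      ← mul_assoc, mul_assoc _ (X.D z) (X.D z), ← map_mul, mul_assoc _ _ X.W, ← hn]
    group

lemma align₂ {ι : S →* G} (hι : Function.Injective ι) (h1 : ∀ u ∈ Y.U, ι u ∈ X.U)
    (h2 : ∀ u ∈ Y.H, ι u ∈ X.H) (h3 : ι Y.W = X.W) : ∃ σ, Y.Ind X ι σ := by
  choose α β e using fun a b => h1 _ (Y.T_mem a b)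
  choose χ eχ using fun k => h2 _ (Y.D_mem k)
  have hZ : ∀ b, α 0 b = 0 := fun b => by
    obtain ⟨c, hc⟩ := mem_Z_of_sq (h1 _ (Y.T_mem 0 b)) (by rw [← map_mul, sq_of_mem_Z (Y.T_mem_Z b), map_one])
    exact (X.T_eq_iff.1 ((e 0 b).symm.trans hc)).1
  have hmul : ∀ a b c d, α (a + c) (b + d + Q.θ a * c) = α a b + α c d ∧
      β (a + c) (b + d + Q.θ a * c) = β a b + β c d + P.θ (α a b) * α c d := fun a b c d =>
    X.T_eq_iff.1 (by rw [← e, ← Y.T_mul, map_mul, e, e, X.T_mul])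
  have hD : ∀ (k : Kˣ) a b, α (k * a) (k * Q.θ k * b) = χ k * α a b ∧
      β (k * a) (k * Q.θ k * b) = χ k * P.θ (χ k) * β a b := fun k a b =>
    X.T_eq_iff.1 (by rw [← e, ← Y.D_T, map_mul, map_mul, map_inv, ← eχ, e, X.D_T])
  have hf : Q.f 0 1 = 1 := by simp [Par.f]
  have hb : β 0 1 ≠ 0 := fun h => by
    simpa [hZ, h, map_eq_one_iff ι hι, Y.T_eq_one] using e 0 1
  have hf' : P.f 0 (β 0 1) = P.θ (β 0 1) := by simp [Par.f]
  obtain ⟨k, c, d, r, hk⟩ := Y.rel 0 1 (by simp [hf])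
  obtain ⟨k', c', d', r', hk'⟩ := X.rel 0 (β 0 1) (by simp [hf', hb])
  obtain rfl : k = 1 := Units.ext (by simpa [hf] using hk)
  replace r := congrArg ι r
  simp only [map_mul, hf, div_one, map_one, mul_one, h3, e 0 1, hZ, r'] at r
  have r0 := (bruhat_unique (mul_mem (X.T_mem_B ..) (X.D_mem_B _)) (X.U_le_B (h1 _ (Y.T_mem 1 0)))
    (X.T_mem ..) (h1 _ (Y.T_mem c d)) r).1
  rw [e, ← mul_one (X.T (α 1 0) _), ← map_one X.D] at r0
  obtain ⟨r1, r2, rfl⟩ := TD_inj r0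
  rw [hf', Units.val_one, one_mul, P.θθ] at hk'
  have hb1 : β 0 1 = 1 := by
    have h := P.θθ (β 0 1)
    rw [P.sq_inj hk', P.sq_inj hk'] at h
    exact mul_left_cancel₀ hb (by linear_combination -h)
  rw [hf', hb1, map_one, div_one] at r1
  rw [zero_div] at r2
  have a0 : α 0 0 = 0 := hZ 0
  have b0 : β 0 0 = 0 := (X.T_eq_one.1 (by rw [← e]; simp)).2
  have ha : ∀ a b, α a b = α a 0 := fun a b => by simpa [hZ] using (hmul a 0 0 b).1
  have hχ : ∀ k : Kˣ, α k 0 = χ k ∧ β k 0 = 0 := fun k => by simpa [← r1, ← r2] using hD k 1 0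
  have hβ0 : ∀ a, β a 0 = 0 := fun a => by
    by_cases h : a = 0
    · exact h ▸ b0
    · exact (hχ (Units.mk0 a h)).2
  have hβ : ∀ a b, β a b = β 0 b := fun a b => by simpa [hZ, hβ0] using (hmul a 0 0 b).2
  have hm : ∀ a b, α (a * b) 0 = α a 0 * α b 0 := fun a b => by
    by_cases h : a = 0
    · simp [h, a0]
    · simpa [← (hχ (Units.mk0 a h)).1] using (hD (Units.mk0 a h) b 0).1
  refine ⟨⟨⟨⟨fun a => α a 0, r1.symm⟩, hm⟩, a0, fun a b => (ha _ _).symm.trans (hmul a 0 b 0).1⟩,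
    fun a b => ?_, fun k => ?_, h3⟩
  · have := (hmul 1 0 b 0).2
    rw [hβ] at this
    simp only [hβ0, zero_add, map_one, one_mul, ← r1] at this
    rw [e, hβ, this, ha]; rfl
  · rw [← eχ]
    exact congrArg _ (Units.ext (hχ k).1.symm)

theorem align (ι : S →* G) (hι : Function.Injective ι) :
    ∃ g σ, Y.Ind X ((MulAut.conj g).toMonoidHom.comp ι) σ := by
  obtain ⟨_, ⟨g, rfl⟩, h1, h2, h3⟩ := Y.align₁ X ι hι
  obtain ⟨σ, h⟩ := Y.align₂ _ hι h1 h2 h3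
  exact ⟨g⁻¹, σ, fun a b => by simp [h.T, conj, map, mul_assoc],
    fun k => by simp [h.D, conj, map, mul_assoc], by simp [h.W, conj, map, mul_assoc]⟩

variable {X Y}

lemma Ind.mem_range {ι : S →* G} {σ : K →+* F} (h : Y.Ind X ι σ) {g : G} : g ∈ ι.range ↔
    (∃ a ∈ σ.range, ∃ b ∈ σ.range, ∃ k : Fˣ, k.1 ∈ σ.range ∧ g = X.T a b * X.D k) ∨
    ∃ a ∈ σ.range, ∃ b ∈ σ.range, ∃ k : Fˣ, k.1 ∈ σ.range ∧ ∃ c ∈ σ.range, ∃ d ∈ σ.range,
      g = X.T a b * X.D k * X.W * X.T c d := by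
  have hk : ∀ k : Fˣ, k.1 ∈ σ.range → ∃ l, k = Units.map σ.toMonoidHom l := by
    rintro k ⟨l, hl⟩
    exact ⟨Units.mk0 l (by rintro rfl; exact k.ne_zero (by simp [← hl])), Units.ext hl.symm⟩
  constructor
  · rintro ⟨y, rfl⟩
    obtain ⟨a, b, k, rfl⟩ | ⟨a, b, k, c, d, rfl⟩ := Y.bruhat y <;> simp only [map_mul, h.T, h.D, h.W]
    exacts [Or.inl ⟨_, ⟨a, rfl⟩, _, ⟨b, rfl⟩, _, ⟨k, rfl⟩, rfl⟩,
      Or.inr ⟨_, ⟨a, rfl⟩, _, ⟨b, rfl⟩, _, ⟨k, rfl⟩, _, ⟨c, rfl⟩, _, ⟨d, rfl⟩, rfl⟩]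
  · rintro (⟨_, ⟨a, rfl⟩, _, ⟨b, rfl⟩, k, h', rfl⟩ |
      ⟨_, ⟨a, rfl⟩, _, ⟨b, rfl⟩, k, h', _, ⟨c, rfl⟩, _, ⟨d, rfl⟩, rfl⟩) <;> obtain ⟨l, rfl⟩ := hk k h'
    exacts [⟨Y.T a b * Y.D l, by simp only [map_mul, h.T, h.D]⟩,
      ⟨Y.T a b * Y.D l * Y.W * Y.T c d, by simp only [map_mul, h.T, h.D, h.W]⟩]

end SzS

lemma mem_range_iff (σ : K →+* F) {x : F} : x ∈ σ.range ↔ x ^ Fintype.card K = x := by
  classical
  refine ⟨by rintro ⟨y, rfl⟩; rw [← map_pow, FiniteField.pow_card], fun h => ?_⟩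
  have h1 := FiniteField.X_pow_card_sub_X_ne_zero F (Fintype.one_lt_card (α := K))
  have : Finset.univ.image σ = (Polynomial.X ^ Fintype.card K - Polynomial.X : Polynomial F).roots.toFinset :=
    Finset.eq_of_subset_of_card_le (fun z hz => by
      obtain ⟨y, -, rfl⟩ := Finset.mem_image.1 hz
      simp [h1, ← map_pow, FiniteField.pow_card]) ((Multiset.toFinset_card_le _).trans
        ((Polynomial.card_roots' _).trans (by
          rw [FiniteField.X_pow_card_sub_X_natDegree_eq F (Fintype.one_lt_card (α := K)),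
            Finset.card_image_of_injective _ σ.injective]; rfl)))
  obtain ⟨y, -, e⟩ := Finset.mem_image.1 (this ▸ (by simp [h1, h]) : x ∈ Finset.univ.image σ)
  exact ⟨y, e⟩

namespace Par

variable (Q P) (σ : K →+* F) (hσ : ∀ x, σ (Q.θ x) = P.θ (σ x))
include hσ

lemma map_T (a b : K) : GeneralLinearGroup.map σ (Q.T a b).1 = (P.T (σ a) (σ b)).1 := by
  ext i j
  change σ (Q.Tm a b i j) = P.Tm _ _ i j
  fin_cases i <;> fin_cases j <;> simp [Tm, f, hσ]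

lemma map_D (k : Kˣ) : GeneralLinearGroup.map σ (Q.D k).1 = (P.D (Units.map σ.toMonoidHom k)).1 := by
  ext i j
  change σ (Q.Dm (Q.θ.symm k) i j) = P.Dm (P.θ.symm (σ k)) i j
  have : P.θ.symm (σ k) = σ (Q.θ.symm k) := by rw [RingEquiv.symm_apply_eq, ← hσ]; simp
  rw [this]
  fin_cases i <;> fin_cases j <;> simp [Dm, ← hσ]

omit hσ in
lemma map_W : GeneralLinearGroup.map σ Q.W.1 = P.W.1 := by
  ext i j
  change σ (Wm K i j) = Wm F i j
  fin_cases i <;> fin_cases j <;> simp [Wm]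

/-- embedding of Suzuki groups induced by a field embedding -/
def emb : Q.G0 →* P.G0 := ((GeneralLinearGroup.map σ).comp Q.G0.subtype).codRestrict _ fun g => by
  obtain ⟨a, b, k, rfl⟩ | ⟨a, b, k, c, d, rfl⟩ := Q.model.bruhat g <;> simp only [map_mul]
  · exact mul_mem (P.map_T Q σ hσ a b ▸ (P.T ..).2) (P.map_D Q σ hσ k ▸ (P.D _).2)
  · exact mul_mem (mul_mem (mul_mem (P.map_T Q σ hσ a b ▸ (P.T ..).2) (P.map_D Q σ hσ k ▸ (P.D _).2))
      (P.map_W Q σ ▸ P.W.2)) (P.map_T Q σ hσ c d ▸ (P.T ..).2)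

lemma emb_ind : Q.model.Ind P.model (P.emb Q σ hσ) σ :=
  ⟨fun a b => Subtype.ext (P.map_T Q σ hσ a b), fun k => Subtype.ext (P.map_D Q σ hσ k),
    Subtype.ext (P.map_W Q σ)⟩

lemma emb_inj : Function.Injective (P.emb Q σ hσ) := fun _ _ e => Subtype.ext (Units.ext (
  Matrix.ext fun i j => σ.injective (congrArg (fun g : P.G0 => g.1.1 i j) e)))

omit hσ

lemma comm_θ (h : 2 * Q.m + 1 ∣ 2 * P.m + 1) (x : K) : σ (Q.θ x) = P.θ (σ x) := by
  obtain ⟨j, hj⟩ := h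
  obtain ⟨i, rfl⟩ : ∃ i, j = 2 * i + 1 := by
    rcases Nat.even_or_odd' j with ⟨i, rfl | rfl⟩
    · rw [mul_left_comm] at hj; omega
    · exact ⟨i, rfl⟩
  rw [θ_apply, θ_apply, ← map_pow, show P.m + 1 = (2 * Q.m + 1) * i + (Q.m + 1) by nlinarith,
    pow_add 2 (_ * i), pow_mul 2, ← Q.hF, pow_mul, FiniteField.pow_card_pow]

lemma exists_ringHom {n : ℕ} (hK : Fintype.card K = 2 ^ n) (h : n ∣ 2 * P.m + 1) :
    Nonempty (K →+* F) := by
  have := P.charP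
  have : CharP K 2 := charP_of_card_eq_prime_pow hK
  letI := ZMod.algebra F 2
  letI := ZMod.algebra K 2
  have e : Module.finrank (ZMod 2) K = n := Nat.pow_right_injective le_rfl (by
    simpa using (Module.card_eq_pow_finrank (K := ZMod 2)).symm.trans hK)
  have e' : Module.finrank (ZMod 2) F = _ := Nat.pow_right_injective le_rfl (by
    simpa using (Module.card_eq_pow_finrank (K := ZMod 2)).symm.trans P.hF)
  obtain ⟨f⟩ := FiniteField.nonempty_algHom_of_finrank_dvd (F := ZMod 2) (K := K) (L := F) (by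
    rwa [e, e'])
  exact ⟨f⟩

/-- field automorphisms -/
def fld : (F ≃+* F) →* MulAut P.G0 where
  toFun σ := MulEquiv.ofBijective (P.emb P σ (P.comm_θ P σ dvd_rfl))
    (Finite.injective_iff_bijective.1 (P.emb_inj ..))
  map_one' := MulEquiv.ext fun _ => Subtype.ext (Units.ext rfl)
  map_mul' _ _ := MulEquiv.ext fun _ => Subtype.ext (Units.ext rfl)

theorem card_out : Nat.card (Cfsg.Out P.G0) = 2 * P.m + 1 := by
  have := P.charP
  rw [← card_ringAut 2 _ P.hF]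
  refine (Nat.card_eq_of_bijective ((QuotientGroup.mk' (Cfsg.Inn P.G0)).comp P.fld)
    ⟨(injective_iff_map_eq_one _).2 fun σ h => ?_, fun φ => ?_⟩).symm
  · obtain ⟨g, hg⟩ := (QuotientGroup.eq_one_iff _).1 h
    have h := P.emb_ind P σ (P.comm_θ P σ dvd_rfl)
    have e : ∀ a b, g * P.model.T a b * g⁻¹ = P.model.T (σ a) (σ b) := fun a b =>
      (DFunLike.congr_fun hg _).trans (h.T a b)
    have e' : g * P.model.W * g⁻¹ = P.model.W := (DFunLike.congr_fun hg _).trans h.W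
    have hU := SzS.mem_U_of_comm (P.model.T_mem 1 0) (x := g) (by simp [SzS.T_eq_one])
      (by simpa [mul_inv_eq_iff_eq_mul] using e 1 0)
    obtain rfl := SzS.eq_one_of_W hU (by
      rw [← mul_inv_eq_iff_eq_mul.1 e', SzS.mul_W_W]; exact P.model.U_le_B hU)
    exact RingEquiv.ext fun a => (P.model.T_eq_iff.1 (by simpa using e a 0)).1.symm
  · obtain ⟨φ, rfl⟩ := QuotientGroup.mk_surjective φ
    obtain ⟨g, σ, h⟩ := P.model.align P.model φ.toMonoidHom φ.injective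
    let τ := RingEquiv.ofBijective σ (Finite.injective_iff_bijective.1 σ.injective)
    have h' := P.emb_ind P τ (P.comm_θ P τ dvd_rfl)
    have e : P.fld τ = MulAut.conj g * φ := MulEquiv.toMonoidHom_injective (P.model.hom_ext
      (fun a b => (h'.T a b).trans (h.T a b).symm) (fun k => (h'.D k).trans (h.D k).symm)
      (h'.W.trans h.W.symm))
    refine ⟨τ, ?_⟩
    rw [MonoidHom.comp_apply, e, map_mul, show QuotientGroup.mk' (Cfsg.Inn P.G0) (MulAut.conj g) = 1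
      from (QuotientGroup.eq_one_iff _).2 ⟨g, rfl⟩, one_mul]; rfl

end Par

end H6.Suz
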