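import Cfsg.Agent.H6.Suz5
import Cfsg.Agent.H1.Fitting

/-!
# Suzuki groups VII: subgroups
-/

noncomputable section

namespace H6.Suz

open Pointwise MulAction

variable {F : Type*} [Field F] [Fintype F] {G : Type*} [Group G] {P : Par F}

lemma exists_swap {z t : G} (hz : z * z = 1) (ht : t * t = 1) (ho : Odd (orderOf (z * t))) :
    ∃ j : ℕ, (z * t) ^ j * z * ((z * t) ^ j * z) = 1 ∧ (z * t) ^ j * z * z * ((z * t) ^ j * z)⁻¹ = t := by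
  obtain ⟨j, hj⟩ := ho
  have hz' := inv_eq_of_mul_eq_one_right hz
  have ht' := inv_eq_of_mul_eq_one_right ht
  have e : z * (z * t) ^ j * z = ((z * t) ^ j)⁻¹ := by
    rw [← inv_pow, mul_inv_rev, ht', hz', show t * z = z * (z * t) * z⁻¹ by simp [← mul_assoc, hz, hz'], conj_pow, hz']
  have e2 : (z * t) ^ j * (z * t) ^ j * (z * t) = 1 := by
    rw [← pow_add, ← pow_succ, ← two_mul, ← hj, pow_orderOf_eq_one]
  refine ⟨j, by rw [mul_assoc, ← mul_assoc z, e, mul_inv_cancel], ?_⟩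
  rw [mul_inv_rev, ← e, hz', ← ht', eq_inv_iff_mul_eq_one, ← e2, ht']
  simp [mul_assoc, ← mul_assoc z z, hz]

namespace SzS

variable (X : SzS P G)

lemma mem_conj_Z {x g : G} : g ∈ (X.conj x).Z ↔ x⁻¹ * g * x ∈ X.Z :=
  exists_congr fun a => by
    change g = x * _ * x⁻¹ ↔ _
    exact ⟨fun h => by simp [mul_assoc, h], fun h => by simp [mul_assoc, ← h]⟩

lemma mem_conj_N {x g : G} : g ∈ (X.conj x).N ↔ x⁻¹ * g * x ∈ X.N := by
  rw [← normalizer_H, ← normalizer_H]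
  refine ⟨fun h y => ?_, fun h y => ?_⟩
  · simpa [mem_conj_H, mul_assoc] using h (x * y * x⁻¹)
  · simpa [mem_conj_H, mul_assoc] using h (x⁻¹ * y * x)

variable {X}

lemma conj_Z {x : G} (hx : x ∈ X.B) : (X.conj x).Z = X.Z := Subgroup.ext fun g => X.mem_conj_Z.trans
  ⟨fun h => by simpa [mul_assoc] using conj_mem_Z hx h, fun h => by simpa using conj_mem_Z (inv_mem hx) h⟩

lemma conj_B {x : G} (hx : x ∈ X.B) : (X.conj x).B = X.B := Subgroup.ext fun g => X.mem_conj_B.trans (by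
  rw [X.B.mul_mem_cancel_right hx, X.B.mul_mem_cancel_left (inv_mem hx)])

variable (X) in
theorem solvable (S : Subgroup G) (hS : Group.IsSolvable S) : (∃ g, ∀ s ∈ S, g * s * g⁻¹ ∈ X.B) ∨
    (∃ g, ∀ s ∈ S, g * s * g⁻¹ ∈ X.N) ∨ ∃ g, X.Fpf g ∧ S ≤ Subgroup.normalizer (Subgroup.centralizer {g} : Set G) := by
  have := X.finite
  obtain rfl | h0 := eq_or_ne S ⊥
  · exact Or.inl ⟨1, by simp⟩
  have := (Subgroup.nontrivial_iff_ne_bot S).2 h0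
  obtain ⟨p, hp, h⟩ := H1.exists_pCore_ne_bot (⊤ : Subgroup S) inferInstance top_ne_bot
  have := Fact.mk hp
  have := (Subgroup.nontrivial_iff_ne_bot _).2 (inf_top_eq (Cfsg.pCore p S) ▸ h)
  have := (H1.pCore_isPGroup (p := p) (G := S)).center_nontrivial
  obtain ⟨⟨u, hu⟩, h1⟩ := exists_ne (1 : Subgroup.center (Cfsg.pCore p S))
  have h1 : (u : G) ≠ 1 := fun e => h1 (Subtype.ext (Subtype.ext (Subtype.ext e)))
  have hc : ∀ s ∈ S, s * u * s⁻¹ * u = u * (s * u * s⁻¹) := fun s hs => congrArg (fun z => z.1.1)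
    (Subgroup.mem_center_iff.1 hu ⟨_, Subgroup.Normal.conj_mem inferInstance _ u.2 ⟨s, hs⟩⟩)
  generalize (u : G) = v at h1 hc
  have hc' : ∀ x, ∀ s ∈ S, x * s * x⁻¹ * (x * v * x⁻¹) * (x * s * x⁻¹)⁻¹ * (x * v * x⁻¹) =
      x * v * x⁻¹ * (x * s * x⁻¹ * (x * v * x⁻¹) * (x * s * x⁻¹)⁻¹) := fun x s hs => by
    simpa [mul_assoc] using congrArg (fun z => x * z * x⁻¹) (hc s hs)
  obtain h | ⟨x, h⟩ | ⟨x, k, hk, h⟩ := X.tri v
  · exact Or.inr (Or.inr ⟨v, h, fun s hs => (h.ti s v (mem_cent.2 rfl) h1).1 (mem_cent.2 (hc s hs))⟩)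
  · exact Or.inl ⟨x, fun s hs => mem_B_of_conj h (by simpa) (X.U_le_B (mem_U_of_comm h (by simpa) (hc' x s hs)))⟩
  · exact Or.inr (Or.inl ⟨x, fun s hs => mem_N_of_conj hk (mem_H_of_comm hk (h ▸ hc' x s hs))⟩)

lemma odd_mul {z t : G} (hz : z ∈ X.Z) (h1 : z ≠ 1) (ht : t * t = 1) (hB : t ∉ X.B) : Odd (orderOf (z * t)) := by
  have := X.finite
  refine Nat.not_even_iff_odd.1 fun ⟨j, hj⟩ => hB (X.U_le_B ?_)
  have hz2 := sq_of_mem_Z hz
  have e : ∀ s : G, s * (z * t) * s⁻¹ = (z * t)⁻¹ → s * (z * t) ^ j = (z * t) ^ j * s := fun s hs => by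
    rw [← mul_inv_eq_iff_eq_mul, ← conj_pow, hs, inv_pow, inv_eq_iff_mul_eq_one, ← pow_add, ← hj, pow_orderOf_eq_one]
  have hz' := inv_eq_of_mul_eq_one_right hz2
  have ht' := inv_eq_of_mul_eq_one_right ht
  refine mem_U_of_comm (mem_U_of_comm (X.Z_le_U hz) h1 (e z (by simp [hz', ht', ← mul_assoc, hz2])).symm)
    (pow_ne_one_of_lt_orderOf ?_ ?_) (e t (by simp [hz', ht', mul_assoc, ht])) <;>
    have := orderOf_pos (z * t) <;> omega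

variable (X) in
/-- the involutions of `M` in `Z` -/
def Zs (M : Subgroup G) : Set G := {z | z ∈ M ∧ z ∈ X.Z ∧ z ≠ 1}

variable {M : Subgroup G}

lemma exists_κ {b z₀ : G} (hb : b ∈ X.B) (hg : X.W * b ∈ M) (h0 : z₀ ∈ X.Zs M) :
    ∃ κ : G → Fˣ, Set.InjOn κ (X.Zs M) ∧ ∀ z ∈ X.Zs M, X.D (κ z) * X.W ∈ M := by
  have hz := conj_mem_Z hb h0.2.1
  have hM : X.W * (b * z₀ * b⁻¹) * X.W ∈ M := by
    simpa [mul_assoc] using mul_mem (mul_mem hg h0.1) (inv_mem hg)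
  have h1 : b * z₀ * b⁻¹ ≠ 1 := by simpa using h0.2.2
  generalize b * z₀ * b⁻¹ = y at hz hM h1
  have ht : X.W * y * X.W * (X.W * y * X.W) = 1 := by
    simp [mul_assoc, ← mul_assoc y y, sq_of_mem_Z hz, X.W_sq]
  have : ∀ z ∈ X.Zs M, ∃ k, X.D k * X.W ∈ M ∧ X.D k * X.W * z * (X.D k * X.W)⁻¹ = X.W * y * X.W := fun z h => by
    obtain ⟨j, e1, e2⟩ := exists_swap (sq_of_mem_Z h.2.1) ht (odd_mul h.2.1 h.2.2 ht
      fun e => h1 (eq_one_of_W (X.Z_le_U hz) e))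
    have hs : (z * (X.W * y * X.W)) ^ j * z ∈ M := mul_mem (pow_mem (mul_mem h.1 hM) j) h.1
    generalize (z * (X.W * y * X.W)) ^ j * z = s at e1 e2 hs
    have a1 : X.W * s ∈ X.B := mem_B_of_conj (X.Z_le_U h.2.1) h.2.2 (by
      rw [show X.W * s * z * (X.W * s)⁻¹ = X.W * (s * z * s⁻¹) * X.W by simp [mul_assoc], e2]
      simpa [mul_assoc, X.W_sq] using X.U_le_B (X.Z_le_U hz))
    have a2 : s * X.W ∈ X.B := by simpa [inv_eq_of_mul_eq_one_right e1] using inv_mem a1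
    obtain ⟨k, hk⟩ := mem_H_of_W a2 (by simpa [mul_assoc, X.W_sq] using a1)
    exact ⟨k, by simpa [hk] using hs, by simpa [hk] using e2⟩
  choose! κ hκ using this
  exact ⟨κ, fun z h z' h' e => by simpa [e, mul_assoc] using (hκ z h).2.trans (hκ z' h').2.symm,
    fun z h => (hκ z h).1⟩

lemma ncard_le {b : G} (hb : b ∈ X.B) (hg : X.W * b ∈ M) : (X.Zs M).ncard ≤ Nat.card (M.comap X.D) := by
  obtain h | ⟨z₀, h0⟩ := (X.Zs M).eq_empty_or_nonempty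
  · simp [h]
  obtain ⟨κ, h1, h2⟩ := exists_κ hb hg h0
  exact Set.ncard_le_ncard_of_injOn (t := M.comap X.D) (fun z => κ z * (κ z₀)⁻¹) (fun z h => by
    simpa [mul_assoc] using mul_mem (h2 z h) (inv_mem (h2 z₀ h0))) fun z h z' h' e => h1 h h' (mul_right_cancel e)

lemma D_mem_of {z₀ : G} (h0 : z₀ ∈ X.Zs M) (hW : X.W ∈ M) : (X.Zs M).ncard = Nat.card (M.comap X.D) ∧
    ∀ u ∈ X.U, ∀ k, u * X.D k ∈ M → X.D k ∈ M := by
  have := X.finite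
  have h1 := ncard_le (one_mem X.B) (by simpa using hW)
  let L : Set Fˣ := {k | ∃ u ∈ X.U, u * X.D k ∈ M}
  have h2 : (M.comap X.D : Set Fˣ) ⊆ L := fun k hk => ⟨1, one_mem _, by simpa using hk⟩
  have h3 : L.ncard ≤ (X.Zs M).ncard := Set.ncard_le_ncard_of_injOn (fun k => X.D k * z₀ * (X.D k)⁻¹)
    (fun k ⟨u, hu, h⟩ => ⟨by
      have := mul_mem (mul_mem h h0.1) (inv_mem h)
      rwa [show u * X.D k * z₀ * (u * X.D k)⁻¹ = u * (X.D k * z₀ * (X.D k)⁻¹) * u⁻¹ by group,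
        comm_of_mem_Z (conj_mem_Z (X.D_mem_B k) h0.2.1) hu, mul_inv_cancel_right] at this,
      conj_mem_Z (X.D_mem_B k) h0.2.1, by simpa using h0.2.2⟩) fun k _ l _ e => by_contra fun h =>
      h0.2.2 (eq_one_of_comm (k := l⁻¹ * k) (X.Z_le_U h0.2.1) (by rwa [ne_eq, inv_mul_eq_one, eq_comm]) (by
        simpa [mul_assoc, inv_mul_eq_iff_eq_mul, mul_inv_eq_iff_eq_mul] using congrArg (· * X.D k) e))
  have h4 := Set.ncard_le_ncard h2
  exact ⟨le_antisymm h1 (h4.trans h3), fun u hu k h =>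
    (Set.eq_of_subset_of_ncard_le h2 (h3.trans h1)).ge (show k ∈ L from ⟨u, hu, h⟩)⟩

lemma bruhat_M (h2 : 2 ≤ (X.Zs M).ncard) (hW : X.W ∈ M) {b u : G} (hb : b ∈ X.B) (hu : u ∈ X.U)
    (hg : b * X.W * u ∈ M) : u ∈ M := by
  have := X.finite
  obtain ⟨z₀, h0⟩ := Set.nonempty_of_ncard_ne_zero (s := X.Zs M) (by omega)
  have hu' := X.U_le_B (inv_mem hu)
  have h1 := ncard_le (X := X.conj u⁻¹) (M := M) (b := u⁻¹ * b⁻¹) (conj_B hu' ▸ mul_mem hu' (inv_mem hb)) (by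
    change u⁻¹ * X.W * u⁻¹⁻¹ * _ ∈ M
    simpa [mul_assoc] using inv_mem hg)
  rw [Zs, conj_Z hu'] at h1
  have := Finite.one_lt_card_iff_nontrivial.1 (h2.trans h1)
  obtain ⟨⟨k, hk⟩, hk1⟩ := exists_ne (1 : M.comap (X.conj u⁻¹).D)
  have hk1 : k ≠ 1 := fun e => hk1 (Subtype.ext e)
  have hk : u⁻¹ * X.D k * u⁻¹⁻¹ ∈ M := hk
  have m : ∀ v ∈ X.U, v⁻¹ * (X.D k * v * (X.D k)⁻¹) ∈ X.U := fun v hv =>
    mul_mem (inv_mem hv) (conj_mem_U (X.D_mem_B k) hv)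
  have hD := (D_mem_of h0 hW).2 _ (m u hu) k (by simpa [mul_assoc] using hk)
  have inj : ∀ v ∈ X.U, ∀ w ∈ X.U, v⁻¹ * (X.D k * v * (X.D k)⁻¹) = w⁻¹ * (X.D k * w * (X.D k)⁻¹) → v = w :=
    fun v hv w hw e => mul_inv_eq_one.1 (eq_one_of_comm (mul_mem hv (inv_mem hw)) hk1 (by
      simpa [mul_assoc, eq_comm] using congrArg (fun z => v * z * X.D k * w⁻¹) e))
  obtain ⟨v, hv⟩ := Finite.surjective_of_injective (f := fun v : ↥(M ⊓ X.U) => (⟨_, M.mul_mem (M.inv_mem v.2.1)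
    (M.mul_mem (M.mul_mem hD v.2.1) (M.inv_mem hD)), m _ v.2.2⟩ : ↥(M ⊓ X.U)))
    (fun v w e => Subtype.ext (inj _ v.2.2 _ w.2.2 (congrArg Subtype.val e)))
    ⟨_, by simpa [mul_assoc] using mul_mem hk (inv_mem hD), m u hu⟩
  exact inj _ v.2.2 _ hu (congrArg Subtype.val hv) ▸ v.2.1

theorem params (h2 : 2 ≤ (X.Zs M).ncard) (hW : X.W ∈ M) (hM : M ≠ ⊤) : ∃ k, 1 ≤ k ∧ k < P.m ∧ 2 * k + 1 ∣ 2 * P.m + 1 ∧
    (∀ a b, X.T a b ∈ M → a ^ 2 ^ (2 * k + 1) = a ∧ b ^ 2 ^ (2 * k + 1) = b) ∧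
    ∀ l, X.D l ∈ M → (l : F) ^ 2 ^ (2 * k + 1) = l := by
  have := X.finite
  obtain ⟨z₀, h0⟩ := Set.nonempty_of_ncard_ne_zero (s := X.Zs M) (by omega)
  obtain ⟨h3, h4⟩ := D_mem_of h0 hW
  obtain ⟨n, -, hn⟩ := (Nat.dvd_prime_pow Nat.prime_two).1 (X.card_Z ▸ Subgroup.card_dvd_of_le (inf_le_right (a := M)))
  have h5 : Nat.card (M.comap X.D) = 2 ^ n - 1 := by
    rw [← h3, ← hn, show X.Zs M = ((M ⊓ X.Z : Subgroup G) : Set G) \ {1} from Set.ext fun _ => and_assoc.symm,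
      Set.ncard_diff_singleton_of_mem (one_mem _)]; rfl
  have h6 : n ∣ 2 * P.m + 1 := by
    have := Nat.gcd_eq_left (h5 ▸ P.card_units ▸ Subgroup.card_subgroup_dvd_card (M.comap X.D))
    rw [Nat.pow_sub_one_gcd_pow_sub_one] at this
    exact Nat.gcd_eq_left_iff_dvd.1 (Nat.pow_right_injective le_rfl (by
      have := Nat.one_le_two_pow (n := n)
      have := Nat.one_le_two_pow (n := n.gcd (2 * P.m + 1))
      simp only; omega))
  obtain ⟨k, rfl⟩ := Odd.of_dvd_nat (odd_two_mul_add_one _) h6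
  have hD : ∀ l, X.D l ∈ M → (l : F) ^ 2 ^ (2 * k + 1) = l := fun l hl => by
    have := congrArg (fun z => ((z.1 : Fˣ) : F)) (pow_card_eq_one' (x := (⟨l, hl⟩ : M.comap X.D)))
    simp only [h5, Subgroup.coe_pow, Units.val_pow_eq_pow_val, OneMemClass.coe_one, Units.val_one] at this
    rw [← Nat.sub_add_cancel (Nat.one_le_two_pow (n := 2 * k + 1)), pow_succ, this, one_mul]
  have hrel : ∀ a b, X.T a b ∈ M → P.f a b ≠ 0 → X.T (b / P.f a b) (a / P.f a b) ∈ M ∧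
      P.f a b ^ 2 ^ (2 * k + 1) = P.f a b := fun a b h hf => by
    obtain ⟨l, c, d, e, hl⟩ := X.rel a b hf
    have hg := e ▸ mul_mem (mul_mem hW h) hW
    have a1 := bruhat_M h2 hW (mul_mem (X.T_mem_B ..) (X.D_mem_B l)) (X.T_mem ..) hg
    rw [M.mul_mem_cancel_right a1, M.mul_mem_cancel_right hW] at hg
    have a2 := h4 _ (X.T_mem ..) l hg
    refine ⟨(M.mul_mem_cancel_right a2).1 hg, ?_⟩
    have a3 := congrArg (· ^ 2 ^ (2 * k + 1)) hl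
    simp only [mul_pow, hD l a2, ← map_pow, pow_right_comm _ 2] at a3
    have a4 : P.f a b ^ 2 ^ (2 * k + 1) ≠ 0 := pow_ne_zero _ hf
    generalize P.f a b ^ 2 ^ (2 * k + 1) = y at *
    generalize P.f a b = x at *
    have b1 := congrArg P.θ hl
    have b2 := congrArg P.θ a3
    simp only [map_mul, map_pow, P.θθ] at b1 b2
    rw [← hl] at b1
    rw [← a3] at b2
    refine P.sq_inj (mul_left_cancel₀ (a := P.θ l * l ^ 2) (by simp) ?_)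
    rw [mul_left_cancel₀ (pow_ne_zero 2 hf) (show x ^ 2 * (P.θ l * l ^ 2 * x ^ 2) = x ^ 2 * 1 by linear_combination b1),
      mul_left_cancel₀ (pow_ne_zero 2 a4) (show y ^ 2 * (P.θ l * l ^ 2 * y ^ 2) = y ^ 2 * 1 by linear_combination b2)]
  have hZ : ∀ b, X.T 0 b ∈ M → b ^ 2 ^ (2 * k + 1) = b := fun b h => by
    obtain rfl | hb := eq_or_ne b 0
    · simp
    · exact P.θ.injective (by simpa [Par.f] using (hrel 0 b h (by simpa [Par.f])).2)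
  have hA : ∀ a b, X.T a b ∈ M → a ^ 2 ^ (2 * k + 1) = a := fun a b h =>
    P.mul_θ_inj (by rw [map_pow, ← mul_pow]; exact hZ _ (X.T_sq a b ▸ mul_mem h h))
  refine ⟨k, ?_, ?_, h6, fun a b h => ⟨hA a b h, ?_⟩, hD⟩
  · by_contra! e
    obtain rfl : k = 0 := by omega
    omega
  · refine (Nat.le_of_dvd (by omega) h6 |> fun h => by omega : k ≤ P.m).lt_of_ne fun e => hM ?_
    have hH : X.H ≤ M := by
      rintro _ ⟨l, rfl⟩
      exact (Subgroup.eq_top_of_card_eq (M.comap X.D) (by rw [h5, P.card_units, e])).ge trivial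
    obtain ⟨hz, ⟨b, rfl⟩, hb⟩ := h0
    have hb : b ≠ 0 := by rintro rfl; simp at hb
    have hf : P.f 0 b ≠ 0 := by simpa [Par.f]
    exact X.eq_top_of_U (le_U hH (div_ne_zero hb hf) (hrel 0 b hz hf).1) hW X.W_not_mem
  · by_cases hf : P.f a b = 0
    · simp [(P.f_eq_zero hf).2]
    · have := hA _ _ (hrel a b h hf).1
      rwa [div_pow, (hrel a b h hf).2, div_left_inj' hf] at this

lemma isCyclic_of (h : (X.Zs M).ncard < 2) (hU : M ≤ X.U) : IsCyclic M := by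
  have := X.finite
  have h1 : ∀ z ∈ M, ∀ z' ∈ M, z ∈ X.Z → z' ∈ X.Z → z ≠ 1 → z' = 1 ∨ z' = z := fun z a z' a' b b' c =>
    or_iff_not_imp_left.2 fun c' => (Set.ncard_le_one (Set.toFinite (X.Zs M))).1 (by omega) _ ⟨a', b', c'⟩ _ ⟨a, b, c⟩
  have key : ∀ g ∈ M, (∀ x ∈ M, x ∈ Subgroup.zpowers g) → IsCyclic M := fun g hg h =>
    (Subgroup.isCyclic_iff_exists_zpowers_eq_top M).2 ⟨g, le_antisymm (Subgroup.zpowers_le.2 hg) h⟩
  by_cases hZ : ∀ z ∈ M, z ∈ X.Z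
  · by_cases h0 : ∀ z ∈ M, z = 1
    · exact key 1 (one_mem _) fun x hx => by rw [h0 x hx]; exact one_mem _
    push Not at h0
    obtain ⟨z, hz, h0⟩ := h0
    exact key z hz fun x hx => (h1 z hz x hx (hZ z hz) (hZ x hx) h0).elim (· ▸ one_mem _) (· ▸ Subgroup.mem_zpowers _)
  push Not at hZ
  obtain ⟨g, hg, h0⟩ := hZ
  obtain ⟨a, b, rfl⟩ := hU hg
  have ha : a ≠ 0 := by rintro rfl; exact h0 (X.T_mem_Z b)
  have h2 : ∀ z ∈ M, z ∈ X.Z → z ∈ Subgroup.zpowers (X.T a b) := fun z hz hz' =>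
    (h1 _ (mul_mem hg hg) z hz (X.T_sq a b ▸ X.T_mem_Z _) hz' (by simp [T_sq, T_eq_one, ha])).elim (· ▸ one_mem _)
      (· ▸ mul_mem (Subgroup.mem_zpowers _) (Subgroup.mem_zpowers _))
  refine key _ hg fun x hx => ?_
  obtain ⟨c, d, rfl⟩ := hU hx
  obtain rfl | hc := eq_or_ne c 0
  · exact h2 _ hx (X.T_mem_Z d)
  rcases h1 _ (mul_mem hg hg) _ (mul_mem hx hx) (X.T_sq a b ▸ X.T_mem_Z _) (X.T_sq c d ▸ X.T_mem_Z _)
    (by simp [T_sq, T_eq_one, ha]) with e | e <;> rw [T_sq] at e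
  · simp [T_eq_one, hc] at e
  obtain rfl := P.mul_θ_inj (X.T_eq_iff.1 (e.trans (X.T_sq ..))).2
  exact (Subgroup.mul_mem_cancel_right _ (Subgroup.mem_zpowers _)).1 (h2 _ (mul_mem hx hg)
    ⟨_, by rw [X.T_mul, ← two_mul, P.two, zero_mul]⟩)

variable (X) in
include X in
theorem subgroups (hM : M ≠ ⊤) : (∃ Y : SzS P G, M ≤ Y.B) ∨ Group.IsSolvable M ∨ ∃ k, 1 ≤ k ∧ k < P.m ∧
    2 * k + 1 ∣ 2 * P.m + 1 ∧ ∃ Y : SzS P G, ∀ {K S : Type} [Field K] [Fintype K] [Group S] {Q : Par K} {Y' : SzS Q S}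
      {ι σ}, Q.m = k → Y'.Ind Y ι σ → M ≤ ι.range := by
  have := X.finite
  by_cases h : ∀ Y : SzS P G, (Y.Zs M).ncard < 2
  · have : IsZGroup M := ⟨fun p hp S => by
      have := Fact.mk hp
      refine (Subgroup.equivMapOfInjective S.1 _ M.subtype_injective).isCyclic.2 ?_
      obtain rfl | h2 := eq_or_ne p 2
      · obtain ⟨R, hR⟩ := (S.2.map M.subtype).exists_le_sylow
        obtain ⟨Y, hY⟩ := X.exists_U_eq R
        exact isCyclic_of (X := Y) ((Set.ncard_le_ncard (t := Y.Zs M) fun z hz => ⟨Subgroup.map_subtype_le _ hz.1, hz.2⟩).trans_lt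
          (h Y)) (hY ▸ hR)
      · exact X.cyclic_of_odd h2 (S.2.map _)⟩
    exact Or.inr (Or.inl inferInstance)
  push Not at h
  obtain ⟨Y, h2⟩ := h
  refine or_iff_not_imp_left.2 fun hB => Or.inr ?_
  obtain ⟨g, hg, hg'⟩ := SetLike.not_le_iff_exists.1 (not_exists.1 hB Y)
  obtain ⟨b, hb, u, hu, rfl⟩ := (bruhat' (X := Y) g).resolve_left hg'
  have hu' := Y.U_le_B (inv_mem hu)
  obtain ⟨z₀, h0⟩ := Set.nonempty_of_ncard_ne_zero (s := Y.Zs M) (by omega)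
  obtain ⟨κ, -, hκ⟩ := exists_κ (X := Y.conj u⁻¹) (M := M) (b := u⁻¹ * b⁻¹) (z₀ := z₀)
    (conj_B hu' ▸ mul_mem hu' (inv_mem hb)) (by
      change u⁻¹ * Y.W * u⁻¹⁻¹ * _ ∈ M
      simpa [mul_assoc] using inv_mem hg) (by rwa [Zs, conj_Z hu'])
  rw [Zs, ← conj_Z hu'] at h2 h0
  generalize Y.conj u⁻¹ = Y at *
  obtain ⟨d, hd⟩ := P.exists_sq (κ z₀)
  obtain ⟨d, rfl⟩ : ∃ y : Fˣ, y = d := ⟨Units.mk0 d (by rintro rfl; exact (κ z₀).ne_zero (by simp [← hd])), rfl⟩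
  have hW : (Y.conj (Y.D d)).W ∈ M := by
    change Y.D d * Y.W * (Y.D d)⁻¹ ∈ M
    rw [mul_assoc, ← map_inv, W_mul_D, inv_inv, ← mul_assoc, ← map_mul,
      show d * d = κ z₀ from Units.ext (by simpa [sq] using hd)]
    exact hκ z₀ h0
  rw [← conj_Z (Y.D_mem_B d)] at h2 h0
  generalize Y.conj (Y.D d) = Y at *
  obtain ⟨k, h3, h4, h5, h6, h7⟩ := params h2 hW hM
  refine ⟨k, h3, h4, h5, Y, fun {K S _ _ _ Q Y' ι σ} e hI g hg => hI.mem_range.2 ?_⟩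
  simp only [mem_range_iff, Q.hF, e]
  have hB : ∀ a b l, Y.T a b * Y.D l ∈ M → Y.T a b ∈ M ∧ Y.D l ∈ M := fun a b l h =>
    have := (D_mem_of h0 hW).2 _ (Y.T_mem ..) l h; ⟨(M.mul_mem_cancel_right this).1 h, this⟩
  obtain ⟨a, b, l, rfl⟩ | ⟨a, b, l, c, d, rfl⟩ := Y.bruhat g
  · exact Or.inl ⟨a, (h6 _ _ (hB _ _ _ hg).1).1, b, (h6 _ _ (hB _ _ _ hg).1).2, l, h7 l (hB _ _ _ hg).2, rfl⟩
  · have a1 := bruhat_M h2 hW (mul_mem (Y.T_mem_B ..) (Y.D_mem_B l)) (Y.T_mem ..) hg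
    rw [M.mul_mem_cancel_right a1, M.mul_mem_cancel_right hW] at hg
    exact Or.inr ⟨a, (h6 _ _ (hB _ _ _ hg).1).1, b, (h6 _ _ (hB _ _ _ hg).1).2, l, h7 l (hB _ _ _ hg).2, c,
      (h6 _ _ a1).1, d, (h6 _ _ a1).2, rfl⟩

end SzS

end H6.Suz
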