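import Cfsg.Agent.H6.TG4

/-! The tabulated Chevalley groups are generated by two elements: the data. -/

set_option autoImplicit false
set_option linter.unusedSectionVars false

namespace H6.TG
open Subgroup Cfsg Cfsg.Lie StSys Chev

variable {F : Type*} [Field F] [Fintype F]

theorem bigB2 (hF : Fintype.card F ≠ 2) : Two (chevB2.group F) :=
  big certB2 (certB2.gsys F).nconj certB2.gsys_grp hF ⟨7, by decide +kernel⟩ ⟨5, by decide +kernel⟩ ⟨3, by decide +kernel⟩
    ⟨3, by decide +kernel⟩ ⟨3, by decide +kernel⟩ 3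
    [(8, 3, 7), (8, 7, 4)]
    [(8, 3, 7), (8, 5, 6), (8, 7, 4), (8, 6, 2)] (by decide +kernel)

theorem bigD4 (hF : Fintype.card F ≠ 2) : Two (chevD4.group F) :=
  big certD4 (certD4.gsys F).nconj certD4.gsys_grp hF ⟨18, by decide +kernel⟩ ⟨7, by decide +kernel⟩ ⟨0, by decide +kernel⟩
    ⟨9, by decide +kernel⟩ ⟨9, by decide +kernel⟩ 4
    [(24, 9, 1), (24, 1, 18), (24, 18, 14)]
    [(24, 9, 1), (24, 7, 11), (24, 1, 18), (24, 11, 20), (24, 18, 14), (24, 20, 16), (24, 14, 22), (24, 16, 12), 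
      (24, 22, 5), (9, 7, 10), (9, 16, 13)] (by decide +kernel)

theorem smallD4 (hF : Fintype.card F = 2) : Two (chevD4.group F) :=
  small certD4 (certD4.gsys F).nconj certD4.gsys_grp hF ⟨7, by decide +kernel⟩ ⟨8, by decide +kernel⟩ ⟨20, by decide +kernel⟩
    ⟨18, by decide +kernel⟩ (1) []
    [(24, 7, 11), (24, 11, 20)]
    [(24, 7, 11), (24, 18, 14), (24, 11, 20), (24, 14, 22), (24, 20, 16), (24, 22, 5), (24, 16, 12), (24, 5, 9), 
      (7, 14, 10), (7, 9, 13)] (by decide +kernel)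

theorem bigF4 (hF : Fintype.card F ≠ 2) : Two (chevF4.group F) :=
  big certF4 (certF4.gsys F).nconj certF4.gsys_grp hF ⟨17, by decide +kernel⟩ ⟨3, by decide +kernel⟩ ⟨0, by decide +kernel⟩
    ⟨4, by decide +kernel⟩ ⟨4, by decide +kernel⟩ 1
    [(48, 4, 16), (48, 16, 22), (48, 22, 23), (48, 23, 42), (48, 42, 30), (48, 30, 43)]
    [(48, 4, 16), (48, 3, 7), (48, 16, 22), (48, 7, 8), (48, 22, 23), (48, 8, 18), (48, 23, 42), (48, 18, 34), 
      (48, 42, 30), (48, 34, 37), (48, 30, 43), (48, 37, 44), (48, 43, 31), (48, 44, 40), (48, 31, 25), (48, 40, 39), 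
      (48, 25, 24), (4, 3, 20), (4, 8, 33), (4, 44, 27), (4, 39, 14)] (by decide +kernel)

theorem smallF4 (hF : Fintype.card F = 2) : Two (chevF4.group F) :=
  small certF4 (certF4.gsys F).nconj certF4.gsys_grp hF ⟨4, by decide +kernel⟩ ⟨9, by decide +kernel⟩ ⟨42, by decide +kernel⟩
    ⟨33, by decide +kernel⟩ (-1) [(⟨16, by decide +kernel⟩, 1, 2, 1)]
    [(48, 4, 16), (48, 16, 22), (48, 22, 23), (48, 23, 42)]
    [(48, 4, 16), (48, 33, 27), (48, 16, 22), (48, 27, 35), (48, 22, 23), (48, 35, 38), (48, 23, 42), (48, 38, 28), 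
      (48, 42, 30), (48, 28, 36), (48, 30, 43), (48, 36, 14), (48, 43, 31), (48, 14, 20), (48, 31, 25), (48, 25, 24)] (by decide +kernel)

theorem bigE6 (hF : Fintype.card F ≠ 2) : Two (chevE6.group F) :=
  big certE6 (certE6.gsys F).nconj certE6.gsys_grp hF ⟨2, by decide +kernel⟩ ⟨0, by decide +kernel⟩ ⟨6, by decide +kernel⟩
    ⟨17, by decide +kernel⟩ ⟨3, by decide +kernel⟩ 1
    [(72, 17, 31), (72, 31, 33), (72, 33, 62), (72, 62, 68), (72, 68, 53), (72, 53, 66), (72, 66, 45), (72, 45, 14), 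
      (17, 14, 3)]
    [(72, 17, 31), (72, 31, 33), (72, 33, 62), (72, 62, 68), (72, 68, 53), (72, 53, 66), (72, 66, 45), (17, 68, 57), 
      (17, 53, 35), (17, 45, 24), (72, 57, 50), (72, 35, 63), (72, 24, 12), (72, 63, 43), (72, 12, 19), (72, 43, 48), 
      (72, 19, 32), (72, 48, 60), (72, 32, 34), (72, 60, 15), (72, 15, 29), (17, 50, 30), (17, 43, 22), (72, 30, 61), 
      (72, 22, 46), (72, 61, 67), (72, 46, 58), (72, 67, 71), (72, 58, 51), (72, 71, 70), (72, 51, 65), (72, 70, 55), 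
      (72, 65, 44), (72, 44, 49), (72, 49, 25), (17, 70, 59), (17, 65, 56), (17, 55, 37), (72, 59, 52), (72, 56, 42), 
      (72, 37, 36), (72, 52, 39)] (by decide +kernel)

theorem smallE6 (hF : Fintype.card F = 2) : Two (chevE6.group F) :=
  small certE6 (certE6.gsys F).nconj certE6.gsys_grp hF ⟨2, by decide +kernel⟩ ⟨7, by decide +kernel⟩ ⟨33, by decide +kernel⟩
    ⟨5, by decide +kernel⟩ (-1) []
    [(72, 2, 17), (72, 17, 31), (72, 31, 33)]
    [(72, 2, 17), (72, 17, 31), (72, 31, 33), (72, 33, 62), (72, 62, 68), (72, 68, 53), (72, 53, 66), (72, 66, 45), 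
      (17, 68, 57), (17, 53, 35), (17, 45, 24), (72, 57, 50), (72, 35, 63), (72, 24, 12), (72, 63, 43), (72, 12, 19), 
      (72, 43, 48), (72, 19, 32), (72, 48, 60), (72, 32, 34), (72, 60, 15), (72, 15, 29), (17, 50, 30), (17, 43, 22), 
      (72, 30, 61), (72, 22, 46), (72, 61, 67), (72, 46, 58), (72, 67, 71), (72, 58, 51), (72, 71, 70), (72, 51, 65), 
      (72, 70, 55), (72, 65, 44), (72, 44, 49), (72, 49, 25), (17, 70, 59), (17, 65, 56), (17, 55, 37), (72, 59, 52), 
      (72, 56, 42), (72, 37, 36), (72, 52, 39)] (by decide +kernel)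

theorem bigE7 (hF : Fintype.card F ≠ 2) : Two (chevE7.group F) :=
  big certE7 (certE7.gsys F).nconj certE7.gsys_grp hF ⟨0, by decide +kernel⟩ ⟨3, by decide +kernel⟩ ⟨33, by decide +kernel⟩
    ⟨1, by decide +kernel⟩ ⟨1, by decide +kernel⟩ 1
    [(126, 1, 2), (126, 2, 7), (126, 7, 33), (126, 33, 53), (126, 53, 99), (126, 99, 109), (126, 109, 119), 
      (126, 119, 125), (126, 125, 124)]
    [(126, 1, 2), (126, 3, 8), (126, 2, 7), (126, 8, 34), (126, 7, 33), (126, 34, 54), (126, 33, 53), (126, 54, 57), 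
      (126, 53, 99), (126, 57, 100), (126, 99, 109), (126, 100, 110), (126, 109, 119), (126, 110, 120), (126, 119, 125), 
      (126, 120, 115), (126, 125, 124), (126, 115, 122), (126, 124, 123), (126, 122, 117), (126, 123, 118), 
      (126, 117, 91), (126, 118, 92), (126, 91, 71), (126, 92, 72), (126, 71, 68), (126, 72, 26), (126, 68, 25), 
      (126, 26, 16), (126, 25, 15), (126, 16, 6), (126, 15, 5), (126, 6, 0), (126, 5, 10), (1, 2, 73), (1, 120, 49), 
      (1, 125, 93), (1, 115, 39), (1, 123, 52), (1, 5, 76), (1, 0, 32), (1, 10, 86), (126, 49, 43), (126, 39, 56), 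
      (126, 76, 82), (126, 86, 69), (126, 43, 78), (126, 56, 59), (126, 82, 47), (126, 69, 66), (126, 59, 61), 
      (126, 66, 64), (126, 61, 62), (126, 64, 63)] (by decide +kernel)

theorem smallE7 (hF : Fintype.card F = 2) : Two (chevE7.group F) :=
  small certE7 (certE7.gsys F).nconj certE7.gsys_grp hF ⟨0, by decide +kernel⟩ ⟨34, by decide +kernel⟩ ⟨32, by decide +kernel⟩
    ⟨18, by decide +kernel⟩ (-1) []
    [(126, 0, 1), (126, 1, 2), (126, 2, 7), (126, 7, 33), (126, 33, 53), (126, 53, 99), (126, 99, 109), (126, 109, 119), 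
      (126, 119, 125), (126, 125, 124), (0, 124, 32)]
    [(126, 0, 1), (126, 18, 49), (126, 1, 2), (126, 49, 43), (126, 2, 7), (126, 43, 78), (126, 7, 33), (126, 78, 95), 
      (126, 33, 53), (126, 95, 84), (126, 53, 99), (126, 84, 104), (126, 99, 109), (126, 104, 113), (126, 109, 119), 
      (126, 113, 88), (126, 119, 125), (126, 88, 107), (126, 125, 124), (126, 107, 76), (126, 76, 82), (126, 82, 47), 
      (0, 18, 110), (0, 1, 93), (0, 107, 15), (0, 124, 32), (126, 110, 120), (126, 93, 73), (126, 15, 5), (126, 32, 52), 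
      (0, 120, 28), (0, 5, 97), (126, 28, 39), (126, 97, 86), (126, 39, 56), (126, 86, 69), (126, 56, 59), 
      (126, 69, 66), (126, 59, 61), (126, 66, 64), (126, 61, 62), (126, 64, 63)] (by decide +kernel)

theorem bigE8 (hF : Fintype.card F ≠ 2) : Two (chevE8.group F) :=
  big certE8 (certE8.gsys F).nconj certE8.gsys_grp hF ⟨0, by decide +kernel⟩ ⟨1, by decide +kernel⟩ ⟨13, by decide +kernel⟩
    ⟨134, by decide +kernel⟩ ⟨13, by decide +kernel⟩ 20
    [(240, 134, 70), (240, 70, 55), (240, 55, 35), (240, 35, 13), (240, 13, 5), (240, 5, 4), (240, 4, 3), 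
      (240, 3, 2), (240, 2, 1), (240, 1, 0), (240, 0, 15), (240, 15, 21), (240, 21, 36), (240, 36, 78), (240, 78, 105), 
      (240, 105, 169), (240, 169, 184), (240, 184, 204), (240, 204, 226)]
    [(240, 134, 70), (240, 1, 0), (240, 70, 55), (240, 0, 15), (240, 55, 35), (240, 15, 21), (240, 35, 13), 
      (240, 21, 36), (240, 36, 78), (240, 78, 105), (240, 105, 169), (240, 169, 184), (240, 184, 204), (240, 204, 226), 
      (134, 70, 62), (134, 35, 24), (134, 13, 8), (134, 169, 177), (134, 204, 215), (134, 226, 231), (240, 62, 102), 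
      (240, 24, 39), (240, 8, 16), (240, 177, 137), (240, 215, 200), (240, 231, 223), (240, 102, 95), (240, 39, 26), 
      (240, 16, 22), (240, 137, 144), (240, 200, 213), (240, 223, 217), (240, 95, 72), (240, 26, 40), (240, 22, 37), 
      (240, 144, 167), (240, 213, 199), (240, 217, 202), (240, 72, 88), (240, 40, 81), (240, 37, 79), (240, 167, 151), 
      (240, 199, 158), (240, 202, 160), (240, 88, 109), (240, 81, 107), (240, 79, 106), (240, 151, 130), (240, 158, 132), 
      (240, 160, 133), (240, 109, 113), (240, 107, 111), (240, 106, 110), (240, 130, 126), (240, 132, 128), 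
      (240, 133, 129), (240, 113, 116), (240, 111, 114), (240, 110, 170), (240, 126, 123), (240, 128, 125), 
      (240, 129, 69), (240, 116, 118), (240, 114, 171), (240, 123, 121), (240, 125, 68), (240, 118, 119), (240, 121, 120), 
      (134, 170, 180), (134, 69, 59), (134, 171, 182), (134, 68, 57), (240, 180, 138), (240, 59, 101), (240, 182, 139), 
      (240, 57, 100), (240, 138, 145), (240, 101, 94), (240, 139, 146), (240, 100, 93), (240, 145, 168), (240, 94, 71), 
      (240, 146, 98), (240, 93, 141), (240, 168, 77), (240, 71, 162), (240, 77, 104), (240, 162, 135)] (by decide +kernel)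

theorem smallE8 (hF : Fintype.card F = 2) : Two (chevE8.group F) :=
  small certE8 (certE8.gsys F).nconj certE8.gsys_grp hF ⟨0, by decide +kernel⟩ ⟨13, by decide +kernel⟩ ⟨204, by decide +kernel⟩
    ⟨72, by decide +kernel⟩ (1) []
    [(240, 0, 15), (240, 15, 21), (240, 21, 36), (240, 36, 78), (240, 78, 105), (240, 105, 169), (240, 169, 184), 
      (240, 184, 204)]
    [(240, 0, 15), (240, 72, 88), (240, 15, 21), (240, 88, 109), (240, 21, 36), (240, 109, 113), (240, 36, 78), 
      (240, 113, 116), (240, 78, 105), (240, 116, 118), (240, 105, 169), (240, 118, 119), (240, 169, 184), 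
      (240, 119, 173), (240, 184, 204), (240, 173, 136), (240, 204, 226), (240, 136, 143), (240, 226, 234), 
      (240, 143, 166), (240, 234, 235), (240, 166, 150), (240, 235, 236), (240, 150, 177), (240, 236, 237), 
      (240, 177, 137), (240, 237, 238), (240, 137, 144), (240, 238, 239), (240, 144, 167), (240, 239, 224), 
      (240, 167, 151), (240, 224, 218), (240, 151, 130), (240, 218, 203), (240, 130, 126), (240, 203, 161), 
      (240, 126, 123), (240, 123, 121), (240, 121, 120), (0, 78, 227), (0, 161, 12), (240, 227, 219), (240, 12, 20), 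
      (240, 219, 233), (240, 20, 6), (240, 233, 232), (240, 6, 7), (240, 232, 225), (240, 7, 14), (0, 232, 93), 
      (0, 7, 146), (0, 225, 71), (0, 14, 168), (240, 93, 141), (240, 146, 98), (240, 71, 162), (240, 168, 77), 
      (240, 162, 135), (240, 77, 104)] (by decide +kernel)

theorem big3 {D : ChevalleyDatum} (C : Cert D) {G : Type*} [Group G] [Finite G] {S : StSys C.R F G} (hN : S.NConj)
    (hS : S.grp = ⊤) (hF : Fintype.card F ≠ 2) (r s γ u δ : Fin D.nroots) (n : ℕ) (T T' : List (ℕ × ℕ × ℕ))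
    (h : prZ C.Z γ r = 0 ∧ prZ C.Z γ s = 1 ∧ prZ C.Z γ u = 1 ∧ prZ C.Z δ s = 3 ∧
      (actZ C.Z ((List.finRange D.rank).map Fin.val))^[n] r = u ∧ cmB D C.Z r s = true ∧ cmB D C.Z u s = true ∧
      chkD D C.Z ((List.finRange D.rank).map Fin.val) [u] T [δ, C.Z.ng δ] = true ∧
      chkD D C.Z ((List.finRange D.rank).map Fin.val) [u, s] T' (goal C.Z) = true ∧ (u ≠ δ ∧ u.1 ≠ D.neg δ) ∧
      D.commTerms δ u = [(s.1, 3, 1, 1)]) : Two G := by
  obtain ⟨h1, h2, h3, h4, h5, h6, h7, h8, h9, h10, h11⟩ := h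
  simp only [← C.pair_eq] at h1 h2 h3 h4
  refine two_big hN hS hF (List.finRange _) n h1 h2 (.inl h3) (Fin.ext ((iter_val C _ n r).trans h5)) (cm_of C h6) (cm_of C h7)
    fun M v v0 hM a b => der_top C hN hS hM T' (K := [u, s]) ?_ h9
  have k := der C hN hM T (K := [u]) (by simpa using a) h8
  suffices Fu S M s by simpa [a] using this
  by_cases c : (3 : F) = 0
  · obtain ⟨w, rfl⟩ := Finite.surjective_of_injective (f := fun x : F => x ^ 3) (fun x y e => sub_eq_zero.1
      (pow_eq_zero_iff three_ne_zero |>.1 (by linear_combination e + (x * y ^ 2 - x ^ 2 * y) * c))) v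
    exact b δ w (k _ (by simp)) (k _ (by simp [C.link.ng_eq δ δ.2])) (fun e => v0 (by simp [e])) (by rw [h4]; norm_cast)
  · exact Fu.add (k δ (by simp)).so a ⟨h10.1, fun e => h10.2 (congrArg Fin.val e)⟩ (C.terms_eq (L := [(s, 3, 1, 1)]) h11)
      (by simpa using c)

theorem bigG2 (hF : Fintype.card F ≠ 2) : Two (chevG2.group F) :=
  big3 certG2 (certG2.gsys F).nconj certG2.gsys_grp hF ⟨7, by decide +kernel⟩ ⟨10, by decide +kernel⟩ ⟨11, by decide +kernel⟩
    ⟨9, by decide +kernel⟩ ⟨7, by decide +kernel⟩ 1 [(12, 9, 8), (12, 8, 4), (12, 4, 2), (12, 2, 3), (12, 3, 7)]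
    [(12, 9, 8), (12, 10, 11), (12, 8, 4), (12, 11, 6), (12, 4, 2), (12, 6, 1), (12, 2, 3), (12, 1, 0), (12, 3, 7), (12, 0, 5)]
    (by decide +kernel)

end H6.TG
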