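import Cfsg.Agent.H6.WeylData
import Cfsg.Agent.H6.MorData

/-!
The symmetries `symE6`, `symD4`, `symF4`, `symG2`, `symB2` of the twisted groups, the Poincaré
polynomials of their fixed Weyl groups, and the embedding `D4 → E8`.
-/

namespace H6.Chev

open Cfsg.Lie

def embD4 : Mor := mkMor
  0x9894938f8e8d89888382877e71686d6c67666261605c5b57
  0x17000000161500000014131200000011100d0000000f0e0000000c0000000000000000000000000b00000009080000000a0706000000050403000000020100000000000000000000000000000000000000000000000000000000000000000000000000000000000000000000000000000000000000000000000000000000000000000000000000000000000000000000000000000000000000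
  0x4020301 0x300c0 0x0 0

theorem embD4OK : MorOK certD4 certE8 embD4 := ⟨by decide +kernel⟩
theorem embD4A : embD4.chkA chevD4 chevE8 certD4.Z = true := by decide +kernel
theorem embD4S : embD4.chkS certD4.Z certE8.Z = true := by decide +kernel

def clsE6 (i : ℕ) : ℕ := [3, 0, 2, 1, 2, 3].getD i 0
def wdE6 (k : ℕ) : List ℕ := [[1], [3], [2, 4], [0, 5]].getD k []
theorem symE6C : chkSym grE6 certE6.Z 4 clsE6 wdE6 = true := by decide +kernel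
/-- the symmetry -/
noncomputable def symE6 : Sym certE6.R (Fin 4) := grE6OK.sym grE6S symE6C

def orbpoinTE6_0 : List (ℤ × List ℤ) :=
  [(0, [0, 1, 0, 0, 0, 0]), (1, [0, -1, 0, 1, 0, 0]), (2, [0, 0, 1, -1, 1, 0]), (4, [1, 0, -1, 1, -1, 1]), (5, [1, 1, 0, -1, 0, 1]), (6, [-1, 0, 0, 1, 0, -1]), (6, [1, -1, 0, 0, 0, 1]), (7, [-1, 1, 1, -1, 1, -1]), (8, [-1, -1, 1, 0, 1, -1]), (9, [0, 1, -1, 1, -1, 0]), (10, [0, -1, -1, 2, -1, 0]), (10, [0, 2, 0, -1, 0, 0]), (11, [0, 1, 1, -2, 1, 0]), (11, [0, -2, 0, 1, 0, 0]), (12, [0, -1, 1, -1, 1, 0]), (13, [1, 1, -1, 0, -1, 1]), (14, [1, -1, -1, 1, -1, 1]), (15, [-1, 1, 0, 0, 0, -1]), (15, [1, 0, 0, -1, 0, 1]), (16, [-1, -1, 0, 1, 0, -1]), (17, [-1, 0, 1, -1, 1, -1]), (19, [0, 0, -1, 1, -1, 0]), (20, [0, 1, 0, -1, 0, 0]), (21, [0, -1, 0, 0, 0, 0])]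

def orbpoinTE6_1 : List (ℤ × List ℤ) :=
  [(0, [1, 0, 0, 0, 0, 1]), (2, [-1, 0, 1, 0, 1, -1]), (4, [0, 0, -1, 2, -1, 0]), (5, [0, 2, 1, -2, 1, 0]), (7, [1, 2, -1, 0, -1, 1]), (9, [-1, 2, 0, 0, 0, -1])]

def orbpoinTE6_2 : List (ℤ × List ℤ) :=
  [(0, [0, 0, 0, 1, 0, 0]), (1, [0, 1, 1, -1, 1, 0]), (3, [1, 1, -1, 1, -1, 1]), (4, [1, 2, 0, -1, 0, 1])]

def orbpoinTE6_3 : List (ℤ × List ℤ) :=
  [(0, [0, 0, 1, 0, 1, 0]), (2, [1, 0, -1, 2, -1, 1])]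

theorem poinTE6 {M : Type*} [CommSemiring M] (x : M) : certE6.R.poin (symE6).W1 x =
    poly [1, 1, 1, 0, 1, 1, 2, 1, 1, 1, 2, 2, 1, 1, 1, 2, 1, 1, 0, 1, 1, 1] x * (poly [1, 0, 1, 0, 1, 1, 0, 1, 0, 1] x * (poly [1, 1, 0, 1, 1] x * (poly [1, 0, 1] x))) := by
  rw [(symE6).poin_top (ks := [0, 1, 2, 3]) (by decide +kernel),
    (symE6).stage cartE6OK [0, 1, 2, 3] [1, 2, 3] [0, 1, 0, 0, 0, 0] orbpoinTE6_0 [1, 1, 1, 0, 1, 1, 2, 1, 1, 1, 2, 2, 1, 1, 1, 2, 1, 1, 0, 1, 1, 1]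
      (by decide +kernel) (by decide +kernel),
    (symE6).stage cartE6OK [1, 2, 3] [1, 2] [1, 0, 0, 0, 0, 1] orbpoinTE6_1 [1, 0, 1, 0, 1, 1, 0, 1, 0, 1]
      (by decide +kernel) (by decide +kernel),
    (symE6).stage cartE6OK [1, 2] [2] [0, 0, 0, 1, 0, 0] orbpoinTE6_2 [1, 1, 0, 1, 1]
      (by decide +kernel) (by decide +kernel),
    (symE6).stage cartE6OK [2] [] [0, 0, 1, 0, 1, 0] orbpoinTE6_3 [1, 0, 1]
      (by decide +kernel) (by decide +kernel),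
    (symE6).poin_nil, mul_one]

def clsD4 (i : ℕ) : ℕ := [1, 0, 1, 1].getD i 0
def wdD4 (k : ℕ) : List ℕ := [[1], [0, 2, 3]].getD k []
theorem symD4C : chkSym grD4 certD4.Z 2 clsD4 wdD4 = true := by decide +kernel
/-- the symmetry -/
noncomputable def symD4 : Sym certD4.R (Fin 2) := grD4OK.sym grD4S symD4C

def orbpoinTD4_0 : List (ℤ × List ℤ) :=
  [(0, [0, 1, 0, 0]), (1, [1, -1, 1, 1]), (4, [-1, 2, -1, -1]), (5, [1, -2, 1, 1]), (8, [-1, 1, -1, -1]), (9, [0, -1, 0, 0])]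

def orbpoinTD4_1 : List (ℤ × List ℤ) :=
  [(0, [1, 0, 1, 1]), (3, [-1, 3, -1, -1])]

theorem poinTD4 {M : Type*} [CommSemiring M] (x : M) : certD4.R.poin (symD4).W1 x =
    poly [1, 1, 0, 0, 1, 1, 0, 0, 1, 1] x * (poly [1, 0, 0, 1] x) := by
  rw [(symD4).poin_top (ks := [0, 1]) (by decide +kernel),
    (symD4).stage cartD4OK [0, 1] [1] [0, 1, 0, 0] orbpoinTD4_0 [1, 1, 0, 0, 1, 1, 0, 0, 1, 1]
      (by decide +kernel) (by decide +kernel),
    (symD4).stage cartD4OK [1] [] [1, 0, 1, 1] orbpoinTD4_1 [1, 0, 0, 1]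
      (by decide +kernel) (by decide +kernel),
    (symD4).poin_nil, mul_one]

def clsF4 (i : ℕ) : ℕ := [0, 1, 1, 0].getD i 0
def wdF4 (k : ℕ) : List ℕ := [[0, 3], [1, 2, 1, 2]].getD k []
theorem symF4C : chkSym grF4 certF4.Z 2 clsF4 wdF4 = true := by decide +kernel
/-- the symmetry -/
noncomputable def symF4 : Sym certF4.R (Fin 2) := grF4OK.sym grF4S symF4C

def orbpoinTF4_0 : List (ℤ × List ℤ) :=
  [(0, [1, 0, 0, 1]), (2, [-1, 1, 1, -1]), (6, [2, -1, -1, 3]), (8, [-2, 1, 2, -3]), (12, [2, -1, -2, 3]), (14, [-2, 1, 1, -3]), (18, [1, -1, -1, 1]), (20, [-1, 0, 0, -1])]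

def orbpoinTF4_1 : List (ℤ × List ℤ) :=
  [(0, [0, 1, 1, 0]), (4, [3, -1, -1, 4])]

theorem poinTF4 {M : Type*} [CommSemiring M] (x : M) : certF4.R.poin (symF4).W1 x =
    poly [1, 0, 1, 0, 0, 0, 1, 0, 1, 0, 0, 0, 1, 0, 1, 0, 0, 0, 1, 0, 1] x * (poly [1, 0, 0, 0, 1] x) := by
  rw [(symF4).poin_top (ks := [0, 1]) (by decide +kernel),
    (symF4).stage cartF4OK [0, 1] [1] [1, 0, 0, 1] orbpoinTF4_0 [1, 0, 1, 0, 0, 0, 1, 0, 1, 0, 0, 0, 1, 0, 1, 0, 0, 0, 1, 0, 1]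
      (by decide +kernel) (by decide +kernel),
    (symF4).stage cartF4OK [1] [] [0, 1, 1, 0] orbpoinTF4_1 [1, 0, 0, 0, 1]
      (by decide +kernel) (by decide +kernel),
    (symF4).poin_nil, mul_one]

def clsG2 (i : ℕ) : ℕ := [0, 0].getD i 0
def wdG2 (k : ℕ) : List ℕ := [[0, 1, 0, 1, 0, 1]].getD k []
theorem symG2C : chkSym grG2 certG2.Z 1 clsG2 wdG2 = true := by decide +kernel
/-- the symmetry -/
noncomputable def symG2 : Sym certG2.R (Fin 1) := grG2OK.sym grG2S symG2C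

def orbpoinTG2_0 : List (ℤ × List ℤ) :=
  [(0, [1, 1]), (6, [-1, -1])]

theorem poinTG2 {M : Type*} [CommSemiring M] (x : M) : certG2.R.poin (symG2).W1 x =
    poly [1, 0, 0, 0, 0, 0, 1] x := by
  rw [(symG2).poin_top (ks := [0]) (by decide +kernel),
    (symG2).stage cartG2OK [0] [] [1, 1] orbpoinTG2_0 [1, 0, 0, 0, 0, 0, 1]
      (by decide +kernel) (by decide +kernel),
    (symG2).poin_nil, mul_one]

def clsB2 (i : ℕ) : ℕ := [0, 0].getD i 0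
def wdB2 (k : ℕ) : List ℕ := [[0, 1, 0, 1]].getD k []
theorem symB2C : chkSym grB2 certB2.Z 1 clsB2 wdB2 = true := by decide +kernel
/-- the symmetry -/
noncomputable def symB2 : Sym certB2.R (Fin 1) := grB2OK.sym grB2S symB2C

def orbpoinTB2_0 : List (ℤ × List ℤ) :=
  [(0, [1, 1]), (4, [-1, -1])]

theorem poinTB2 {M : Type*} [CommSemiring M] (x : M) : certB2.R.poin (symB2).W1 x =
    poly [1, 0, 0, 0, 1] x := by
  rw [(symB2).poin_top (ks := [0]) (by decide +kernel),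
    (symB2).stage cartB2OK [0] [] [1, 1] orbpoinTB2_0 [1, 0, 0, 0, 1]
      (by decide +kernel) (by decide +kernel),
    (symB2).poin_nil, mul_one]

end H6.Chev
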