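import Cfsg.Agent.H6.TwE6

/-!
The large Ree groups `²F₄(q)`: the package `F4.Pack`, torus, order, Weyl group, simplicity.
Also the generic description `Tw.fixB2` of the fixed points in an orbit of type `B₂`.
-/

namespace H6

open Cfsg StSys

section generic

variable {Φ ι κ : Type} [Fintype ι] [DecidableEq ι] {R : RS Φ ι} {F : Type*} [Field F]
  {G : Type*} [Group G] {S : ChevSys R F G} {T : Sym R κ} {X : Tw S T} [Fintype Φ]

lemma Tw.fixB2 [CharP F 2] {k : κ} {a b c d : Φ} (hL : ∀ r, r ∈ [a, b, c, d] ↔ r ∈ T.P k)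
    (hn : [a, b, c, d].Nodup) (ρa : T.ρ a = b) (ρb : T.ρ b = a) (ρc : T.ρ c = d) (ρd : T.ρ d = c)
    {f : F →+* F} (hf : ∀ t, f (f t) ^ 2 = t) (φa : ∀ t, X.φ a t = f t ^ 2) (φb : ∀ t, X.φ b t = f t)
    (φc : ∀ t, X.φ c t = f t ^ 2) (φd : ∀ t, X.φ d t = f t)
    (hba : ∀ t u, S.x b u * S.x a t = S.x a t * S.x b u * (S.x c (t * u) * S.x d (t ^ 2 * u)))
    (hdc : ∀ t u, Commute (S.x d u) (S.x c t)) {g : G} : g ∈ S.U (T.P k) ⊓ X.Fx ↔
      ∃ p : F × F, g = S.wd [(a, f p.1), (b, p.1), (c, f p.1 * p.1 + p.2), (d, f p.2 ^ 2)] := by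
  have key : ∀ t₁ t₂ t₃ t₄, S.wd ([(a, t₁), (b, t₂), (c, t₃), (d, t₄)].map fun p =>
      (T.ρ p.1, X.φ p.1 p.2)) = S.wd [(a, f t₂), (b, f t₁ ^ 2), (c, f t₂ * f t₁ ^ 2 + f t₄),
        (d, f t₂ ^ 2 * f t₁ ^ 2 + f t₃ ^ 2)] := fun t₁ t₂ t₃ t₄ => by
    simp only [List.map, wd_cons, ρa, ρb, ρc, ρd, φa, φb, φc, φd]
    rw [← mul_assoc, hba]
    simp only [mul_assoc, x_mul_x_mul, (hdc _ _).left_comm]
  rw [mem_U_Fx hn hL]
  refine ⟨?_, fun ⟨p, e⟩ => ⟨_, rfl, e, ?_⟩⟩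
  · rintro ⟨_ | ⟨⟨r₁, t₁⟩, _ | ⟨⟨r₂, t₂⟩, _ | ⟨⟨r₃, t₃⟩, _ | ⟨⟨r₄, t₄⟩, _ | _⟩⟩⟩⟩, h, rfl, e⟩ <;>
      simp only [List.map, List.cons.injEq, reduceCtorEq, and_false, and_true] at h
    obtain ⟨rfl, rfl, rfl, rfl⟩ := h
    have := S.inj.wd_inj (w := [(_, t₁), (_, t₂), (_, t₃), (_, t₄)]) (by rfl) hn
      (fun r hr => ((hL r).1 hr).1) (e.symm.trans (key _ _ _ _))
    simp only [List.cons.injEq, Prod.mk.injEq, true_and, and_true] at this
    obtain ⟨rfl, -, h3, -⟩ := this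
    exact ⟨(t₂, f t₄), by rw [h3, hf, hf]⟩
  · rw [key, hf, map_pow, hf, map_add, add_pow_char, map_mul, mul_pow, hf,
      mul_comm p.1, ← add_assoc, CharTwo.add_self_eq_zero, zero_add]

lemma Tw.lead_of_mid {Γ : Subgroup G} {j : ι} {t : F} (ht : t ≠ 0) {L L' : List (Φ × F)}
    (hL : ∀ r ∈ (L ++ L').map Prod.fst, R.Pos r ∧ r ≠ R.simple j)
    (h : S.wd (L ++ (R.simple j, t) :: L') ∈ Γ) :
    ∃ t ≠ 0, ∃ y ∈ S.U {r | R.Pos r ∧ r ≠ R.simple j}, S.x (R.simple j) t * y ∈ Γ := by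
  refine ⟨t, ht, _, mul_mem (conj_mem_of_normalizer (S.simple_le_normalizer j (Subgroup.mem_sup_left
    (S.x_mem_U (Set.mem_singleton _) t))) (S.wd_mem (L := L) fun p hp => hL _
      (List.mem_map_of_mem (List.mem_append_left _ hp))))
    (S.wd_mem (L := L') fun p hp => hL _ (List.mem_map_of_mem (List.mem_append_right _ hp))), ?_⟩
  simpa [wd_append, wd_cons, mul_assoc] using h

theorem Tw.H_inf_Fx (h3 : S.R3) (hinj : Function.Injective (S.nconj.Theta h3)) {ψ : ι → Fˣ →* Fˣ}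
    (hψ : ∀ i c, X.φ (R.simple i) (c : Fˣ) = ψ i c) :
    S.H ⊓ X.Fx = (Tw.fixT T ψ).map (S.nconj.Theta h3) := by
  refine le_antisymm (fun y hy => ?_) ?_
  · obtain ⟨c, rfl⟩ := (S.nconj.range_Theta h3).ge hy.1
    exact ⟨c, Tw.mem_fixT h3 hinj hψ hy.2, rfl⟩
  · rintro _ ⟨c, hc, rfl⟩
    exact ⟨S.nconj.Theta_mem _ _, Tw.Theta_mem_Fx h3 hψ hc⟩

omit [Fintype Φ] in
lemma ChevSys.Theta_injective (hA : S.Adj) (h : Function.Injective (R.cm Fˣ)) :
    Function.Injective (S.nconj.Theta (S.nconj.r3 hA)) := by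
  rwa [← MonoidHom.ker_eq_bot_iff, S.ker_Theta hA, MonoidHom.ker_eq_bot_iff]

end generic

namespace Chev

open Cfsg.Lie MorOK Tw

variable {K : Type*} [Field K]

lemma exists_twB {D : ChevalleyDatum} {C : Cert D} {m : Mor} (h : MorOK C C m)
    (hS : m.chkS C.Z C.Z = true) {nk : ℕ} {cls : ℕ → ℕ} {wd : ℕ → List ℕ}
    (hc : chkSym m C.Z nk cls wd = true) (hR : C.R.Rk2) (hp : m.p.Prime) [CharP K m.p] [Finite K]
    (hB : m.chkB D C.Z C.Z = true) (hε : (allLt D.nroots fun r => decide (m.ε r = 1)) = true)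
    (f : K →+* K) : ∃ X : Tw (C.sys K) (h.sym hS hc), (∀ r t, X.φ r t = f t ^ m.lam r) ∧
      ∀ r t, X.φ (C.R.neg r) (-t) = - X.φ r t := by
  have := Fact.mk hp
  obtain ⟨X, hX⟩ := h.exists_tw hS hc hR (Or.inr ⟨hp, inferInstance⟩)
    (h.stB (Or.inr ⟨hp, inferInstance⟩) hB) (fun _ _ => rfl) f fun r =>
      (h.surj_of_perfect (Finite.surjective_of_injective (frobenius_inj K m.p)) r).comp
        (Finite.surjective_of_injective f.injective)
  simp only [allLt_iff, decide_eq_true_eq] at hε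
  exact ⟨X, fun r t => by rw [hX, hε r r.2]; simp, h.φ_neg (Or.inr ⟨hp, inferInstance⟩) f hX⟩

lemma Cert.act_eq_neg {D : ChevalleyDatum} (C : Cert D) (l : List ℕ)
    (h : (l.all (Nat.blt · D.rank) && allLt D.nroots fun r =>
      Nat.beq (l.foldr C.Z.rf r) (D.neg r)) = true) : ∃ w, ∀ r, C.R.act w r = C.R.neg r := by
  simp only [allLt_iff, Bool.and_eq_true, List.all_eq_true, Nat.blt_eq, Nat.beq_eq] at h
  exact ⟨C.R.gen.wp (finL _ l), fun r => Fin.ext (by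
    rw [C.act_wp, map_finL h.1]; exact h.2 r r.2)⟩

lemma pow_ne_of_gen {M : Type*} [Group M] {c : M} {N : ℤ} (h : ∀ n : ℤ, c ^ n = 1 → N ∣ n) {n : ℤ}
    (h0 : n ≠ 0) (h1 : |n| < N) : c ^ n ≠ 1 := fun e =>
  h0 (Int.eq_zero_of_abs_lt_dvd (h n e) h1)

namespace F4

/-- nodes -/
def nd (i : Fin 4) : Fin chevF4.rank := i
/-- roots -/
def rt (i : Fin 48) : Fin chevF4.nroots := i

lemma simple_nd (i : Fin 4) : certF4.R.simple (nd i) = rt (![33, 27, 25, 24] i) := by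
  revert i; decide +kernel

lemma P0 (r) : r ∈ [certF4.R.simple (nd 0), certF4.R.simple (nd 3)] ↔ r ∈ symF4.P 0 :=
  grF4OK.mem_P _ _ _ _ (by decide +kernel) r
lemma P1 (r) : r ∈ [rt 27, rt 25, rt 28, rt 30] ↔ r ∈ symF4.P 1 :=
  grF4OK.mem_P _ _ _ _ (by decide +kernel) r

lemma π_nd (i : Fin 4) : symF4.π (nd i) = nd (![3, 2, 1, 0] i) := by
  revert i; decide +kernel

lemma val_rt : (rt 33 : ℕ) = f4p1 ∧ (rt 24 : ℕ) = f4p4 ∧ (rt 27 : ℕ) = f4a ∧ (rt 25 : ℕ) = f4b ∧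
    (rt 28 : ℕ) = f4ab ∧ (rt 30 : ℕ) = f4aab ∧ chevF4.neg f4p1 = f4m1 ∧ chevF4.neg f4p4 = f4m4 ∧
    chevF4.neg f4a = f4ma ∧ chevF4.neg f4b = f4mb ∧ chevF4.neg f4ab = f4mab ∧
    chevF4.neg f4aab = f4maab := by decide +kernel

lemma lam_rt : grF4.lam (rt 33) = 2 ∧ grF4.lam (rt 24) = 1 ∧ grF4.lam (rt 27) = 2 ∧
    grF4.lam (rt 25) = 1 ∧ grF4.lam (rt 28) = 2 ∧ grF4.lam (rt 30) = 1 := by decide +kernel

lemma len (k : Fin 2) : certF4.R.gen.len (symF4.w k) = ![2, 4] k := by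
  fin_cases k
  exacts [symF4.len_w_eq (by decide +kernel) P0, symF4.len_w_eq (by decide +kernel) P1]

lemma exists_weyl : Nonempty (symF4.W1 ≃* DihedralGroup 8) := by
  have ha : (⟨_, symF4.w_mem 0⟩ * ⟨_, symF4.w_mem 0⟩ : symF4.W1) = 1 := Subtype.ext (symF4.w_sq 0)
  have hb : (⟨_, symF4.w_mem 1⟩ * ⟨_, symF4.w_mem 1⟩ : symF4.W1) = 1 := Subtype.ext (symF4.w_sq 1)
  have hc : (⟨_, symF4.w_mem 0⟩ * ⟨_, symF4.w_mem 1⟩ : symF4.W1) ^ 8 = 1 := Subtype.ext (by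
    change (symF4.w 0 * symF4.w 1) ^ 8 = 1
    rw [Sym.w, Sym.w, ← InvGen.wp_append, wp_pow, cartF4OK.wp_eq_one]
    decide +kernel)
  generalize e0 : (⟨_, symF4.w_mem 0⟩ : symF4.W1) = a at *
  generalize e1 : (⟨_, symF4.w_mem 1⟩ : symF4.W1) = b at *
  have h : a * (a * b) * a = (a * b)⁻¹ := by
    rw [← mul_assoc, ha, one_mul, mul_inv_rev, inv_eq_of_mul_eq_one_left ha,
      inv_eq_of_mul_eq_one_left hb]
  refine symF4.exists_equiv (dihedralHom a (a * b) ha h hc) (fun k => ?_)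
    ((poinTF4 1).trans (by rw [DihedralGroup.nat_card]; decide))
  fin_cases k
  · exact ⟨_, (dihedralHom_sr ha h hc).1.trans e0.symm⟩
  · exact ⟨_, (dihedralHom_sr ha h hc).2.trans (by rw [← mul_assoc, ha, one_mul, ← e1]; rfl)⟩

section
variable [CharP K 2] {G : Type*} [Group G] (S : StSys certF4.R K G)

lemma hba (t u : K) : S.x (rt 25) u * S.x (rt 27) t =
    S.x (rt 27) t * S.x (rt 25) u * (S.x (rt 28) (t * u) * S.x (rt 30) (t ^ 2 * u)) := by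
  rw [S.comm _ _ (by decide) (by decide +kernel), certF4.terms_eq
    (L := [(rt 28, -1, 1, 1), (rt 30, -1, 2, 1)]) (by decide +kernel)]
  simp [CharTwo.neg_eq]

lemma hdc (t u : K) : Commute (S.x (rt 30) u) (S.x (rt 28) t) :=
  certF4.commute 2 CharTwo.two_eq_zero S _ _ (by decide +kernel) t u

end

variable [Fintype K] {m : ℕ}

/-- the data of the twisted group -/
structure Pack (X : Tw (certF4.sys K) symF4) (f : K →+* K) (m : ℕ) : Prop where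
  char : CharP K 2
  hf : ∀ t, f t = t ^ 2 ^ m
  hff : ∀ t, f (f t) ^ 2 = t
  hX : ∀ r t, X.φ r t = f t ^ grF4.lam r
  good : X.Good (twistedF4 K (2 ^ m))
  gen : twistedF4 K (2 ^ m) ≤ ((certF4.sys K).Up ⊓ X.Fx) ⊔ ((certF4.sys K).Um ⊓ X.Fx)
  card : ∀ k, (Nat.card ↥((certF4.sys K).U (symF4.P k) ⊓ X.Fx) : ℝ) =
    √(2 ^ (2 * m + 1)) ^ certF4.R.gen.len (symF4.w k)
  mem0 : ∀ g, g ∈ (certF4.sys K).U (symF4.P 0) ⊓ X.Fx ↔
    ∃ t, g = (certF4.sys K).wd [(rt 33, f t), (rt 24, t)]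
  mem1 : ∀ g, g ∈ (certF4.sys K).U (symF4.P 1) ⊓ X.Fx ↔ ∃ p : K × K, g = (certF4.sys K).wd
    [(rt 27, f p.1), (rt 25, p.1), (rt 28, f p.1 * p.1 + p.2), (rt 30, f p.2 ^ 2)]

theorem exists_pack (hK : Fintype.card K = 2 ^ (2 * m + 1)) : ∃ X f, Pack (K := K) X f m := by
  obtain ⟨h2, f, hf⟩ := exists_frob (k := m) Nat.prime_two hK
  have : CharP K grF4.p := h2
  obtain ⟨X, hX, hn⟩ : ∃ X : Tw (certF4.sys K) symF4, (∀ r t, X.φ r t = f t ^ grF4.lam r) ∧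
      ∀ r t, X.φ (certF4.R.neg r) (-t) = - X.φ r t :=
    exists_twB grF4OK grF4S symF4C (rk2_of_mem (by simp) _) Nat.prime_two grF4B (by decide +kernel) f
  obtain ⟨O⟩ := certF4.om (K := K) exists_omF4
  have hff : ∀ t, f (f t) ^ 2 = t := fun t => by
    rw [hf, hf, ← pow_mul, ← pow_mul, ← mul_assoc, ← pow_add, ← pow_succ, ← two_mul, ← hK, FiniteField.pow_card]
  have hneg : ∀ t : K, -t = t := CharTwo.neg_eq
  have a0 : ∀ g, g ∈ (certF4.sys K).U (symF4.P 0) ⊓ X.Fx ↔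
      ∃ t, g = (certF4.sys K).wd [(rt 33, f t), (rt 24, t)] := fun g => by
    rw [fix2 P0 (by decide) (π_nd 0) (π_nd 3)]
    simp only [simple_nd, Matrix.cons_val, hX, lam_rt]
    exact ⟨fun ⟨s, e⟩ => ⟨f s ^ 2, by rw [e, map_pow, hff]⟩,
      fun ⟨t, e⟩ => ⟨⟨f t, by simp [simple_nd, hX, lam_rt, hff]⟩, by simp only [e, hff]⟩⟩
  have a1 := fun g => fixB2 (X := X) (g := g) P1 (by decide) (by decide +kernel) (by decide +kernel)
    (by decide +kernel) (by decide +kernel) hff (by simp [hX, lam_rt]) (by simp [hX, lam_rt])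
    (by simp [hX, lam_rt]) (by simp [hX, lam_rt]) (hba _) (hdc _)
  have hcard : ∀ k, Nat.card ↥((certF4.sys K).U (symF4.P k) ⊓ X.Fx) =
      (2 ^ (2 * m + 1)) ^ (![1, 2] k : ℕ) := by
    intro k
    fin_cases k
    · exact (card_fix (by decide +kernel) P0 (fun _ => by simp [simple_nd])
        (fun a b e => by simpa using (by simpa using e : _ ∧ _).2) a0).trans (by simp [hK])
    · refine (card_fix (by decide +kernel) P1 (fun _ => rfl) (fun a b e => ?_) a1).trans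
        (by simp [hK, sq])
      simp only [List.cons.injEq, Prod.mk.injEq, true_and, and_true] at e
      exact Prod.ext e.2.1 (by simpa [e.2.1] using e.2.2.1)
  have e1 : ∀ t : K, t ^ (2 ^ m + 1) = f t * t := fun t => by rw [hf, pow_succ]
  have e2 : ∀ t : K, t ^ (2 * 2 ^ m) = f t ^ 2 := fun t => by rw [hf, ← pow_mul, mul_comm]
  have hgen : twistedF4 K (2 ^ m) ≤ ((certF4.sys K).Up ⊓ X.Fx) ⊔ ((certF4.sys K).Um ⊓ X.Fx) := by
    have key := fun k L => wd_mem_sup (X := X) (k := k) (L := L) O hn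
    refine certF4.gen_le ?_
    rintro _ (⟨t, rfl | rfl⟩ | ⟨t, u, rfl | rfl⟩)
    · exact ⟨_, by simp [val_rt, f4PairWord, hf], (key _ _ ((a0 _).2 ⟨t, rfl⟩)).1⟩
    · exact ⟨_, by simp [val_rt, f4PairWord, hf, hneg], (key _ _ ((a0 _).2 ⟨t, rfl⟩)).2⟩
    · exact ⟨_, by simp [val_rt, b2ClassWord, ← hf, e1, e2], (key _ _ ((a1 _).2 ⟨(t, u), rfl⟩)).1⟩
    · exact ⟨_, by simp [val_rt, b2ClassWord, ← hf, e1, e2, hneg],
        (key _ _ ((a1 _).2 ⟨(t, u), rfl⟩)).2⟩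
  refine ⟨X, f, h2, hf, hff, hX, good_of_om O hn (hgen.trans (sup_le inf_le_right inf_le_right)) ?_
    fun k => ne_of_card ?_, hgen, fun k => ?_, a0, a1⟩
  · intro k g hg
    fin_cases k
    · obtain ⟨t, rfl⟩ := (a0 g).1 hg
      exact ⟨certF4.wd_mem_gen _ (Or.inl ⟨t, Or.inl (by simp [val_rt, f4PairWord, hf])⟩),
        certF4.wd_neg_mem O _ (Or.inl ⟨t, Or.inr (by simp [val_rt, f4PairWord, hf, hneg])⟩)⟩
    · obtain ⟨⟨t, u⟩, rfl⟩ := (a1 g).1 hg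
      exact ⟨certF4.wd_mem_gen _ (Or.inr ⟨t, u, Or.inl (by simp [val_rt, b2ClassWord, ← hf, e1, e2])⟩),
        certF4.wd_neg_mem O _ (Or.inr ⟨t, u, Or.inr (by
          simp [val_rt, b2ClassWord, ← hf, e1, e2, hneg])⟩)⟩
  · rw [hcard]
    exact Nat.one_lt_pow (by fin_cases k <;> simp) (Nat.one_lt_two_pow (by simp))
  · rw [hcard, len, show (![2, 4] k : ℕ) = 2 * ![1, 2] k by fin_cases k <;> rfl, pow_mul,
      Real.sq_sqrt (by positivity)]
    simp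

/-- the twisting maps of the torus -/
def ψ (f : K →+* K) (i : Fin chevF4.rank) : Kˣ →* Kˣ :=
  (powMonoidHom (grF4.lam (chevF4.simple i))).comp (Units.map f.toMonoidHom)

omit [Fintype K] in
lemma mem_fix {f : K →+* K} {c : Fin chevF4.rank → Kˣ} :
    c ∈ fixT symF4 (ψ f) ↔ (c (nd 3) : K) = f (c (nd 0)) ^ 2 ∧ (c (nd 2) : K) = f (c (nd 1)) ^ 2 ∧
      (c (nd 1) : K) = f (c (nd 2)) ∧ (c (nd 0) : K) = f (c (nd 3)) := by
  change (∀ i : Fin 4, c (symF4.π (nd i)) = ψ f (nd i) (c (nd i))) ↔ _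
  have : ∀ i : Fin 4, grF4.lam (chevF4.simple (nd i)) = ![2, 2, 1, 1] i := by decide +kernel
  simp [π_nd, Fin.forall_fin_succ, ψ, this, Units.ext_iff]

variable {X : Tw (certF4.sys K) symF4} {f : K →+* K} (h : Pack X f m)
include h

lemma Pack.lead : Lead (certF4.sys K) (twistedF4 K (2 ^ m)) := by
  have := h.char
  intro (j : Fin 4)
  change ∃ t ≠ 0, ∃ y ∈ (certF4.sys K).U {r | certF4.R.Pos r ∧ r ≠ certF4.R.simple (nd j)},
    (certF4.sys K).x (certF4.R.simple (nd j)) t * y ∈ _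
  have h1 := h.good.pos 1 ((h.mem1 _).2 ⟨(1, 0), rfl⟩)
  have h0 : ∀ i, X.φ (certF4.R.simple i) 1 = 1 := fun i => by simp [h.hX]
  fin_cases j
  · exact h.good.lead_of_orth h0 (orth_of_list (L := [nd 0, nd 3]) P0).1
  · exact lead_of_mid (L := []) (by simp) (by
      simp only [List.map, List.nil_append, certF4.R_pos_iff]; decide +kernel) h1
  · exact lead_of_mid (L := [_]) (by simp) (by
      simp only [List.map, List.nil_append, List.cons_append, certF4.R_pos_iff]; decide +kernel) h1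
  · exact h.good.lead_of_orth h0 (orth_of_list (L := [nd 0, nd 3]) P0).1

lemma Pack.hψ (i) (c : Kˣ) : X.φ (certF4.R.simple i) c = ψ f i c := h.hX _ _

theorem Pack.H_eq : (certF4.sys K).H ⊓ twistedF4 K (2 ^ m) =
    (fixT symF4 (ψ f)).map ((certF4.sys K).nconj.Theta certF4.r3) := by
  have h1 := H_inf_Fx (X := X) certF4.r3 (ChevSys.Theta_injective certF4.adj
    (certF4.cm_injective kerF4 _)) h.hψ
  refine le_antisymm ((inf_le_inf_left _ h.good.le).trans h1.le) ?_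
  rintro _ ⟨c, hc, rfl⟩
  obtain ⟨w, hw⟩ := certF4.act_eq_neg (List.replicate 6 [0, 1, 2, 3]).flatten (by decide +kernel)
  have := h.good.sq_mem_of_neg certF4.adj h.gen hw (h1.ge ⟨_, pow_mem hc (2 ^ m * 2 ^ m), rfl⟩)
  rw [← map_mul, ← sq, show (c ^ (2 ^ m * 2 ^ m)) ^ 2 = c from funext fun i => Units.ext (by
    simpa [h.hf, pow_mul] using h.hff (c i))] at this
  exact ⟨(certF4.sys K).nconj.Theta_mem _ _, this⟩

variable (hK : Fintype.card K = 2 ^ (2 * m + 1))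
include hK

theorem Pack.card_H : Nat.card ↥((certF4.sys K).H ⊓ twistedF4 K (2 ^ m)) =
    (2 ^ (2 * m + 1) - 1) ^ 2 := by
  classical
  rw [h.H_eq, Subgroup.card_map_of_injective (ChevSys.Theta_injective certF4.adj
    (certF4.cm_injective kerF4 _))]
  refine (card_of_param (G := Fin chevF4.rank → Kˣ) (P := Kˣ × Kˣ) (fun p =>
    (![Units.map f.toMonoidHom p.1, Units.map f.toMonoidHom p.2, p.2, p.1] : Fin 4 → Kˣ))
    ?_ ?_).trans ?_
  · exact fun a b e => Prod.ext (congrFun e (nd 3)) (congrFun e (nd 2))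
  · intro c
    rw [mem_fix]
    refine ⟨fun ⟨_, _, a2, a3⟩ => ⟨(c (nd 3), c (nd 2)), funext fun i : Fin 4 => ?_⟩, ?_⟩
    · fin_cases i; exacts [Units.ext a3, Units.ext a2, rfl, rfl]
    · rintro ⟨⟨a, b⟩, rfl⟩
      exact ⟨(h.hff _).symm, (h.hff _).symm, rfl, rfl⟩
  · rw [Nat.card_prod, Nat.card_units, Nat.card_eq_fintype_card, hK, sq]

theorem Pack.card_Up : Nat.card ↥((certF4.sys K).Up ⊓ twistedF4 K (2 ^ m)) =
    (2 ^ (2 * m + 1)) ^ 12 := by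
  have := h.good.card_Up h.card
  rw [certF4.ncard_pos, show chevF4.nroots / 2 = 2 * 12 from rfl, pow_mul,
    Real.sq_sqrt (by positivity)] at this
  exact_mod_cast this

theorem Pack.card_grp : Nat.card (twistedF4 K (2 ^ m)) = (2 ^ (2 * m + 1)) ^ 12 *
    (2 ^ (2 * m + 1) - 1) * ((2 ^ (2 * m + 1)) ^ 3 + 1) * ((2 ^ (2 * m + 1)) ^ 4 - 1) *
    ((2 ^ (2 * m + 1)) ^ 6 + 1) := by
  have h1 := h.good.card h.card
  rw [certF4.ncard_pos, poinTF4, h.card_H hK, show chevF4.nroots / 2 = 24 from rfl] at h1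
  have h2 : 1 ≤ 2 ^ (2 * m + 1) := Nat.one_le_two_pow
  have h3 : √(2 ^ (2 * m + 1)) ^ 2 = ((2 ^ (2 * m + 1) : ℕ) : ℝ) := by
    rw [Real.sq_sqrt (by positivity)]; simp
  generalize √(2 ^ (2 * m + 1) : ℝ) = x at h1 h3
  generalize 2 ^ (2 * m + 1) = q at *
  rify [h1, h2, Nat.one_le_pow _ _ h2, ← h3, poly, List.foldr]
  ring

theorem Pack.perfect (hm : 1 ≤ m) : commutator (twistedF4 K (2 ^ m)) = ⊤ := by
  obtain ⟨a, ha⟩ := exists_gen (K := K)
  have he : 2 ≤ 2 ^ m := Nat.le_self_pow (by omega) 2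
  rw [hK, show 2 ^ (2 * m + 1) = 2 * 2 ^ m * 2 ^ m by ring] at ha
  have hA : ∀ (i : Fin 4) (j : Fin 6), certF4.R.A (nd i) (rt (![33, 24, 27, 25, 28, 30] j)) =
      mat [[2, 0, -1, 0, -1, -2], [], [], [0, 2, 0, -1, -1, -1]] i j ∨ i = 1 ∨ i = 2 := by
    decide +kernel
  have key : ∀ j : Fin 6, ∏ i : Fin 4, (![a ^ 2 ^ m, 1, 1, a] : Fin 4 → Kˣ) i ^
      certF4.R.A (nd i) (rt (![33, 24, 27, 25, 28, 30] j)) ≠ 1 := fun j => by
    generalize 2 ^ m = e at he ha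
    simp only [Fin.prod_univ_four, Matrix.cons_val, one_zpow, mul_one, (hA 0 j).resolve_right
      (by decide), (hA 3 j).resolve_right (by decide), ← zpow_natCast, ← zpow_mul, ← zpow_add]
    refine pow_ne_of_gen ha ?_ (abs_lt.2 ⟨?_, ?_⟩) <;> fin_cases j <;> simp [mat] <;> nlinarith
  have hc := h.H_eq.ge ⟨(![a ^ 2 ^ m, 1, 1, a] : Fin 4 → Kˣ), mem_fix.2 ⟨by
    simpa [nd, h.hf] using (h.hff a).symm, by simp [nd], by simp [nd], by simp [nd, h.hf]⟩, rfl⟩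
  refine h.good.perfect h.gen fun k => h.good.le_comm_of_Theta _ hc.2 fun r hr => ?_
  fin_cases k
  · rcases List.mem_pair.1 ((P0 r).2 hr) with rfl | rfl
    exacts [simple_nd 0 ▸ key 0, simple_nd 3 ▸ key 1]
  · have := (P1 r).2 hr
    simp only [List.mem_cons, List.not_mem_nil, or_false] at this
    rcases this with rfl | rfl | rfl | rfl
    exacts [key 2, key 3, key 4, key 5]

theorem Pack.simple (hm : 1 ≤ m) :
    IsSimpleGroup (twistedF4 K (2 ^ m)) ∧ ¬ IsMulCommutative (twistedF4 K (2 ^ m)) :=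
  h.good.simple certF4.adj (irr_of_mem (by simp) _) h.lead (h.perfect hK hm)

end F4

end Chev

end H6
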