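import Cfsg.Agent.H6.TwF4
import Cfsg.Agent.H6.ChevNorm

/-!
The small Ree groups `²G₂(q)`: the package `G2.Pack`, torus, order, Weyl group, simplicity.
-/

namespace H6.Chev.G2

open Cfsg Cfsg.Lie MorOK StSys Tw

variable {K : Type*} [Field K]

/-- nodes -/
def nd (i : Fin 2) : Fin chevG2.rank := i
/-- roots -/
def rt (i : Fin 12) : Fin chevG2.nroots := i

lemma simple_nd (i : Fin 2) : certG2.R.simple (nd i) = rt (![7, 6] i) := by
  revert i; decide +kernel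

lemma P0 (r) : r ∈ [rt 7, rt 6, rt 8, rt 9, rt 10, rt 11] ↔ r ∈ symG2.P 0 :=
  grG2OK.mem_P _ _ _ _ (by decide +kernel) r

lemma P_eq : symG2.P 0 = {r | certG2.R.Pos r} := Set.ext fun r => by
  rw [← P0, Set.mem_setOf_eq, certG2.R_pos_iff]; revert r; decide +kernel

lemma π_nd (i : Fin 2) : symG2.π (nd i) = nd (![1, 0] i) := by revert i; decide +kernel

lemma val_rt : (rt 7 : ℕ) = g2a ∧ (rt 6 : ℕ) = g2b ∧ (rt 8 : ℕ) = g2ab ∧ (rt 9 : ℕ) = g2aab ∧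
    (rt 10 : ℕ) = g2aaab ∧ (rt 11 : ℕ) = g2aaabb := by decide +kernel

lemma lam_rt : grG2.lam (rt 7) = 3 ∧ grG2.lam (rt 6) = 1 ∧ grG2.lam (rt 8) = 3 ∧
    grG2.lam (rt 9) = 3 ∧ grG2.lam (rt 10) = 1 ∧ grG2.lam (rt 11) = 1 := by decide +kernel

lemma ρ_rt : symG2.ρ (rt 7) = rt 6 ∧ symG2.ρ (rt 6) = rt 7 ∧ symG2.ρ (rt 8) = rt 10 ∧
    symG2.ρ (rt 9) = rt 11 ∧ symG2.ρ (rt 10) = rt 8 ∧ symG2.ρ (rt 11) = rt 9 := by decide +kernel

lemma len (k : Fin 1) : certG2.R.gen.len (symG2.w k) = 6 := by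
  fin_cases k; exact symG2.len_w_eq (by decide +kernel) P0

lemma card_W1 : Nat.card symG2.W1 = 2 := (certG2.R.poin_one _).symm.trans (poinTG2 1)

lemma exists_weyl : Nonempty (symG2.W1 ≃* Multiplicative (ZMod 2)) :=
  have := Fact.mk Nat.prime_two
  ⟨mulEquivOfPrimeCardEq card_W1 (by simp)⟩

section
variable {G : Type*} [Group G] (S : StSys certG2.R K G)

lemma hba (t u : K) : S.x (rt 6) u * S.x (rt 7) t = S.x (rt 7) t * S.x (rt 6) u *
    (S.x (rt 8) (t * u) * (S.x (rt 9) (t ^ 2 * u) * (S.x (rt 10) (-(t ^ 3 * u)) *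
      S.x (rt 11) (-(t ^ 3 * u ^ 2))))) := by
  rw [S.comm _ _ (by decide) (by decide +kernel), certG2.terms_eq
    (L := [(rt 8, -1, 1, 1), (rt 9, 1, 2, 1), (rt 10, 1, 3, 1), (rt 11, 1, 3, 2)]) (by decide +kernel)]
  simp [Odd.neg_pow (show Odd 3 by decide)]

lemma comm3 [CharP K 3] (i j : Fin 12) (h : (i, j) ∈ [(8, 9), (8, 10), (8, 11), (9, 10), (9, 11),
    (10, 11), (6, 8), (6, 9), (6, 11), (7, 10), (7, 11)]) (t u : K) :
    Commute (S.x (rt j) u) (S.x (rt i) t) :=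
  certG2.commute 3 (CharP.cast_eq_zero K 3) S _ _ (by revert i j; decide +kernel) t u

end

/-- the standard word -/
def wU (f : K →+* K) (t u v : K) : List (Fin chevG2.nroots × K) :=
  [(rt 7, f t), (rt 6, t), (rt 8, f t * t + f u), (rt 9, f t ^ 2 * t + f v), (rt 10, u), (rt 11, v)]

lemma map_wU {f : K →+* K} {e : ℕ} (hf : ∀ t, f t = t ^ e) (t u v : K) :
    ((wU f t u v).map fun p => (p.1.1, p.2)) = reeWordU e t u v := by
  simp [wU, reeWordU, val_rt, hf, pow_succ, pow_mul', sq]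

lemma map_wV {f : K →+* K} {e : ℕ} (hf : ∀ t, f t = t ^ e) (t u v : K) :
    ((wU f t u v).map fun p => (chevG2.neg p.1.1, -p.2)) = reeWordV e t u v := by
  rw [reeWordV, ← map_wU hf, ChevalleyDatum.negWord, List.map_map]; rfl

variable [Fintype K] {m : ℕ}

/-- the data of the twisted group -/
structure Pack (X : Tw (certG2.sys K) symG2) (f : K →+* K) (m : ℕ) : Prop where
  char : CharP K 3
  hf : ∀ t, f t = t ^ 3 ^ m
  hff : ∀ t, f (f t) ^ 3 = t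
  hX : ∀ r t, X.φ r t = f t ^ grG2.lam r
  good : X.Good (twistedG2 K (3 ^ m))
  gen : twistedG2 K (3 ^ m) ≤ ((certG2.sys K).Up ⊓ X.Fx) ⊔ ((certG2.sys K).Um ⊓ X.Fx)
  mem : ∀ g, g ∈ (certG2.sys K).Up ⊓ X.Fx ↔
    ∃ p : K × K × K, g = (certG2.sys K).wd (wU f p.1 p.2.1 p.2.2)
  card : Nat.card ↥((certG2.sys K).Up ⊓ X.Fx) = (3 ^ (2 * m + 1)) ^ 3

theorem exists_pack (hK : Fintype.card K = 3 ^ (2 * m + 1)) : ∃ X f, Pack (K := K) X f m := by
  obtain ⟨h3, f, hf⟩ := exists_frob (k := m) Nat.prime_three hK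
  have : CharP K grG2.p := h3
  have := Fact.mk Nat.prime_three
  obtain ⟨X, hX, hn⟩ : ∃ X : Tw (certG2.sys K) symG2, (∀ r t, X.φ r t = f t ^ grG2.lam r) ∧
      ∀ r t, X.φ (certG2.R.neg r) (-t) = - X.φ r t :=
    exists_twB grG2OK grG2S symG2C (rk2_of_mem (by simp) _) Nat.prime_three grG2B
      (by decide +kernel) f
  obtain ⟨O⟩ := certG2.om (K := K) exists_omG2
  have hff : ∀ t, f (f t) ^ 3 = t := fun t => by
    rw [hf, hf, ← pow_mul, ← pow_mul, ← mul_assoc, ← pow_add, ← pow_succ, ← two_mul, ← hK,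
      FiniteField.pow_card]
  have key : ∀ t₁ t₂ t₃ t₄ t₅ t₆, (certG2.sys K).wd ([(rt 7, t₁), (rt 6, t₂), (rt 8, t₃), (rt 9, t₄),
      (rt 10, t₅), (rt 11, t₆)].map fun p => (symG2.ρ p.1, X.φ p.1 p.2)) =
      (certG2.sys K).wd [(rt 7, f t₂), (rt 6, f t₁ ^ 3), (rt 8, f t₂ * f t₁ ^ 3 + f t₅),
        (rt 9, f t₂ ^ 2 * f t₁ ^ 3 + f t₆), (rt 10, -(f t₂ ^ 3 * f t₁ ^ 3) + f t₃ ^ 3),
        (rt 11, -(f t₂ ^ 3 * (f t₁ ^ 3) ^ 2) + f t₄ ^ 3)] := fun t₁ t₂ t₃ t₄ t₅ t₆ => by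
    simp only [List.map, wd_cons, ρ_rt, hX, lam_rt, pow_one]
    rw [← mul_assoc, hba]
    have c := fun i j h t u => (comm3 (certG2.sys K).toStSys i j h t u).left_comm
    simp only [mul_assoc, x_mul_x_mul, c 8 9 (by decide), c 8 10 (by decide), c 8 11 (by decide),
      c 9 10 (by decide), c 9 11 (by decide), c 10 11 (by decide)]
  have a0 : ∀ g, g ∈ (certG2.sys K).U (symG2.P 0) ⊓ X.Fx ↔
      ∃ p : K × K × K, g = (certG2.sys K).wd (wU f p.1 p.2.1 p.2.2) := fun g => by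
    rw [mem_U_Fx (by decide) P0]
    refine ⟨?_, fun ⟨p, e⟩ => ⟨_, rfl, e, ?_⟩⟩
    · rintro ⟨_ | ⟨⟨r₁, t₁⟩, _ | ⟨⟨r₂, t₂⟩, _ | ⟨⟨r₃, t₃⟩, _ | ⟨⟨r₄, t₄⟩, _ | ⟨⟨r₅, t₅⟩,
        _ | ⟨⟨r₆, t₆⟩, _ | _⟩⟩⟩⟩⟩⟩, h, rfl, e⟩ <;>
        simp only [List.map, List.cons.injEq, reduceCtorEq, and_false, and_true] at h
      obtain ⟨rfl, rfl, rfl, rfl, rfl, rfl⟩ := h
      have := (certG2.sys K).inj.wd_inj (w := [(rt 7, t₁), (rt 6, t₂), (rt 8, t₃), (rt 9, t₄),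
        (rt 10, t₅), (rt 11, t₆)])
        (by rfl) (by simp only [List.map]; decide) (fun r hr => ((P0 r).1 hr).1)
        (e.symm.trans (key _ _ _ _ _ _))
      simp only [List.cons.injEq, Prod.mk.injEq, true_and, and_true] at this
      obtain ⟨rfl, -, h3, h4, -⟩ := this
      exact ⟨(t₂, t₅, t₆), by rw [h3, h4, hff]; rfl⟩
    · have hadd : ∀ a b : K, (a + b) ^ 3 = a ^ 3 + b ^ 3 := fun a b => add_pow_char a b 3
      rw [wU, key]
      simp only [map_add, map_mul, map_pow, hadd, mul_pow, hff, ← pow_right_comm _ 3 2]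
      simp [mul_comm]
  have hcard := (card_fix (by decide) P0 (fun _ => rfl) (fun a b e => by
    simp only [wU, List.cons.injEq, Prod.mk.injEq, true_and, and_true] at e
    exact Prod.ext e.2.1 (Prod.ext e.2.2.2.2.1 e.2.2.2.2.2)) a0).trans
      (show _ = (3 ^ (2 * m + 1)) ^ 3 by simp [hK, pow_three])
  have hgen : twistedG2 K (3 ^ m) ≤ ((certG2.sys K).Up ⊓ X.Fx) ⊔ ((certG2.sys K).Um ⊓ X.Fx) := by
    have key := fun k L => wd_mem_sup (X := X) (k := k) (L := L) O hn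
    refine certG2.gen_le ?_
    rintro _ ⟨t, u, v, rfl | rfl⟩
    · exact ⟨_, map_wU hf t u v, (key _ _ ((a0 _).2 ⟨(t, u, v), rfl⟩)).1⟩
    · exact ⟨_, (List.map_map ..).trans (map_wV hf t u v), (key _ _ ((a0 _).2 ⟨(t, u, v), rfl⟩)).2⟩
  refine ⟨X, f, h3, hf, hff, hX, good_of_om O hn (hgen.trans (sup_le inf_le_right inf_le_right)) ?_
    fun k => ne_of_card ?_, hgen, by rwa [P_eq] at a0, by rwa [P_eq] at hcard⟩
  · intro k g hg
    obtain rfl := Subsingleton.elim k 0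
    obtain ⟨⟨t, u, v⟩, rfl⟩ := (a0 g).1 hg
    exact ⟨certG2.wd_mem_gen _ ⟨t, u, v, Or.inl (map_wU hf t u v)⟩,
      certG2.wd_neg_mem O _ ⟨t, u, v, Or.inr (map_wV hf t u v)⟩⟩
  · obtain rfl := Subsingleton.elim k 0
    rw [hcard]
    exact Nat.one_lt_pow (by simp) (Nat.one_lt_pow (by simp) (by simp))

/-- the twisting maps of the torus -/
def ψ (f : K →+* K) (i : Fin chevG2.rank) : Kˣ →* Kˣ :=
  (powMonoidHom (grG2.lam (chevG2.simple i))).comp (Units.map f.toMonoidHom)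

omit [Fintype K] in
lemma mem_fix {f : K →+* K} {c : Fin chevG2.rank → Kˣ} :
    c ∈ fixT symG2 (ψ f) ↔ (c (nd 1) : K) = f (c (nd 0)) ^ 3 ∧ (c (nd 0) : K) = f (c (nd 1)) := by
  change (∀ i : Fin 2, c (symG2.π (nd i)) = ψ f (nd i) (c (nd i))) ↔ _
  have : ∀ i : Fin 2, grG2.lam (chevG2.simple (nd i)) = ![3, 1] i := by decide +kernel
  simp [π_nd, Fin.forall_fin_succ, ψ, this, Units.ext_iff]

/-- parameters of the torus -/
def par (f : K →+* K) : Kˣ →* (Fin chevG2.rank → Kˣ) :=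
  MonoidHom.mk' (fun a => (![Units.map f.toMonoidHom a, a] : Fin 2 → Kˣ)) fun a b =>
    funext fun i : Fin 2 => by fin_cases i; exacts [map_mul _ a b, rfl]

/-- the standard torus elements -/
noncomputable def tor (f : K →+* K) : Kˣ →* GL chevG2.Idx K :=
  ((certG2.sys K).nconj.Theta certG2.r3).comp (par f)

omit [Fintype K] in
lemma tor_injective (f : K →+* K) : Function.Injective (tor f) := 
  (ChevSys.Theta_injective certG2.adj (certG2.cm_injective kerG2 _)).comp (f := par f) fun _ _ e =>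
    congrFun e (nd 1)

variable {X : Tw (certG2.sys K) symG2} {f : K →+* K} (h : Pack X f m)
include h

lemma Pack.Up_eq : (certG2.sys K).Up ⊓ twistedG2 K (3 ^ m) = (certG2.sys K).Up ⊓ X.Fx :=
  h.good.U_inf fun _ h => h

lemma Pack.wU_mem (t u v : K) : (certG2.sys K).wd (wU f t u v) ∈ twistedG2 K (3 ^ m) :=
  h.good.Up_le ((h.mem _).2 ⟨(t, u, v), rfl⟩)

lemma Pack.wV_mem (t u v : K) : (certG2.sys K).wd ((wU f t u v).map fun p =>
    (certG2.R.neg p.1, -p.2)) ∈ twistedG2 K (3 ^ m) :=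
  certG2.wd_mem_gen _ ⟨t, u, v, Or.inr ((List.map_map ..).trans (map_wV h.hf t u v))⟩

lemma Pack.lead : Lead (certG2.sys K) (twistedG2 K (3 ^ m)) := by
  intro (j : Fin 2)
  change ∃ t ≠ 0, ∃ y ∈ (certG2.sys K).U {r | certG2.R.Pos r ∧ r ≠ certG2.R.simple (nd j)},
    (certG2.sys K).x (certG2.R.simple (nd j)) t * y ∈ _
  have h1 := h.wU_mem 1 0 0
  fin_cases j
  · exact lead_of_mid (L := []) (by simp) (by
      simp only [List.map, List.nil_append, certG2.R_pos_iff]; decide +kernel) h1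
  · exact lead_of_mid (L := [_]) (by simp) (by
      simp only [List.map, List.nil_append, List.cons_append, certG2.R_pos_iff]; decide +kernel) h1

lemma Pack.H_inf_Fx : (certG2.sys K).H ⊓ X.Fx = (tor f).range := by
  rw [Tw.H_inf_Fx (X := X) certG2.r3 (ChevSys.Theta_injective certG2.adj
    (certG2.cm_injective kerG2 _)) (ψ := ψ f) fun i c => h.hX _ _, tor, MonoidHom.range_comp]
  congr 1
  ext c
  rw [mem_fix]
  refine ⟨fun hc => ⟨c (nd 1), funext fun i : Fin 2 => ?_⟩, ?_⟩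
  · fin_cases i; exacts [Units.ext hc.2.symm, rfl]
  · rintro ⟨a, rfl⟩
    exact ⟨(h.hff a).symm, rfl⟩

lemma Pack.tor_neg_one : tor f (-1) ∈ twistedG2 K (3 ^ m) := by
  have := h.char
  let w : ℤ → ℤ → ℤ → List (Fin chevG2.nroots × ℤ) := fun t u v =>
    [(rt 7, t), (rt 6, t), (rt 8, t * t + u), (rt 9, t ^ 2 * t + v), (rt 10, u), (rt 11, v)]
  let w' : ℤ → ℤ → ℤ → List (Fin chevG2.nroots × ℤ) := fun t u v =>
    (w t u v).map fun p => (certG2.R.neg p.1, -p.2)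
  have h1 : ∀ t u v, (certG2.sys K).wd ((w t u v).map fun a => (a.1, (a.2 : K))) ∈ twistedG2 K (3 ^ m) :=
    fun t u v => by simpa [w, wU] using h.wU_mem t u v
  have h2 : ∀ t u v, (certG2.sys K).wd ((w' t u v).map fun a => (a.1, (a.2 : K))) ∈ twistedG2 K (3 ^ m) :=
    fun t u v => by simpa [w', w, wU] using h.wV_mem t u v
  have h3 := certG2.wd_eq_of_int (F := K) (p := 3) (by decide) (CharP.cast_eq_zero K 3)
    (w 0 (-1) 0 ++ (w' 0 (-1) 0 ++ (w (-1) 0 0 ++ (w' 0 (-1) 1 ++ w 0 1 (-1)))))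
    ([7, 7, 6, 6].flatMap fun i => [(rt i, -1), (certG2.R.neg (rt i), 1), (rt i, -1)])
    (by decide +kernel)
  have h4 := mul_mem (h1 0 (-1) 0) (mul_mem (h2 0 (-1) 0) (mul_mem (h1 (-1) 0 0)
    (mul_mem (h2 0 (-1) 1) (h1 0 1 (-1)))))
  simp only [← wd_append, ← List.map_append, h3] at h4
  rw [tor, MonoidHom.comp_apply, (certG2.sys K).nconj.Theta_eq_prod _ _ (L := [nd 0, nd 1])
    (by decide) (by decide)]
  have e : ∀ i : Fin 2, (par f (-1 : Kˣ) (nd i) : K) = -1 := fun i => by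
    fin_cases i; exacts [(map_neg f 1).trans (by simp), rfl]
  simpa [simple_nd, StSys.h, StSys.n, wd_cons, mul_assoc, e] using h4

variable (hK : Fintype.card K = 3 ^ (2 * m + 1))
include hK

theorem Pack.H_eq : (certG2.sys K).H ⊓ twistedG2 K (3 ^ m) = (tor f).range := by
  refine le_antisymm ((inf_le_inf_left _ h.good.le).trans h.H_inf_Fx.le) ?_
  rintro _ ⟨c, rfl⟩
  refine ⟨(h.H_inf_Fx.ge ⟨c, rfl⟩).1, ?_⟩
  obtain ⟨w, hw⟩ := certG2.act_eq_neg [0, 1, 0, 1, 0, 1] (by decide +kernel)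
  obtain ⟨k, hk⟩ : ∃ k, Fintype.card K = 4 * k + 3 := ⟨Fintype.card K / 4, by
    have : Fintype.card K % 4 = 3 := by rw [hK, pow_succ, pow_mul, Nat.mul_mod, Nat.pow_mod]; simp
    omega⟩
  have h1 := h.good.sq_mem_of_neg certG2.adj h.gen hw (h.H_inf_Fx.ge ⟨c ^ (k + 1), rfl⟩)
  have h2 : (c ^ (2 * k + 1)) ^ 2 = 1 := Units.ext (by
    have := FiniteField.pow_card_sub_one_eq_one (c : K) c.ne_zero
    rw [hk] at this
    simpa [← pow_mul, show (2 * k + 1) * 2 = 4 * k + 3 - 1 by omega] using this)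
  rw [← map_mul, show c ^ (k + 1) * c ^ (k + 1) = c * c ^ (2 * k + 1) by group] at h1
  rcases (Units.inv_eq_self_iff _).1 (inv_eq_of_mul_eq_one_left ((sq _).symm.trans h2)) with e | e
  · simpa [e] using h1
  · simpa [e, ← map_mul] using mul_mem h1 h.tor_neg_one

theorem Pack.card_H : Nat.card ↥((certG2.sys K).H ⊓ twistedG2 K (3 ^ m)) = 3 ^ (2 * m + 1) - 1 := by
  classical
  rw [h.H_eq hK, ← Nat.card_congr (MonoidHom.ofInjective (tor_injective f)).toEquiv, Nat.card_units,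
    Nat.card_eq_fintype_card, hK]

theorem Pack.card_grp : Nat.card (twistedG2 K (3 ^ m)) =
    (3 ^ (2 * m + 1)) ^ 3 * (3 ^ (2 * m + 1) - 1) * ((3 ^ (2 * m + 1)) ^ 3 + 1) := by
  have h3 : √(3 ^ (2 * m + 1)) ^ 2 = ((3 ^ (2 * m + 1) : ℕ) : ℝ) := by
    rw [Real.sq_sqrt (by positivity)]; simp
  have h1 := h.good.card (x := √(3 ^ (2 * m + 1))) fun k => by
    obtain rfl := Subsingleton.elim k 0
    rw [len, P_eq, show 6 = 2 * 3 from rfl, pow_mul, h3, ← Nat.cast_pow, ← h.card]; rfl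
  rw [certG2.ncard_pos, poinTG2, h.card_H hK, show chevG2.nroots / 2 = 6 from rfl] at h1
  have h2 : 1 ≤ 3 ^ (2 * m + 1) := Nat.one_le_pow _ _ (by simp)
  generalize √(3 ^ (2 * m + 1) : ℝ) = x at h1 h3
  generalize 3 ^ (2 * m + 1) = q at *
  rify [h1, h2, ← h3, poly, List.foldr]
  ring

omit h hK in
lemma prod_tor (a : Kˣ) (e : ℕ) (j : Fin 6) : ∏ i : Fin 2, (![a ^ e, a] : Fin 2 → Kˣ) i ^
    certG2.R.A (nd i) (rt (![7, 6, 8, 9, 10, 11] j)) =
    a ^ (![2 * e - 1, 2 - 3 * e, 1 - e, e, 3 * e - 1, 1] : Fin 6 → ℤ) j := by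
  have hA : ∀ (i : Fin 2) (j : Fin 6), certG2.R.A (nd i) (rt (![7, 6, 8, 9, 10, 11] j)) =
      mat [[2, -3, -1, 1, 3, 0], [-1, 2, 1, 0, -1, 1]] i j := by decide +kernel
  simp only [Fin.prod_univ_two, Matrix.cons_val, hA, ← zpow_natCast, ← zpow_mul, ← zpow_add]
  congr 1
  fin_cases j <;> simp [mat] <;> ring

theorem Pack.perfect (hm : 1 ≤ m) : commutator (twistedG2 K (3 ^ m)) = ⊤ := by
  obtain ⟨a, ha⟩ := exists_gen (K := K)
  have he : 3 ≤ 3 ^ m := Nat.le_self_pow (by omega) 3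
  rw [hK, show 3 ^ (2 * m + 1) = 3 * 3 ^ m * 3 ^ m by ring] at ha
  have key : ∀ j : Fin 6, ∏ i : Fin 2, (![a ^ 3 ^ m, a] : Fin 2 → Kˣ) i ^
      certG2.R.A (nd i) (rt (![7, 6, 8, 9, 10, 11] j)) ≠ 1 := fun j => by
    generalize 3 ^ m = e at he ha
    rw [prod_tor]
    refine pow_ne_of_gen ha ?_ (abs_lt.2 ⟨?_, ?_⟩) <;> fin_cases j <;> simp <;> nlinarith
  have hc : (certG2.sys K).nconj.Theta certG2.r3 (![a ^ 3 ^ m, a] : Fin 2 → Kˣ) ∈
      twistedG2 K (3 ^ m) := by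
    rw [show a ^ 3 ^ m = Units.map f.toMonoidHom a from Units.ext (h.hf a).symm]
    exact ((h.H_eq hK).ge ⟨a, rfl⟩).2
  refine h.good.perfect h.gen fun k => h.good.le_comm_of_Theta _ hc fun r hr => ?_
  obtain rfl := Subsingleton.elim k 0
  have := (P0 r).2 hr
  simp only [List.mem_cons, List.not_mem_nil, or_false] at this
  rcases this with rfl | rfl | rfl | rfl | rfl | rfl
  exacts [key 0, key 1, key 2, key 3, key 4, key 5]

theorem Pack.simple (hm : 1 ≤ m) :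
    IsSimpleGroup (twistedG2 K (3 ^ m)) ∧ ¬ IsMulCommutative (twistedG2 K (3 ^ m)) :=
  h.good.simple certG2.adj (irr_of_mem (by simp) _) h.lead (h.perfect hK hm)

end H6.Chev.G2
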