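import Cfsg.Agent.H6.TwD4
import Cfsg.Agent.H6.AutOut

/-!
# Outer automorphisms of the twisted groups whose orbits of nodes are orthogonal
-/

set_option autoImplicit false
set_option linter.unusedSectionVars false

noncomputable section

namespace H6

open Cfsg StSys
open scoped commutatorElement

variable {Φ ι κ : Type} [Fintype ι] [DecidableEq ι] {R : RS Φ ι} {F : Type*} [Field F]
  {G : Type*} [Group G]

namespace Sym
variable (T : Sym R κ) (f : F →+* F)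

open Classical in
/-- the nodes of an orbit -/
def Lk (k : κ) : List ι := (Finset.univ.filter (T.cls · = k)).toList

lemma mem_Lk {k : κ} {i : ι} : i ∈ T.Lk k ↔ T.cls i = k := by simp [Lk]
lemma nodup_Lk (k : κ) : (T.Lk k).Nodup := Finset.nodup_toList _

/-- the field of definition of an orbit -/
def Kb (b : ι) : Subfield F where
  carrier := {t | ∀ n : ℕ, (T.π ^ n) b = b → (f ^ n) t = t}
  one_mem' _ _ := map_one _
  zero_mem' _ _ := map_zero _
  mul_mem' ha hb n h := by rw [map_mul, ha n h, hb n h]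
  add_mem' ha hb n h := by rw [map_add, ha n h, hb n h]
  neg_mem' ha n h := by rw [map_neg, ha n h]
  inv_mem' _ ha n h := by rw [map_inv₀, ha n h]

open Classical in
/-- the coordinates of a fixed point -/
def tau (b i : ι) : F →+* F := f ^ (if h : T.cls b = T.cls i then (T.cls_eq b i h).choose else 0)

lemma cls_pow (n : ℕ) (b : ι) : T.cls ((T.π ^ n) b) = T.cls b := by
  induction n with
  | zero => rfl
  | succ n ih => rw [pow_succ', Equiv.Perm.mul_apply, T.cls_π, ih]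

variable {T f} in
lemma tau_eq {b : ι} {t : F} (ht : t ∈ T.Kb f b) (n : ℕ) : T.tau f b ((T.π ^ n) b) t = (f ^ n) t := by
  have key : ∀ m n : ℕ, m ≤ n → (T.π ^ m) b = (T.π ^ n) b → (f ^ m) t = (f ^ n) t := fun m n h e => by
    obtain ⟨d, rfl⟩ := Nat.exists_eq_add_of_le h
    rw [pow_add, Equiv.Perm.mul_apply, EmbeddingLike.apply_eq_iff_eq] at e
    rw [pow_add, RingHom.mul_def, RingHom.comp_apply, ht d e.symm]
  rw [tau, dif_pos (T.cls_pow n b).symm]
  generalize_proofs h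
  rcases le_total h.choose n with c | c
  exacts [key _ _ c h.choose_spec, (key _ _ c h.choose_spec.symm).symm]

variable {T f} in
lemma tau_self {b : ι} {t : F} (ht : t ∈ T.Kb f b) : T.tau f b b t = t := tau_eq ht 0

variable {T f} in
lemma tau_π {b i : ι} {t : F} (ht : t ∈ T.Kb f b) (h : T.cls i = T.cls b) :
    T.tau f b (T.π i) t = f (T.tau f b i t) := by
  obtain ⟨n, rfl⟩ := T.cls_eq b i h.symm
  rw [← Equiv.Perm.mul_apply, ← pow_succ', tau_eq ht, tau_eq ht, pow_succ']; rfl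

/-- products over an orbit -/
def pk (k : κ) (a : ι → G) : G := ((T.Lk k).map a).prod

lemma pk_congr {k : κ} {a a' : ι → G} (h : ∀ i, T.cls i = k → a i = a' i) : T.pk k a = T.pk k a' :=
  congrArg List.prod (List.map_congr_left fun i hi => h i (T.mem_Lk.1 hi))

lemma pk_mem {k : κ} {a : ι → G} {K : Subgroup G} (h : ∀ i, T.cls i = k → a i ∈ K) : T.pk k a ∈ K :=
  list_prod_mem (by simp only [List.mem_map]; rintro _ ⟨i, hi, rfl⟩; exact h i (T.mem_Lk.1 hi))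

variable {T} {k : κ} (hk : T.Orth k) (S : StSys R F G)
include hk

lemma Orth.pk_mul {a a' : ι → G} (h : ∀ i, a i ∈ S.U {r | R.InJ {i} r})
    (h' : ∀ i, a' i ∈ S.U {r | R.InJ {i} r}) : T.pk k a * T.pk k a' = T.pk k fun i => a i * a' i :=
  (prod_map_mul_of_pairwise _ _ ((T.nodup_Lk k).imp_of_mem fun hi hj hij =>
    hk.commute S (T.mem_Lk.1 hi) (T.mem_Lk.1 hj) hij (h' _) (h _))).symm

lemma Orth.pk_inv {a : ι → G} (h : ∀ i, a i ∈ S.U {r | R.InJ {i} r}) :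
    (T.pk k a)⁻¹ = T.pk k fun i => (a i)⁻¹ := by
  rw [inv_eq_iff_mul_eq_one, hk.pk_mul S h fun i => inv_mem (h i)]; simp [pk]

lemma Orth.pk_π {a : ι → G} (h : ∀ i, a i ∈ S.U {r | R.InJ {i} r}) :
    T.pk k (fun i => a (T.π i)) = T.pk k a := by
  have hp : ((T.Lk k).map T.π).Perm (T.Lk k) := (List.perm_ext_iff_of_nodup
    ((T.nodup_Lk k).map T.π.injective) (T.nodup_Lk k)).2 fun i => by
      obtain ⟨i, rfl⟩ := T.π.surjective i
      rw [List.mem_map_of_injective T.π.injective, mem_Lk, mem_Lk, T.cls_π]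
  have := (hp.map a).symm.prod_eq' (List.pairwise_map.2 ((T.nodup_Lk k).imp_of_mem fun hi hj hij =>
    hk.commute S (T.mem_Lk.1 hi) (T.mem_Lk.1 hj) hij (h _) (h _)))
  rw [pk, pk, this, List.map_map]; rfl

end Sym

namespace Tw
variable {S : ChevSys R F G} {T : Sym R κ} {X : Tw S T} {f : F →+* F}

variable (X f) in
/-- simple roots or their negatives -/
structure SR (A : κ → Set Φ) (r : ι → Φ) : Prop where
  orth : ∀ k, T.Orth k
  inJ : ∀ i, R.InJ {i} (r i)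
  ρ : ∀ i, T.ρ (r i) = r (T.π i)
  φ : ∀ i t, X.φ (r i) t = f t
  inj : Function.Injective r
  mem : ∀ k s, s ∈ A k ↔ ∃ i, T.cls i = k ∧ r i = s
  closed : ∀ k, R.Closed (A k)
  pos : ∃ e, ∀ i, 0 < R.fv e (r i)

lemma srP (h : ∀ k, T.Orth k) (hφ : ∀ i t, X.φ (R.simple i) t = f t) : X.SR f T.P R.simple where
  orth := h
  inJ := R.inJ_self
  ρ := T.ρ_simple
  φ := hφ
  inj := R.simple_injective
  mem k s := ⟨fun hs => by
    obtain ⟨i, rfl⟩ := h k s hs
    exact ⟨i, R.inJ_simple.1 hs.2, rfl⟩, by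
    rintro ⟨i, hi, rfl⟩; exact ⟨R.pos_simple i, R.inJ_simple.2 hi⟩⟩
  closed := T.closed_P
  pos := ⟨_, fun i => R.fv_one_pos (R.pos_simple i)⟩

lemma srM (h : ∀ k, T.Orth k) (hφ : ∀ i t, X.φ (R.simple i) t = f t) :
    X.SR f T.M fun i => R.neg (R.simple i) where
  orth := h
  inJ := R.inJ_self'
  ρ i := by rw [T.ρ_neg, T.ρ_simple]
  φ i t := by
    by_cases ht : t = 0
    · exact (S.inj.x_eq_one (by rw [← X.σ_x, ht, x_zero, X.σ_one])).trans (by simp [ht])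
    · simpa [hφ] using X.φ_neg i (-t⁻¹) (by simpa)
  inj _ _ e := R.simple_injective (R.neg_inj e)
  mem k s := ⟨fun hs => by
    obtain ⟨i, e⟩ := h k (R.neg s) ⟨(R.pos_neg_iff s).2 hs.1, R.inJ_neg.2 hs.2⟩
    exact ⟨i, R.inJ_simple.1 (e ▸ R.inJ_neg.2 hs.2), by rw [← e, R.neg_neg]⟩, by
    rintro ⟨i, hi, rfl⟩
    exact ⟨fun e => (R.pos_neg_iff _).1 e (R.pos_simple i), R.inJ_neg.2 (R.inJ_simple.2 hi)⟩⟩
  closed := T.closed_M
  pos := ⟨-fun _ => 1, fun i => by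
    rw [R.fv_neg_fun, R.fv_neg, neg_neg]; exact R.fv_one_pos (R.pos_simple i)⟩

namespace SR
variable {A : κ → Set Φ} {r : ι → Φ} (h : X.SR f A r)
include h

lemma xm (t : ι → F) (i : ι) : S.x (r i) (t i) ∈ S.U {s | R.InJ {i} s} := S.x_mem_U (h.inJ i) _

lemma pk_inj {k : κ} {t t' : ι → F} (e : T.pk k (fun i => S.x (r i) (t i)) =
    T.pk k fun i => S.x (r i) (t' i)) {i : ι} (hi : T.cls i = k) : t i = t' i := by
  obtain ⟨g, hg⟩ := h.pos
  have := S.inj.nf_unique (f := g) ((T.nodup_Lk k).map h.inj) (by simp [hg]) (t := Function.extend r t 0)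
    (t' := Function.extend r t' 0) (by simpa [pr, Sym.pk, Function.comp_def, h.inj.extend_apply] using e) _
    (List.mem_map_of_mem (T.mem_Lk.2 hi))
  rwa [h.inj.extend_apply, h.inj.extend_apply] at this

theorem fix (b : ι) {g : G} : g ∈ S.U (A (T.cls b)) ⊓ X.Fx ↔
    ∃ t : T.Kb f b, g = T.pk (T.cls b) fun i => S.x (r i) (T.tau f b i t) := by
  classical
  refine ⟨fun hg => ?_, ?_⟩
  · obtain ⟨e, he⟩ := h.pos
    obtain ⟨t, rfl⟩ := S.exists_nf (f := e) (h.closed _) (fun s hs => by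
      obtain ⟨i, -, rfl⟩ := (h.mem _ s).1 hs; exact he i) ((T.nodup_Lk (T.cls b)).map h.inj)
      (fun s => by simp [h.mem, T.mem_Lk]) hg.1
    have h1 := hg.2.2
    rw [pr_eq_wd, σ_wd] at h1
    simp only [wd, List.map_map, Function.comp_def, h.ρ, h.φ] at h1
    have h2 : ∀ i, T.cls i = T.cls b → t (r (T.π i)) = f (t (r i)) := fun i hi => by
      simpa using h.pk_inj (t := fun i => t (r i)) (t' := fun i => f (t (r (T.π.symm i)))) (i := T.π i)
        (h1.symm.trans (by rw [← (h.orth _).pk_π _ (h.xm _)]; simp [Sym.pk])) ((T.cls_π i).trans hi)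
    have h3 : ∀ n : ℕ, (f ^ n) (t (r b)) = t (r ((T.π ^ n) b)) := fun n => by
      induction n with
      | zero => rfl
      | succ n ih => rw [pow_succ', pow_succ', Equiv.Perm.mul_apply, h2 _ (T.cls_pow n b), ← ih]; rfl
    have h4 : t (r b) ∈ T.Kb f b := fun n e => by rw [h3, e]
    refine ⟨⟨_, h4⟩, Eq.trans (by simp [pr, Sym.pk, Function.comp_def]) (T.pk_congr
      (a := fun i => S.x (r i) (t (r i))) fun i hi => ?_)⟩
    obtain ⟨n, rfl⟩ := T.cls_eq b i hi.symm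
    rw [Sym.tau_eq h4, h3]
  · rintro ⟨t, rfl⟩
    exact ⟨T.pk_mem fun i hi => S.x_mem_U ((h.mem _ _).2 ⟨i, hi, rfl⟩) _,
      prod_mem_Fx (h.orth _) (T.nodup_Lk _) (fun _ => T.mem_Lk) h.inJ h.ρ fun i hi => by
        rw [h.φ, Sym.tau_π t.2 (T.mem_Lk.1 hi)]⟩

end SR

namespace Rk1
variable {Γ : Subgroup G} {k k' : κ} {K K' : Type*} [Field K] [Field K'] (A : Rk1 S T Γ k K)
  (A' : Rk1 S T Γ k' K')

/-- the action of the torus along a bond -/
def Bond (j : K →+* K') : Prop := ∀ t ≠ 0, ∀ u,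
  A.n t * (A.n 1)⁻¹ * A'.x u * (A.n t * (A.n 1)⁻¹)⁻¹ = A'.x ((j t)⁻¹ * u)

variable {A A'} in
lemma Bond.compat {j : K →+* K'} (h : A.Bond A' j) {θ : Γ ≃* Γ} {c : Kˣ} {c' : K'ˣ} {σ : K ≃+* K}
    {σ' : K' ≃+* K'} (h1 : ∀ t, θ (A.x t) = A.x (c * σ t) ∧ θ (A.y t) = A.y ((c⁻¹ : Kˣ) * σ t))
    (h2 : ∀ t, θ (A'.x t) = A'.x (c' * σ' t)) (t : K) : σ' (j t) = j (σ t) := by
  by_cases ht : t = 0
  · simp [ht]
  have hn : ∀ t, θ (A.n t) = A.n (c * σ t) := fun t => by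
    simp only [n, map_mul, h1, map_neg, map_inv₀, mul_inv, Units.val_inv_eq_inv_val, mul_neg]
  have e := congrArg θ (h t ht 1)
  have e1 := h (c * σ t) (by simp [ht]) (j c * c')
  have e2 := h c c.ne_zero (j c * c')
  rw [inv_mul_cancel_left₀ (by simp)] at e2
  simp only [map_mul θ, map_inv θ, hn, h2, map_one, mul_one] at e
  rw [← e2] at e
  have := A'.x_injective (e1.symm.trans (Eq.trans (by group) e))
  simp only [map_mul, map_inv₀] at this
  have h3 : j c ≠ 0 := by simp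
  have h4 : j (σ t) ≠ 0 := by simpa
  have h5 : σ' (j t) ≠ 0 := by simpa
  field_simp at this
  exact this

end Rk1

variable [Fintype Φ] {Γ : Subgroup G} (hΓ : X.Good Γ) (hP : X.SR f T.P R.simple)
  (hM : X.SR f T.M fun i => R.neg (R.simple i))

include hΓ in
lemma Good.inf_eq (k : κ) {g : Γ} : ((g : G) ∈ S.U (T.P k) ↔ (g : G) ∈ S.U (T.P k) ⊓ X.Fx) ∧
    ((g : G) ∈ S.U (T.M k) ↔ (g : G) ∈ S.U (T.M k) ⊓ X.Fx) :=
  ⟨(and_iff_left (hΓ.le g.2)).symm, (and_iff_left (hΓ.le g.2)).symm⟩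

include hP hM in
lemma SR.n_eq (k : κ) (t : ι → F) : T.pk k (fun i => S.x (R.simple i) (t i)) *
    T.pk k (fun i => S.x (R.neg (R.simple i)) (-(t i)⁻¹)) * T.pk k (fun i => S.x (R.simple i) (t i)) =
    T.pk k fun i => S.n (R.simple i) (t i) := by
  rw [(hP.orth k).pk_mul _ (hP.xm _) (hM.xm _), (hP.orth k).pk_mul _
    (fun i => mul_mem (S.x_mem_U (hP.inJ i) _) (S.x_mem_U (hM.inJ i) _)) (hP.xm _)]; rfl

/-- the rank one subgroups -/
def Good.rk1 (b : ι) : Rk1 S T Γ (T.cls b) (T.Kb f b) where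
  x t := ⟨_, hΓ.pos _ ((hP.fix b).2 ⟨t, rfl⟩)⟩
  y t := ⟨_, hΓ.neg _ ((hM.fix b).2 ⟨t, rfl⟩)⟩
  x_add t u := Subtype.ext (by
    simp only [Subgroup.coe_mul, (hP.orth _).pk_mul _ (hP.xm _) (hP.xm _), ← S.add, ← map_add]; rfl)
  y_add t u := Subtype.ext (by
    simp only [Subgroup.coe_mul, (hP.orth _).pk_mul _ (hM.xm _) (hM.xm _), ← S.add, ← map_add]; rfl)
  x_inj t e := Subtype.ext ((Sym.tau_self t.2).symm.trans (hP.pk_inj (i := b) (t' := 0)
    ((congrArg Subtype.val e).trans (by simp [Sym.pk])) rfl))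
  y_inj t e := Subtype.ext ((Sym.tau_self t.2).symm.trans (hM.pk_inj (i := b) (t' := 0)
    ((congrArg Subtype.val e).trans (by simp [Sym.pk])) rfl))
  mem_x g := by simp only [(hΓ.inf_eq _).1, hP.fix b, Subtype.ext_iff]
  mem_y g := by simp only [(hΓ.inf_eq _).2, hM.fix b, Subtype.ext_iff]
  n_mem t ht := by
    have := hP.n_eq hM (T.cls b) fun i => T.tau f b i t
    simp only [← map_inv₀, ← map_neg] at this
    exact (congrArg (· ∈ S.N) this).mpr (T.pk_mem fun i _ => S.n_mem_N _ (by simpa))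
  conj t ht u := Subtype.ext (by
    have := hP.n_eq hM (T.cls b) fun i => T.tau f b i t
    simp only [← map_inv₀, ← map_neg] at this
    have hn := fun i => S.n_mem_U (R.inJ_self i) (R.inJ_self' i) (T.tau f b i t)
    refine (congrArg (fun g => g * _ * g⁻¹) this).trans ?_
    simp only
    rw [(hP.orth _).pk_inv _ hn, (hP.orth _).pk_mul _ hn (hP.xm _), (hP.orth _).pk_mul _
      (fun i => mul_mem (hn i) (S.x_mem_U (hP.inJ i) _)) fun i => inv_mem (hn i)]
    exact T.pk_congr fun i _ => by rw [S.nconj.n_x i (by simpa)]; simp)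

lemma Good.rk1_x (b : ι) (t : T.Kb f b) : ((hΓ.rk1 hP hM b).x t : G) =
    T.pk (T.cls b) fun i => S.x (R.simple i) (T.tau f b i t) := rfl
lemma Good.rk1_y (b : ι) (t : T.Kb f b) : ((hΓ.rk1 hP hM b).y t : G) =
    T.pk (T.cls b) fun i => S.x (R.neg (R.simple i)) (T.tau f b i t) := rfl

lemma Good.bond {b b' : ι} (hle : T.Kb f b ≤ T.Kb f b') (h1 : R.A b (R.simple b') = -1)
    (h2 : ∀ i, T.cls i = T.cls b → i ≠ b → R.A i (R.simple b') = 0) :
    (hΓ.rk1 hP hM b).Bond (hΓ.rk1 hP hM b') (Subfield.inclusion hle) := fun t ht u => by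
  have hn : ∀ t : T.Kb f b, ((hΓ.rk1 hP hM b).n t : G) = _ := fun t => by
    have := hP.n_eq hM (T.cls b) fun i => T.tau f b i t
    simp only [← map_inv₀, ← map_neg] at this
    exact this
  have hm := fun (t : T.Kb f b) i => S.n_mem_U (R.inJ_self i) (R.inJ_self' i) (T.tau f b i t)
  have h3 : ∀ L : List ι, S.ActsC (L.map fun i => S.h (R.simple i) (T.tau f b i t)).prod 1
      fun s => (L.map fun i => T.tau f b i t ^ R.A i s).prod := fun L => by
    induction L with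
    | nil => exact ActsC.one
    | cons i L ih => simpa [R.pair_simple] using (S.nconj.actsC_h (R.simple i) (t := T.tau f b i t)
        (by simpa)).mul ih
  set g := (hΓ.rk1 hP hM b).n t * ((hΓ.rk1 hP hM b).n 1)⁻¹
  have h4 : (g : G) = T.pk (T.cls b) fun i => S.h (R.simple i) (T.tau f b i t) := by
    simp only [g, Subgroup.coe_mul, Subgroup.coe_inv, hn]
    rw [(hP.orth _).pk_inv _ (hm _), (hP.orth _).pk_mul _ (hm _) fun i => inv_mem (hm _ i)]
    simp [h_eq]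
  replace h3 := h3 (T.Lk (T.cls b))
  rw [show (List.map _ _).prod = (g : G) from h4.symm] at h3
  obtain ⟨v, hv⟩ := ((hΓ.rk1 hP hM b').mem_x (g * (hΓ.rk1 hP hM b').x u * g⁻¹)).1
    (h3.elim_acts.conj_mem_U (fun r hr => hr) (((hΓ.rk1 hP hM b').mem_x _).2 ⟨u, rfl⟩))
  rw [hv]
  congr 1
  have h5 := congrArg Subtype.val hv
  have h6 := map_list_prod (MulAut.conj (g : G)) ((T.Lk (T.cls b')).map
    fun i => S.x (R.simple i) (T.tau f b' i u))
  simp only [List.map_map, Function.comp_def, MulAut.conj_apply, h3.conj] at h6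
  have h7 := hP.pk_inj (h5.symm.trans h6) (i := b') rfl
  rw [Sym.tau_self v.2, Sym.tau_self u.2, List.prod_map_eq_pow_single b _ fun i hi hi' => by
    rw [h2 i (T.mem_Lk.1 hi') hi, zpow_zero], List.count_eq_one_of_mem (T.nodup_Lk _) (T.mem_Lk.2 rfl), h1,
    Sym.tau_self t.2] at h7
  exact Subtype.ext (h7.trans (by rw [zpow_neg_one, pow_one]; rfl))

include hΓ in
lemma Good.le_of (hgen : Γ ≤ (S.Up ⊓ X.Fx) ⊔ (S.Um ⊓ X.Fx)) {M : Subgroup Γ}
    (h : ∀ k (g : Γ), (g : G) ∈ S.U (T.P k) ∨ (g : G) ∈ S.U (T.M k) → g ∈ M) : M = ⊤ := by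
  have : X.Good (M.map Γ.subtype) := ⟨(Subgroup.map_subtype_le _).trans hΓ.le,
    fun k g hg => ⟨⟨g, hΓ.pos k hg⟩, h k _ (Or.inl hg.1), rfl⟩,
    fun k g hg => ⟨⟨g, hΓ.neg k hg⟩, h k _ (Or.inr hg.1), rfl⟩, hΓ.ne⟩
  refine eq_top_iff.2 fun g _ => ?_
  obtain ⟨a, ha, e⟩ := hgen.trans (sup_le this.Up_le this.Um_le) g.2
  exact Subtype.ext e ▸ ha

variable [Finite F] [Finite Γ] (hA : S.Adj) (hR : R.Rk2) (hf : ∀ (σ : F ≃+* F) t, σ (f t) = f (σ t))
  {b : κ → ι} (hb : ∀ k, T.cls (b k) = k)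

include hA hR hf hb in
lemma Good.exists_aut (hgen : Γ ≤ (S.Up ⊓ X.Fx) ⊔ (S.Um ⊓ X.Fx)) (c : ∀ k, (T.Kb f (b k))ˣ)
    (σ : F ≃+* F) : ∃ θ ∈ stdAut S Γ, ∀ k (t u : T.Kb f (b k)), (u : F) = σ t →
      θ ((hΓ.rk1 hP hM _).x t) = (hΓ.rk1 hP hM _).x ((c k).1 * u) ∧
      θ ((hΓ.rk1 hP hM _).y t) = (hΓ.rk1 hP hM _).y ((c k)⁻¹.1 * u) := by
  have hS : S.restrict.Std := ⟨S.toStSys.restrict_grp, S.restrict_adj hA, hR⟩
  let d : ι → Fˣ := fun i => Units.mk0 (T.tau f (b (T.cls i)) i (c (T.cls i))) (by simp)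
  let α := hS.diag d * hS.fld σ
  have hα : α ∈ S.restrict.stdG := mul_mem (hS.diag_mem d) (hS.fld_mem σ)
  have hn : ∀ (n : ℕ) t, σ ((f ^ n) t) = (f ^ n) (σ t) := fun n => by
    induction n with
    | zero => exact fun _ => rfl
    | succ n ih => exact fun t => by rw [pow_succ', RingHom.mul_def, RingHom.comp_apply, hf, ih]; rfl
  have hn' : ∀ b i t, σ (T.tau f b i t) = T.tau f b i (σ t) := fun _ _ => hn _
  let β : Γ →* G := S.grp.subtype.comp (α.toMonoidHom.comp (Subgroup.inclusion fun g hg => (hΓ.le hg).1))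
  have h1 : ∀ (g : Γ) k (r : ι → Φ) (t : ι → F), (g : G) = T.pk k (fun i => S.x (r i) (t i)) →
      β g = T.pk k fun i => S.x (r i) (R.chi d (r i) * σ (t i)) := fun g k r t e => by
    have : Subgroup.inclusion (fun g hg => (hΓ.le hg).1) g = T.pk k fun i => S.restrict.x (r i) (t i) :=
      Subtype.ext (e.trans (by simp [Sym.pk, Function.comp_def]; rfl))
    simp only [β, MonoidHom.comp_apply, this, Sym.pk, map_list_prod, List.map_map, Function.comp_def, α,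
      MulEquiv.coe_toMonoidHom, MulAut.mul_apply, hS.fld_x, hS.diag_x]
    rfl
  have h2 : ∀ k (t u : T.Kb f (b k)), (u : F) = σ t →
      β ((hΓ.rk1 hP hM _).x t) = (hΓ.rk1 hP hM _).x ((c k).1 * u) ∧
      β ((hΓ.rk1 hP hM _).y t) = (hΓ.rk1 hP hM _).y ((c k)⁻¹.1 * u) := fun k t u e => by
    refine ⟨(h1 _ _ _ _ rfl).trans (T.pk_congr fun i hi => ?_),
      (h1 _ _ _ _ rfl).trans (T.pk_congr fun i hi => ?_)⟩ <;> obtain rfl := hi.trans (hb k) <;>
    simp [R.chi_neg, R.chi_simple, d, e, hn']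
  have h3 : ∀ k (t : T.Kb f (b k)), σ t ∈ T.Kb f (b k) := fun k t n e => by rw [← hn, t.2 n e]
  have h4 : Γ.comap β = ⊤ := hΓ.le_of hgen fun k g hg => by
    rw [← hb k] at hg
    rcases hg with hg | hg
    · obtain ⟨t, rfl⟩ := ((hΓ.rk1 hP hM _).mem_x g).1 hg
      exact Subgroup.mem_comap.2 ((h2 k t ⟨_, h3 k t⟩ rfl).1 ▸ SetLike.coe_mem _)
    · obtain ⟨t, rfl⟩ := ((hΓ.rk1 hP hM _).mem_y g).1 hg
      exact Subgroup.mem_comap.2 ((h2 k t ⟨_, h3 k t⟩ rfl).2 ▸ SetLike.coe_mem _)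
  refine ⟨MulEquiv.ofBijective (β.codRestrict Γ fun g => h4.ge trivial) (Finite.injective_iff_bijective.1
    fun a a' e => Subgroup.inclusion_injective (fun g hg => (hΓ.le hg).1) (α.injective (Subtype.ext
      (show β a = β a' from congrArg (Subtype.val : Γ → G) e)))),
    ⟨fun g => ?_, fun g => ?_⟩, fun k t u e => ⟨Subtype.ext (h2 k t u e).1, Subtype.ext (h2 k t u e).2⟩⟩
  · have := hα.1 ⟨g, (hΓ.le g.2).1⟩
    simp only [Up, ChevSys.restrict, restrict_U] at this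
    exact this
  · have := hα.2 ⟨g, (hΓ.le g.2).1⟩
    simp only [Um, ChevSys.restrict, restrict_U] at this
    exact this

include hb in
lemma Good.exists_data {θ : MulAut Γ} (h : θ ∈ stdAut S Γ)
    (hρ : ∀ ρ : Equiv.Perm κ, (∀ k, Nat.card (T.Kb f (b k)) = Nat.card (T.Kb f (b (ρ k)))) →
      (∀ k k', Commute (T.w k) (T.w k') → Commute (T.w (ρ k)) (T.w (ρ k'))) → ρ = 1) (k : κ) :
    ∃ c : (T.Kb f (b k))ˣ, ∃ σ : T.Kb f (b k) ≃+* T.Kb f (b k), ∀ t,
      θ ((hΓ.rk1 hP hM _).x t) = (hΓ.rk1 hP hM _).x (c.1 * σ t) ∧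
      θ ((hΓ.rk1 hP hM _).y t) = (hΓ.rk1 hP hM _).y (c⁻¹.1 * σ t) := by
  obtain ⟨ρ, h1⟩ := hΓ.exists_perm h
  have h2 := fun k => (hΓ.rk1 hP hM (b k)).exists_field (hΓ.rk1 hP hM (b (ρ k))) (hΓ.maps_N h)
    (by rw [hb, hb]; exact (h1 k).2.1) (by rw [hb, hb]; exact (h1 k).2.2)
  obtain rfl := hρ ρ (fun k => by obtain ⟨-, σ, -⟩ := h2 k; exact Nat.card_congr σ.toEquiv) fun k k' e => by
    rw [← commutatorElement_eq_one_iff_commute] at e ⊢
    have h3 := S.mem_H_of_acts (g := (⁅hΓ.nk k, hΓ.nk k'⁆ : Γ)) (mul_mem (mul_mem (mul_mem (hΓ.nk_mem k)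
      (hΓ.nk_mem k')) (inv_mem (hΓ.nk_mem k))) (inv_mem (hΓ.nk_mem k'))) (e ▸ (((hΓ.nk_acts k).mul
      (hΓ.nk_acts k')).mul (hΓ.nk_acts k).inv).mul (hΓ.nk_acts k').inv)
    refine S.eq_one_of_acts_mem_B ((((h1 k).1.mul (h1 k').1).mul (h1 k).1.inv).mul (h1 k').1.inv) ?_
    simpa [commutatorElement_def] using S.H_le_B ((hΓ.maps_H h _).2 h3)
  exact h2 k

include hA hR hf hb hP hM hΓ in
theorem Good.card_stdAut [Fintype κ] (hgen : Γ ≤ (S.Up ⊓ X.Fx) ⊔ (S.Um ⊓ X.Fx))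
    (hρ : ∀ ρ : Equiv.Perm κ, (∀ k, Nat.card (T.Kb f (b k)) = Nat.card (T.Kb f (b (ρ k)))) →
      (∀ k k', Commute (T.w k) (T.w k') → Commute (T.w (ρ k)) (T.w (ρ k'))) → ρ = 1)
    (k₀ : κ) (h0 : T.Kb f (b k₀) = ⊤) (hc : ∀ P : κ → Prop, P k₀ → (∀ k k', T.Kb f (b k) ≤ T.Kb f (b k') →
      R.A (b k) (R.simple (b k')) = -1 → (∀ i, T.cls i = k → i ≠ b k → R.A i (R.simple (b k')) = 0) →
      P k' → P k) → ∀ k, P k) :
    Nat.card (stdAut S Γ) = (∏ k, (Nat.card (T.Kb f (b k)) - 1)) * Nat.card (F ≃+* F) := by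
  choose θ h1 h2 using hΓ.exists_aut hP hM hA hR hf hb hgen
  have h3 : ∀ (σ : F ≃+* F) k (t : T.Kb f (b k)), σ t ∈ T.Kb f (b k) := fun σ k t n e => by
    refine Eq.trans ?_ (congrArg σ (t.2 n e))
    clear e
    induction n with
    | zero => rfl
    | succ n ih => rw [pow_succ', RingHom.mul_def, RingHom.comp_apply, RingHom.comp_apply, hf, ih]
  let e : F ≃+* T.Kb f (b k₀) := (Subfield.topEquiv.symm.trans (RingEquiv.subfieldCongr h0.symm))
  rw [← Nat.card_congr (Equiv.ofBijective (fun p : _ × _ => (⟨θ p.1 p.2, h1 _ _⟩ : stdAut S Γ))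
    ⟨fun p p' a => ?_, fun ⟨α, hα⟩ => ?_⟩), Nat.card_prod, Nat.card_pi]
  · simp only [Nat.card_units]
  · have h4 := fun k t => (hΓ.rk1 hP hM (b k)).x_injective (((h2 p.1 p.2 k t ⟨_, h3 _ k t⟩ rfl).1.symm.trans
      (DFunLike.congr_fun (congrArg Subtype.val a) _)).trans (h2 p'.1 p'.2 k t ⟨_, h3 _ k t⟩ rfl).1)
    have h5 : p.1 = p'.1 := funext fun k => Units.ext (Subtype.ext (by
      simpa using congrArg Subtype.val (h4 k 1)))
    exact Prod.ext h5 (RingEquiv.ext fun t => by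
      have := h4 k₀ (e t)
      simp only [h5, Units.mul_right_inj, Subtype.mk.injEq] at this
      exact this)
  · choose c σ h4 using hΓ.exists_data hP hM hb hα hρ
    have h5 := hc (fun k => ∀ t, ((σ k t : T.Kb f (b k)) : F) = (e.trans ((σ k₀).trans e.symm)) t)
      (fun t => rfl) fun k k' a1 a2 a3 a4 t => ((a4 (Subfield.inclusion a1 t)).symm.trans (congrArg _
        (hΓ.bond hP hM a1 a2 (by rwa [hb])        |>.compat (h4 k) (fun t => (h4 k' t).1) t))).symm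
    refine ⟨(c, e.trans ((σ k₀).trans e.symm)), Subtype.ext (MulEquiv.ext fun g => (hΓ.le_of
      (M := MonoidHom.eqLocus (MulEquiv.toMonoidHom _) α.toMonoidHom) hgen fun k g hg => ?_).ge trivial)⟩
    rw [← hb k] at hg
    rcases hg with hg | hg
    · obtain ⟨t, rfl⟩ := ((hΓ.rk1 hP hM _).mem_x g).1 hg
      exact (h2 _ _ k t _ (h5 k t)).1.trans (h4 k t).1.symm
    · obtain ⟨t, rfl⟩ := ((hΓ.rk1 hP hM _).mem_y g).1 hg
      exact (h2 _ _ k t _ (h5 k t)).2.trans (h4 k t).2.symm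

include hP hΓ in
lemma Good.card_Kb (b : ι) : Nat.card (T.Kb f b) = Nat.card ↥(S.U (T.P (T.cls b)) ⊓ X.Fx) :=
  (card_of_param _ (fun t u e => Subtype.ext ((Sym.tau_self t.2).symm.trans ((hP.pk_inj e (i := b) rfl).trans
    (Sym.tau_self u.2)))) fun _ => hP.fix b).symm

include hA hR hb hΓ in
theorem Good.card_out' [Fintype κ] (ho : ∀ k, T.Orth k) {q : ℕ} (hq : 1 < q) (hf : ∀ t, f t = t ^ q)
    (hφ : ∀ i t, X.φ (R.simple i) t = f t) (hs : IsSimpleGroup Γ ∧ ¬ IsMulCommutative Γ)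
    (hgen : Γ ≤ (S.Up ⊓ X.Fx) ⊔ (S.Um ⊓ X.Fx)) {l : κ → ℕ}
    (hl : ∀ k, Nat.card ↥(S.U (T.P k) ⊓ X.Fx) = q ^ l k)
    (hρ : ∀ ρ : Equiv.Perm κ, (∀ k, l k = l (ρ k)) →
      (∀ k k', Commute (T.w k) (T.w k') → Commute (T.w (ρ k)) (T.w (ρ k'))) → ρ = 1)
    (k₀ : κ) (h0 : Nat.card F = q ^ l k₀) (hc : ∀ P : κ → Prop, P k₀ → (∀ k k',
      T.π (b k) = b k ∨ l k' = l k₀ → R.A (b k) (R.simple (b k')) = -1 →
      (∀ i, T.cls i = k → i ≠ b k → R.A i (R.simple (b k')) = 0) → P k' → P k) → ∀ k, P k) :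
    Nat.card (Out Γ) * Nat.card ↥(S.H ⊓ Γ) = (∏ k, (q ^ l k - 1)) * Nat.card (F ≃+* F) := by
  have hP := srP ho hφ
  have h1 : ∀ k, Nat.card (T.Kb f (b k)) = q ^ l k := fun k => by rw [hΓ.card_Kb hP, hb, hl]
  have h2 : ∀ k, l k = l k₀ → T.Kb f (b k) = ⊤ := fun k e => eq_top_iff.2 fun t _ => by
    obtain ⟨u, rfl⟩ := ((Nat.bijective_iff_injective_and_card (Subtype.val : T.Kb f (b k) → F)).2
      ⟨Subtype.val_injective, by rw [h1, h0, e]⟩).2 t
    exact u.2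
  rw [hΓ.card_out (S.nconj.r3 hA) ((hs.1.eq_bot_or_eq_top_of_normal _ inferInstance).resolve_right
    fun e => hs.2 (Subgroup.center_eq_top_iff.1 e)), hΓ.card_stdAut hP (srM ho hφ) hA hR
    (fun σ t => by rw [hf, hf, map_pow]) hb hgen (fun ρ e => hρ ρ fun k =>
      Nat.pow_right_injective hq ((h1 k).symm.trans ((e k).trans (h1 _)))) k₀ (h2 _ rfl)
    fun P a c => hc P a fun k k' e => c k k' ?_]
  · simp only [h1]
  · rcases e with e | e
    · exact fun t ht n _ => ht n (Equiv.Perm.pow_apply_eq_self_of_apply_eq_self e n)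
    · exact h2 _ e ▸ le_top

end Tw

namespace Chev
open Cfsg.Lie Tw
variable {K : Type*} [Field K] [Fintype K] {q : ℕ} (hq : IsPrimePow q)
include hq

theorem D4.card_out (hK : Fintype.card K = q ^ 3) :
    Nat.card (Out (twistedD4 K q)) = Nat.card (K ≃+* K) := by
  obtain ⟨X, f, h⟩ := D4.exists_pack hq hK
  have h1 := h.good.card_out' certD4.adj (rk2_of_mem (by simp) _) (b := ![D4.nd 1, D4.nd 0])
    (by decide +kernel) D4.orth hq.one_lt h.hf h.φ (h.simple hq hK) h.gen (l := ![1, 3])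
    (fun k => by rw [h.card, D4.len]) (fun ρ e e' => by clear e'; revert ρ; decide) 1 (by simp [hK]) fun P a c k => by
      fin_cases k
      exacts [c 0 1 (Or.inr rfl) (by decide +kernel) (by decide +kernel) a, a]
  have h3 := hq.one_lt
  rw [h.card_H hq hK, Fin.prod_univ_two, mul_comm _ (Nat.card (K ≃+* K))] at h1
  refine Nat.eq_of_mul_eq_mul_right (by have : 0 < q - 1 := by omega
                                        positivity) (h1.trans (congrArg _ ?_))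
  zify [cast_pow_sub_one h3.le, h3.le]
  simp; ring

theorem E6.card_out (hK : Fintype.card K = q ^ 2) :
    Nat.card (Out (twistedE6 K q)) = Nat.gcd 3 (q + 1) * Nat.card (K ≃+* K) := by
  obtain ⟨X, f, h⟩ := E6.exists_pack hq hK
  have hw : ∀ k k', Commute (symE6.w k) (symE6.w k') ↔ (k' : ℕ) ≠ k + 1 ∧ (k : ℕ) ≠ k' + 1 := fun k k' => by
    rw [← commutatorElement_eq_one_iff_commute, commutatorElement_def, Sym.w_inv, Sym.w_inv, Sym.w, Sym.w,
      ← InvGen.wp_append, ← InvGen.wp_append, ← InvGen.wp_append, cartE6OK.wp_eq_one]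
    revert k k'; decide +kernel
  have h1 := h.good.card_out' certE6.adj (rk2_of_mem (by simp) _)
    (b := ![E6.nd 1, E6.nd 3, E6.nd 2, E6.nd 0])
    (by decide +kernel) E6.orth hq.one_lt h.hf h.φ (h.simple hq hK) h.gen (l := ![1, 1, 2, 2])
    (fun k => by rw [h.card, E6.len]) (fun ρ e e' => by simp only [hw] at e'; revert ρ; decide) 2
    (by simp [hK]) fun P a c k => by
      have a1 := c 1 2 (Or.inr rfl) (by decide +kernel) (by decide +kernel) a
      fin_cases k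
      exacts [c 0 1 (by decide +kernel) (by decide +kernel) (by decide +kernel) a1, a1, a,
        c 3 2 (Or.inr rfl) (by decide +kernel) (by decide +kernel) a]
  have h3 := hq.one_lt
  have h2 := congrArg (Nat.gcd 3 (q + 1) * ·) h1
  simp only [mul_left_comm (Nat.gcd 3 (q + 1)), h.card_H hq hK, Fin.prod_univ_four] at h2
  refine Nat.eq_of_mul_eq_mul_right (by have : 0 < q - 1 := by omega
                                        positivity) (h2.trans ((mul_comm _ _).trans (congrArg _ ?_)))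
  zify [cast_pow_sub_one h3.le, h3.le]
  simp; ring

end Chev
end H6
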