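import Cfsg.Agent.H6.TwOut
import Cfsg.Agent.H6.TwG2

/-!
# Outer automorphisms of the Ree groups
-/

set_option autoImplicit false
set_option linter.unusedSectionVars false

noncomputable section

namespace H6

open Cfsg StSys

variable {Φ ι κ : Type} [Fintype ι] [DecidableEq ι] {R : RS Φ ι} {F : Type*} [Field F]
  {G : Type*} [Group G]

lemma exists_ringEquiv' [Finite F] (γ : F → F) (ha : ∀ t u, γ (t + u) = γ t + γ u)
    (hi : ∀ t, γ t = 0 → t = 0) (h : ∀ a ≠ 0, ∃ b, ∀ t, γ (a * t) = b * γ t) :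
    ∃ c ≠ 0, ∃ σ : F ≃+* F, ∀ t, γ t = c * σ t := by
  have h1 : γ 1 ≠ 0 := fun e => one_ne_zero (hi 1 e)
  have h0 : γ 0 = 0 := by simpa using ha 0 0
  let σ : F →+* F :=
    { toFun t := (γ 1)⁻¹ * γ t
      map_one' := inv_mul_cancel₀ h1
      map_zero' := by simp [h0]
      map_add' a b := by rw [ha, mul_add]
      map_mul' a b := by
        by_cases e : a = 0
        · simp [e, h0]
        obtain ⟨c, hc⟩ := h a e
        rw [hc, ← mul_one a, hc]; field_simp }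
  exact ⟨_, h1, RingEquiv.ofBijective σ (Finite.injective_iff_bijective.1 σ.injective), fun t =>
    (mul_inv_cancel_left₀ h1 _).symm⟩

lemma StSys.ActsC.conj_wd {S : StSys R F G} {g : G} {c : Φ → F} (h : S.ActsC g 1 c) (L : List (Φ × F)) :
    g * S.wd L * g⁻¹ = S.wd (L.map fun p => (p.1, c p.1 * p.2)) := by
  simpa [wd, Function.comp_def, h.conj] using map_list_prod (MulAut.conj g) (L.map fun p => S.x p.1 p.2)

namespace Tw
variable {S : ChevSys R F G} {T : Sym R κ} {X : Tw S T} [Fintype Φ] {Γ : Subgroup G} (hΓ : X.Good Γ)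
  (hA : S.Adj) (hgen : Γ ≤ (S.Up ⊓ X.Fx) ⊔ (S.Um ⊓ X.Fx))
include hΓ hA

theorem Good.eq_one_of_fix (hL : ∀ M : Subgroup G, (∀ k, S.U (T.P k) ⊓ X.Fx ≤ M) → Lead S M)
    (hgen : Γ ≤ (S.Up ⊓ X.Fx) ⊔ (S.Um ⊓ X.Fx)) {θ : MulAut Γ} (h : θ ∈ stdAut S Γ)
    (hf : ∀ k (g : Γ), (g : G) ∈ S.U (T.P k) → θ g = g) : θ = 1 := by
  have h1 : ∀ y : Γ, (y : G) ∈ S.H → θ y = y := fun y hy => by
    have hz : ((y⁻¹ * θ y : Γ) : G) ∈ S.H := mul_mem (inv_mem hy) ((hΓ.maps_H h y).2 hy)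
    refine (inv_mul_eq_one.1 (Subtype.ext (hA _ hz (centralizes (hL (Subgroup.centralizer {((y⁻¹ * θ y : Γ) : G)})
      fun k u hu => ?_) hz fun u hu => ?_)))).symm
    · have := hf k (y * ⟨u, hΓ.pos k hu⟩ * y⁻¹) ((norm_iff (S.nconj.H_le_normalizer _ hy) _).2 hu.1)
      rw [map_mul, map_mul, hf k ⟨u, _⟩ hu.1, map_inv] at this
      have e := congrArg (fun z : Γ => (y : G)⁻¹ * z * θ y) this
      simpa [Subgroup.mem_centralizer_singleton_iff, mul_assoc] using e.symm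
    · rw [mul_inv_eq_iff_eq_mul]; exact (Subgroup.mem_centralizer_singleton_iff.1 hu.2).symm
  obtain ⟨ρ, hρ⟩ := hΓ.exists_perm h
  have h2 : ∀ k, θ (hΓ.nk k) = hΓ.nk k := fun k => by
    obtain ⟨u, hu, hu1⟩ := hΓ.ne_pos k
    have e : ρ k = k := by
      by_contra e
      have := (S.inj.U_inf (T.closed_P k) (T.closed_P (ρ k)) (fun _ h => R.fv_one_pos h.1)
        fun _ h => R.fv_one_pos h.1).le ⟨hu.1, by simpa [hf k ⟨u, hu.2⟩ hu.1] using ((hρ k).2.1 ⟨u, hu.2⟩).2 hu.1⟩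
      rw [Set.eq_empty_of_forall_notMem (s := _ ∩ _) fun r hr => R.vec_ne_zero r (funext fun i => by
        by_cases c : T.cls i = k
        exacts [hr.2.2 i fun d => e (d.symm.trans c), hr.1.2 i c]), U_empty] at this
      exact hu1 this
    have a1 := e ▸ (hρ k).1
    have a2 := hΓ.nk_acts k
    have a3 := hΓ.nk_mem k
    generalize hΓ.nk k = n at a1 a2 a3 ⊢
    have a4 : ((θ n * n⁻¹ : Γ) : G) ∈ S.H := S.mem_H_of_acts (mul_mem ((hΓ.maps_N h n).2 a3) (inv_mem a3))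
      (by simpa using a1.mul a2.inv)
    have a5 := a2.conj_mem_U (fun r => T.act_w_P) hu.1
    obtain ⟨u', hu', n', hn', w, hw, hw', v, hv, e'⟩ := hΓ.exists_unu (n * ⟨u, hu.2⟩ * n⁻¹).2
    obtain ⟨b1, b2, b3⟩ := S.unu_levi (J := T.J {k}) hu'.1 hn'.1 hw' hv.1
      (e' ▸ Subgroup.mem_sup_right (S.U_mono (fun _ h => h.2) a5))
    rcases Sym.eq_one_or hw b1 with rfl | rfl
    · exact absurd (conj_eq_one (S.eq_one_of_mem_Um_B (S.U_mono (fun _ h => h.1) a5) (e'.symm ▸ mul_mem (mul_mem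
        (S.Up_le_B hu'.1) (S.H_le_B (S.mem_H_of_acts hn'.1 hw'))) (S.U_inv_le_B _ hv.1) :
          ((n * ⟨u, hu.2⟩ * n⁻¹ : Γ) : G) ∈ S.B))) hu1
    lift u' to Γ using hu'.2
    lift n' to Γ using hn'.2
    lift v to Γ using hv.2
    replace e' : n * ⟨u, hu.2⟩ * n⁻¹ = u' * n' * v := Subtype.ext e'
    have c1 := congrArg θ e'
    simp only [map_mul, map_inv, hf k _ b2, hf k _ b3, hf k ⟨u, hu.2⟩ hu.1] at c1
    have c2 : ((n' * n⁻¹ : Γ) : G) ∈ S.H := S.mem_H_of_acts (mul_mem hn'.1 (inv_mem a3))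
      (by simpa using hw'.mul a2.inv)
    have c3 := h1 _ c2
    rw [map_mul, map_inv, mul_inv_eq_iff_eq_mul] at c3
    generalize hy : θ n * n⁻¹ = y at a4
    rw [mul_inv_eq_iff_eq_mul] at hy
    have a6 := S.nconj.acts_of_mem_H a4
    have c4 := (S.unu_unique hu'.1 ((norm_iff (S.nconj.H_le_normalizer _ a4) _).2 hu'.1)
      ((hΓ.maps_N h n').2 hn'.1) (mul_mem (mul_mem (S.H_le_N a4) hn'.1) (inv_mem (S.H_le_N a4)))
      (by rw [c3]; simpa using (S.nconj.acts_of_mem_H c2).mul a1) (by simpa using (a6.mul hw').mul a6.inv)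
      hv.1 ((norm_iff (S.nconj.H_le_normalizer _ a4) _).2 hv.1) (congrArg Subtype.val (c1.symm.trans
        (show _ = y * u' * y⁻¹ * (y * n' * y⁻¹) * (y * v * y⁻¹) by
          rw [hy, show y * u' * y⁻¹ * (y * n' * y⁻¹) * (y * v * y⁻¹) = y * (u' * n' * v) * y⁻¹ by group,
            ← e']; group)))).2.1
    have c5 := S.nconj.H_comm (S.nconj.r3 hA) c2 a4
    rw [c3, hy] at c4
    push_cast at c4 c5
    rw [← mul_assoc, c5] at c4
    rw [hy, show y = 1 from Subtype.ext (by simpa [mul_assoc] using c4), one_mul]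
  refine MulEquiv.ext fun g => (hΓ.le_of (M := MonoidHom.eqLocus θ.toMonoidHom (MonoidHom.id _)) hgen
    fun k g hg => hg.elim (hf k g) fun hg => ?_).ge trivial
  have := hf k (hΓ.nk k * g * (hΓ.nk k)⁻¹) ((hΓ.nk_acts k).conj_mem_U (fun r => T.act_w_M) hg)
  rw [map_mul, map_mul, map_inv, h2] at this
  exact (show θ g = g by simpa using this)

variable [Finite Γ] [Finite F] (hR : R.Rk2) (hφ : ∀ r t (σ : F ≃+* F), X.φ r (σ t) = σ (X.φ r t))
include hgen hR hφ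

lemma Good.exists_fld (σ : F ≃+* F) : ∃ θ ∈ stdAut S Γ, ∀ (g : Γ) L, g = S.wd L →
    θ g = S.wd (L.map fun p => (p.1, σ p.2)) := by
  have hS : S.restrict.Std := ⟨S.toStSys.restrict_grp, S.restrict_adj hA, hR⟩
  have hα := hS.fld_mem σ
  let β : Γ →* G := S.grp.subtype.comp ((hS.fld σ).toMonoidHom.comp
    (Subgroup.inclusion fun g hg => (hΓ.le hg).1))
  have h1 : ∀ (g : Γ) L, (g : G) = S.wd L → β g = S.wd (L.map fun p => (p.1, σ p.2)) := fun g L e => by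
    have : Subgroup.inclusion (fun g hg => (hΓ.le hg).1) g = S.restrict.wd L :=
      Subtype.ext (e.trans (by simp [wd, Function.comp_def]; rfl))
    simp only [β, MonoidHom.comp_apply, this, wd, map_list_prod, List.map_map, Function.comp_def,
      MulEquiv.coe_toMonoidHom, hS.fld_x]
    rfl
  have h2 : ∀ (g : Γ) A, (g : G) ∈ S.U A → β g ∈ S.U A ⊓ X.Fx := fun g A hg => by
    obtain ⟨L, hL, e⟩ := S.exists_wd hg
    rw [h1 g L e]
    refine ⟨S.wd_mem (List.forall_mem_map.2 hL), wd_mem_Fx.2 ?_⟩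
    rw [← h1 g L e, h1 g _ (e.trans (wd_mem_Fx.1 (e ▸ hΓ.le g.2)).symm)]
    simp [Function.comp_def, hφ]
  have h4 : Γ.comap β = ⊤ := hΓ.le_of hgen fun k g hg =>
    hg.elim (fun hg => hΓ.pos k (h2 g _ hg)) fun hg => hΓ.neg k (h2 g _ hg)
  refine ⟨MulEquiv.ofBijective (β.codRestrict Γ fun g => h4.ge trivial) (Finite.injective_iff_bijective.1
    fun a a' e => Subgroup.inclusion_injective (fun g hg => (hΓ.le hg).1) ((hS.fld σ).injective (Subtype.ext
      (show β a = β a' from congrArg (Subtype.val : Γ → G) e)))), ⟨fun g => ?_, fun g => ?_⟩, h1⟩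
  · have := hα.1 ⟨g, (hΓ.le g.2).1⟩
    simp only [Up, ChevSys.restrict, restrict_U] at this
    exact this
  · have := hα.2 ⟨g, (hΓ.le g.2).1⟩
    simp only [Um, ChevSys.restrict, restrict_U] at this
    exact this

theorem Good.card_out_fld (hL : ∀ M : Subgroup G, (∀ k, S.U (T.P k) ⊓ X.Fx ≤ M) → Lead S M)
    (hs : IsSimpleGroup Γ ∧ ¬ IsMulCommutative Γ) {Q : MulAut Γ → Prop}
    (h1 : ∀ θ ∈ stdAut S Γ, ∃ y : Γ, (y : G) ∈ S.H ∧ ∃ σ : F ≃+* F, ∀ α : MulAut Γ,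
      (∀ (g : Γ) L, g = S.wd L → α g = S.wd (L.map fun p => (p.1, σ p.2))) → Q ((MulAut.conj y * α)⁻¹ * θ))
    (h2 : ∀ θ ∈ stdAut S Γ, Q θ → ∀ k (g : Γ), (g : G) ∈ S.U (T.P k) → θ g = g)
    (h3 : ∀ y : Γ, (y : G) ∈ S.H → ∀ σ : F ≃+* F, (∀ (g : Γ) L, g = S.wd L →
      (y * g * y⁻¹ : G) = S.wd (L.map fun p => (p.1, σ p.2))) → σ = 1) :
    Nat.card (Out Γ) = Nat.card (F ≃+* F) := by
  choose α a1 a2 using hΓ.exists_fld hA hgen hR hφ
  let β : (F ≃+* F) →* MulAut Γ := MonoidHom.mk' α fun σ τ => MulEquiv.ext fun g => Subtype.ext (by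
    obtain ⟨L, -, e⟩ := S.exists_wd (hΓ.le g.2).1
    rw [MulAut.mul_apply, a2 σ _ _ (a2 τ g L e), a2 _ g L e, List.map_map]; rfl)
  refine (Nat.card_eq_of_bijective ((QuotientGroup.mk' (Inn Γ)).comp β)
    ⟨(injective_iff_map_eq_one _).2 fun σ h => ?_, fun φ => ?_⟩).symm
  · obtain ⟨y, hy⟩ := (QuotientGroup.eq_one_iff _).1 h
    exact h3 y (hΓ.std_conj_iff.1 (show MulAut.conj y ∈ stdAut S Γ from hy ▸ a1 σ)) σ fun g L e =>
      (congrArg (fun θ : MulAut Γ => (θ g : G)) hy).trans (a2 σ g L e)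
  · obtain ⟨φ, rfl⟩ := QuotientGroup.mk_surjective φ
    obtain ⟨g, θ, hθ, rfl⟩ := hΓ.exists_std' (S.nconj.r3 hA) φ
    obtain ⟨y, hy, σ, e⟩ := h1 θ hθ
    have b := mul_mem (inv_mem (mul_mem (show _ ∈ stdAut S Γ from hΓ.std_conj_iff.2 hy) (a1 σ))) hθ
    rw [← inv_mul_eq_one.1 (hΓ.eq_one_of_fix hA hL hgen b (h2 _ b (e _ (a2 σ))))]
    have c : ∀ g : Γ, ((MulAut.conj g : MulAut Γ) : Out Γ) = 1 := fun g =>
      (QuotientGroup.eq_one_iff _).2 ⟨g, rfl⟩
    exact ⟨σ, by simp [c, β]⟩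

end Tw

namespace Chev.G2
open Cfsg.Lie Tw
variable {K : Type*} [Field K] [Fintype K] {m : ℕ} {X : Tw (certG2.sys K) symG2} {f : K →+* K}
  (h : Pack X f m)

lemma hca [CharP K 3] {G : Type*} [Group G] (S : StSys certG2.R K G) (t u : K) :
    S.x (rt 8) u * S.x (rt 7) t = S.x (rt 7) t * S.x (rt 8) u * S.x (rt 9) (2 * t * u) := by
  have h3 : (3 : K) = 0 := CharP.cast_eq_zero K 3
  rw [S.comm _ _ (by decide) (by decide +kernel), certG2.terms_eq
    (L := [(rt 9, -2, 1, 1), (rt 10, -3, 2, 1), (rt 11, 3, 1, 2)]) (by decide +kernel)]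
  simp [h3]

lemma heb {G : Type*} [Group G] (S : StSys certG2.R K G) (t u : K) :
    S.x (rt 10) u * S.x (rt 6) t = S.x (rt 6) t * S.x (rt 10) u * S.x (rt 11) (-(t * u)) := by
  rw [S.comm _ _ (by decide) (by decide +kernel), certG2.terms_eq (L := [(rt 11, 1, 1, 1)])
    (by decide +kernel)]
  simp

/-- the unipotent elements -/
def Pack.x (t u v : K) : twistedG2 K (3 ^ m) := ⟨_, h.wU_mem t u v⟩

lemma Pack.mem_iff {g : twistedG2 K (3 ^ m)} : g.1 ∈ (certG2.sys K).Up ↔ ∃ t u v, g = h.x t u v :=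
  ⟨fun hg => by
    obtain ⟨p, e⟩ := (h.mem g).1 ⟨hg, h.good.le g.2⟩
    exact ⟨_, _, _, Subtype.ext e⟩, by rintro ⟨t, u, v, rfl⟩; exact ((h.mem _).2 ⟨(t, u, v), rfl⟩).1⟩

lemma Pack.eq_x {g : twistedG2 K (3 ^ m)} {a t c d u v : K} (e : g.1 = (certG2.sys K).wd
    [(rt 7, a), (rt 6, t), (rt 8, c), (rt 9, d), (rt 10, u), (rt 11, v)]) : g = h.x t u v := by
  obtain ⟨t', u', v', rfl⟩ := h.mem_iff.1 (show g.1 ∈ _ from e ▸ (certG2.sys K).wd_mem fun p hp =>
    ((P0 _).1 (List.mem_map_of_mem (f := Prod.fst) hp)).1)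
  have := (certG2.sys K).inj.wd_inj (w := wU f t' u' v') (by rfl) (by simp only [wU, List.map]; decide)
    (fun r hr => ((P0 r).1 hr).1) e
  simp only [wU, List.cons.injEq, Prod.mk.injEq, true_and, and_true] at this
  rw [this.2.1, this.2.2.2.2.1, this.2.2.2.2.2]

lemma Pack.x_inj {t u v t' u' v' : K} : h.x t u v = h.x t' u' v' ↔ t = t' ∧ u = u' ∧ v = v' := by
  refine ⟨fun e => ?_, fun ⟨a, b, c⟩ => by rw [a, b, c]⟩
  have := (certG2.sys K).inj.wd_inj (w := wU f t u v) (by rfl) (by simp only [wU, List.map]; decide)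
    (fun r hr => ((P0 r).1 hr).1) (congrArg Subtype.val e)
  simp only [wU, List.cons.injEq, Prod.mk.injEq, true_and, and_true] at this
  exact ⟨this.2.1, this.2.2.2.2.1, this.2.2.2.2.2⟩

lemma Pack.x_mul (t u v t' u' v' : K) : h.x t u v * h.x t' u' v' = h.x (t + t') (u + u' - f t' ^ 3 * t)
    (v + v' - f t' ^ 3 * t ^ 2 - t' * (u - f t' ^ 3 * t)) := by
  have := h.char
  have c := fun i j h t u => (comm3 (certG2.sys K).toStSys i j h t u).left_comm
  have c' : ∀ t u, Commute ((certG2.sys K).x (rt 9) u) ((certG2.sys K).x (rt 7) t) :=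
    certG2.commute 3 (CharP.cast_eq_zero K 3) _ _ _ (by decide +kernel)
  have c1 := fun t u g => (mul_assoc _ _ g).symm.trans (congrArg (· * g) (hba (certG2.sys K).toStSys t u))
  have c2 := fun t u g => (mul_assoc _ _ g).symm.trans (congrArg (· * g) (hca (certG2.sys K).toStSys t u))
  have c3 := fun t u g => (mul_assoc _ _ g).symm.trans (congrArg (· * g) (heb (certG2.sys K).toStSys t u))
  refine (h.eq_x (by
    simp only [Pack.x, Subgroup.coe_mul, wU, wd_cons, mul_assoc, x_mul_x_mul, c 8 9 (by decide),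
      c 8 10 (by decide), c 8 11 (by decide), c 9 10 (by decide), c 9 11 (by decide), c 10 11 (by decide),
      c 6 8 (by decide), c 6 9 (by decide), c 6 11 (by decide), c 7 10 (by decide), c 7 11 (by decide),
      (c' _ _).left_comm, c1, c2, c3, wd_nil, one_mul]
    rfl)).trans (h.x_inj.2 ⟨rfl, by ring, by ring⟩)

lemma Pack.x_zero : h.x 0 0 0 = 1 := Subtype.ext (by simp [Pack.x, wU, wd])

lemma Pack.x_cube (t u v : K) : h.x t u v ^ 3 = h.x 0 0 (-(t ^ 2 * f t ^ 3)) := by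
  have := h.char
  have h3 : (3 : K) = 0 := CharP.cast_eq_zero K 3
  rw [pow_three', h.x_mul, h.x_mul, h.x_inj]
  exact ⟨by linear_combination t * h3, by linear_combination (u - f t ^ 3 * t) * h3,
    by linear_combination (v - t * u) * h3⟩

include h in
lemma Pack.cube_inj : Function.Injective fun t => t ^ 2 * f t ^ 3 := fun t s e => by
  simp only at e
  by_cases hs : s = 0
  · simpa [hs] using e
  have e2 := congrArg (fun x => f x ^ 3) e
  simp only [map_mul, map_pow, mul_pow, h.hff] at e2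
  have ht : t ≠ 0 := by rintro rfl; exact absurd e.symm (by simp [hs])
  have : f t ≠ 0 := by simpa
  have : f s ≠ 0 := by simpa
  refine mul_left_cancel₀ (a := t ^ 3 * s ^ 3 * f t ^ 6) (by positivity) ?_
  linear_combination (s ^ 3 * (t ^ 2 * f t ^ 3 + s ^ 2 * f s ^ 3)) * e - s ^ 4 * e2

variable (hK : Fintype.card K = 3 ^ (2 * m + 1))

/-- the torus -/
def Pack.D : Kˣ →* twistedG2 K (3 ^ m) := (tor f).codRestrict _ fun a => ((h.H_eq hK).ge ⟨a, rfl⟩).2

lemma Pack.mem_H {g : twistedG2 K (3 ^ m)} : g.1 ∈ (certG2.sys K).H ↔ ∃ a, h.D hK a = g :=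
  ⟨fun hg => ((h.H_eq hK).le ⟨hg, g.2⟩).imp fun _ e => Subtype.ext e,
    fun ⟨a, e⟩ => e ▸ ((h.H_eq hK).ge ⟨a, rfl⟩).1⟩

lemma Pack.D_x (a : Kˣ) (t u v : K) : h.D hK a * h.x t u v * (h.D hK a)⁻¹ =
    h.x (a ^ 2 * (f a ^ 3)⁻¹ * t) (f a ^ 3 * (a : K)⁻¹ * u) (a * v) := by
  have hA : ∀ (i : Fin 2) (j : Fin 3), certG2.R.A (nd i) (rt (![6, 10, 11] j)) =
      mat [[-3, 3, 0], [2, -1, 1]] i j := by decide +kernel
  have e : ∀ j : Fin 3, ((certG2.R.chi (certG2.R.cm Kˣ (par f a)) (rt (![6, 10, 11] j)) : Kˣ) : K) =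
      f a ^ mat [[-3, 3, 0], [2, -1, 1]] 0 j * a ^ mat [[-3, 3, 0], [2, -1, 1]] 1 j := fun j => by
    rw [RS.chi_cm]
    exact (congrArg Units.val (Fin.prod_univ_two _)).trans (by
      push_cast; exact congrArg₂ (· * ·) (congrArg (f a ^ ·) (hA 0 j)) (congrArg ((a : K) ^ ·) (hA 1 j)))
  refine (h.eq_x (((certG2.sys K).nconj.actsC_Theta certG2.r3 (par f a)).conj_wd _)).trans (h.x_inj.2
    ⟨congrArg (· * t) ((e 0).trans ?_), congrArg (· * u) ((e 1).trans ?_), congrArg (· * v) ((e 2).trans ?_)⟩) <;>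
  simp [mat, mul_comm, zpow_ofNat]

variable {θ : MulAut (twistedG2 K (3 ^ m))} (hθ : θ ∈ stdAut (certG2.sys K) (twistedG2 K (3 ^ m)))
include hK hθ

lemma Pack.exists_fld : ∃ c ≠ 0, ∃ σ : K ≃+* K, ∀ v, θ (h.x 0 0 v) = h.x 0 0 (c * σ v) := by
  have : ∀ v, ∃ w, θ (h.x 0 0 v) = h.x 0 0 w := fun v => by
    obtain ⟨t, e⟩ := Finite.surjective_of_injective h.cube_inj (-v)
    obtain ⟨a, b, c, e'⟩ := h.mem_iff.1 ((hθ.up _).2 (h.mem_iff.2 ⟨t, 0, 0, rfl⟩))
    exact ⟨_, by rw [← neg_neg v, ← e, ← h.x_cube a b c, ← e', ← map_pow, h.x_cube]⟩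
  choose γ hγ using this
  simp only [hγ, h.x_inj, true_and]
  refine exists_ringEquiv' γ (fun t u => ?_) (fun t e => ?_) fun a ha => ?_
  · simpa [h.x_mul, hγ, h.x_inj] using map_mul θ (h.x 0 0 t) (h.x 0 0 u)
  · simpa [e, ← h.x_zero, h.x_inj] using (θ.map_eq_one_iff (x := h.x 0 0 t)).1 (by rw [hγ, e, h.x_zero])
  · obtain ⟨b, hb⟩ := (h.mem_H hK).1 ((h.good.maps_H hθ _).2 ((h.mem_H hK).2 ⟨Units.mk0 a ha, rfl⟩))
    exact ⟨b, fun t => by
      have := congrArg θ (h.D_x hK (Units.mk0 a ha) 0 0 t)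
      rw [map_mul, map_mul, map_inv, ← hb, hγ, h.D_x] at this
      simpa [hγ, h.x_inj] using this.symm⟩

lemma Pack.fix (hm : 1 ≤ m) (hQ : ∀ v, θ (h.x 0 0 v) = h.x 0 0 v) (t u v : K) :
    θ (h.x t u v) = h.x t u v := by
  have := h.char
  have h3 : (3 : K) = 0 := CharP.cast_eq_zero K 3
  have h1 : ∀ (a : Kˣ) t u v, θ (h.x (a ^ 2 * (f a ^ 3)⁻¹ * t) (f a ^ 3 * (a : K)⁻¹ * u) (a * v)) =
      h.D hK a * θ (h.x t u v) * (h.D hK a)⁻¹ := fun a t u v => by
    obtain ⟨b, hb⟩ := (h.mem_H hK).1 ((h.good.maps_H hθ _).2 ((h.mem_H hK).2 ⟨a, rfl⟩))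
    have := congrArg θ (h.D_x hK a 0 0 1)
    rw [map_mul, map_mul, map_inv, ← hb, hQ, h.D_x] at this
    obtain rfl : b = a := Units.ext (by simpa [hQ, h.x_inj] using this)
    rw [← h.D_x hK, map_mul, map_mul, map_inv, ← hb]
  have h2 : ∀ t u v, ∃ u' v', θ (h.x t u v) = h.x t u' v' := fun t u v => by
    obtain ⟨a, b, c, e⟩ := h.mem_iff.1 ((hθ.up _).2 (h.mem_iff.2 ⟨t, u, v, rfl⟩))
    have := congrArg (· ^ 3) e
    simp only [← map_pow θ, h.x_cube, hQ, h.x_inj, true_and, neg_inj] at this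
    exact ⟨b, c, h.cube_inj this ▸ e⟩
  choose β γ h2 using h2
  have h4 : ∀ u, θ (h.x 0 u 0) = h.x 0 u 0 := fun u => by
    have a := congrArg θ (show h.x 0 u 0 * h.x 1 0 0 = h.x 1 0 0 * h.x 0 u 0 * h.x 0 0 (-u) by
      simp [h.x_mul])
    have b := h1 (-1) 0 u 0
    simp only [map_mul, hQ] at a
    simp [h2, h.x_mul, h.D_x, h.x_inj, Odd.neg_one_pow (show Odd 3 by decide)] at a b
    rw [h2, h.x_inj]
    exact ⟨rfl, by linear_combination -a.2, by linear_combination -b + γ 0 u 0 * h3⟩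
  have h5 : ∀ t u v, θ (h.x t u v) = h.x t (β t 0 0 + u) (γ t 0 0 + v) := fun t u v => by
    rw [show h.x t u v = h.x t 0 0 * h.x 0 u 0 * h.x 0 0 v by simp [h.x_mul], map_mul, map_mul, hQ, h4, h2]
    simp [h.x_mul]
  have h6 : ∀ t s, β (t + s) 0 0 = β t 0 0 + β s 0 0 ∧
      γ (t + s) 0 0 = γ t 0 0 + γ s 0 0 - s * β t 0 0 := fun t s => by
    have := map_mul θ (h.x t 0 0) (h.x s 0 0)
    simp only [h.x_mul, h5, h.x_inj] at this
    exact ⟨by linear_combination this.2.1, by linear_combination this.2.2⟩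
  have h7 : ∀ t, β t 0 0 = 0 := fun t => by
    have b := h1 (-1) t 0 0
    simp [h2, h.D_x, h.x_inj, Odd.neg_one_pow (show Odd 3 by decide)] at b
    have c := (h6 t (-t)).1
    have d := (h6 0 0).1
    simp only [add_neg_cancel, add_zero] at c d
    linear_combination c + b.1 + d + β t 0 0 * h3
  have h8 : ∀ s, γ s 0 0 = s ^ 2 * f s ^ 3 * γ 1 0 0 := fun s => by
    by_cases hs : s = 0
    · simpa [hs] using (h6 0 0).2
    have b := h1 (Units.mk0 (s ^ 2 * f s ^ 3) (by simp [hs])) 1 0 0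
    have : f s ≠ 0 := by simpa
    simp only [h2, h.D_x, h.x_inj, mul_zero, Units.val_mk0, map_mul, map_pow, mul_pow, h.hff] at b
    rw [← b.2.2]; congr 1; field_simp
  have h9 : γ 1 0 0 = 0 := by
    by_contra c
    obtain ⟨a, ha⟩ := exists_pow_ne_one (K := K) (n := 2) two_pos (by
      rw [hK]; exact lt_of_lt_of_le (by decide) (Nat.pow_le_pow_right (n := 3) (by decide) (show 2 ≤ _ by omega)))
    have e : ∀ s, f s ^ 3 = s := fun s => by
      have a := (h6 s 1).2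
      have b := (h6 (-s) 1).2
      rw [h7, h8 (_ + _), h8 s, map_add, add_pow_char _ _ 3] at a
      rw [h7, h8 (_ + _), h8 (-s), map_add, add_pow_char _ _ 3, map_neg, Odd.neg_pow (show Odd 3 by decide)] at b
      simp only [map_one] at a b
      exact mul_right_cancel₀ c (by linear_combination -a + b + (s + f s ^ 3) * γ 1 0 0 * h3)
    have := h.hff a
    rw [e] at this
    have e' := e a
    rw [this] at e'
    exact ha (Units.ext (mul_left_cancel₀ a.ne_zero (by push_cast; linear_combination e')))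
  rw [h5, h7, h8, h9]; simp

omit hθ h in
theorem card_out (hm : 1 ≤ m) : Nat.card (Out (twistedG2 K (3 ^ m))) = Nat.card (K ≃+* K) := by
  obtain ⟨X, f, h⟩ := exists_pack hK
  refine h.good.card_out_fld certG2.adj h.gen (rk2_of_mem (by simp) _) (fun r t σ => by
    simp only [h.hX, h.hf, map_pow]) (fun M hM (j : Fin 2) => ?_) (h.simple hK hm)
    (Q := fun θ => ∀ v, θ (h.x 0 0 v) = h.x 0 0 v) (fun θ hθ => ?_) (fun θ hθ hQ k g hg => ?_)
    fun y hy σ e => ?_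
  · change ∃ t ≠ 0, ∃ y ∈ (certG2.sys K).U {r | certG2.R.Pos r ∧ r ≠ certG2.R.simple (nd j)},
      (certG2.sys K).x (certG2.R.simple (nd j)) t * y ∈ _
    have h1 := hM 0 (by rw [P_eq]; exact (h.mem _).2 ⟨(1, 0, 0), rfl⟩)
    fin_cases j
    · exact lead_of_mid (L := []) (by simp) (by
        simp only [List.map, List.nil_append, certG2.R_pos_iff]; decide +kernel) h1
    · exact lead_of_mid (L := [_]) (by simp) (by
        simp only [List.map, List.nil_append, List.cons_append, certG2.R_pos_iff]; decide +kernel) h1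
  · obtain ⟨c, hc, σ, e⟩ := h.exists_fld hK hθ
    refine ⟨_, (h.mem_H hK).2 ⟨Units.mk0 c hc, rfl⟩, σ, fun α hα v => ?_⟩
    rw [MulAut.mul_apply, MulAut.inv_apply, MulEquiv.symm_apply_eq, MulAut.mul_apply, h.eq_x (hα (h.x 0 0 v) _ rfl),
      MulAut.conj_apply, h.D_x, e]
    simp
  · obtain ⟨t, u, v, rfl⟩ := h.mem_iff.1 (U_mono _ (fun _ h => h.1) hg)
    exact h.fix hK hθ hm hQ t u v
  · obtain ⟨b, rfl⟩ := (h.mem_H hK).1 hy
    have := fun v => (h.x_inj.1 ((h.D_x hK b 0 0 v).symm.trans (h.eq_x (e (h.x 0 0 v) _ rfl)))).2.2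
    exact RingEquiv.ext fun v => by simpa [show (b : K) = 1 by simpa using this 1] using (this v).symm

end Chev.G2

namespace Chev.F4
open Cfsg.Lie Tw
variable {K : Type*} [Field K] [Fintype K] {m : ℕ} {X : Tw (certF4.sys K) symF4} {f : K →+* K}
  (h : Pack X f m)

/-- the unipotent elements of the first orbit -/
def Pack.x0 (t : K) : twistedF4 K (2 ^ m) := ⟨_, h.good.pos 0 ((h.mem0 _).2 ⟨t, rfl⟩)⟩
/-- the unipotent elements of the second orbit -/
def Pack.x1 (t u : K) : twistedF4 K (2 ^ m) := ⟨_, h.good.pos 1 ((h.mem1 _).2 ⟨(t, u), rfl⟩)⟩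

lemma Pack.mem0' {g : twistedF4 K (2 ^ m)} : g.1 ∈ (certF4.sys K).U (symF4.P 0) ↔ ∃ t, g = h.x0 t :=
  (h.good.inf_eq 0).1.trans ((h.mem0 _).trans (exists_congr fun t => (Subtype.ext_iff (a2 := h.x0 t)).symm))

lemma Pack.mem1' {g : twistedF4 K (2 ^ m)} : g.1 ∈ (certF4.sys K).U (symF4.P 1) ↔ ∃ t u, g = h.x1 t u :=
  (h.good.inf_eq 1).1.trans ((h.mem1 _).trans (Prod.exists.trans (exists₂_congr fun t u =>
    (Subtype.ext_iff (a2 := h.x1 t u)).symm)))

lemma P0' (r) : r ∈ [rt 33, rt 24] ↔ r ∈ symF4.P 0 := by rw [← P0, simple_nd, simple_nd]; rfl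

lemma inj0 {a t a' t' : K} (e : (certF4.sys K).wd [(rt 33, a), (rt 24, t)] =
    (certF4.sys K).wd [(rt 33, a'), (rt 24, t')]) : t = t' := by
  have := (certF4.sys K).inj.wd_inj (w := [(rt 33, a), (rt 24, t)]) (by rfl)
    (by simp only [List.map]; decide) (fun r hr => ((P0' r).1 hr).1) e
  simp only [List.cons.injEq, Prod.mk.injEq, true_and, and_true] at this
  exact this.2

lemma inj1 {a t c d a' t' c' d' : K} (e : (certF4.sys K).wd [(rt 27, a), (rt 25, t), (rt 28, c), (rt 30, d)] =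
    (certF4.sys K).wd [(rt 27, a'), (rt 25, t'), (rt 28, c'), (rt 30, d')]) : t = t' ∧ c = c' := by
  have := (certF4.sys K).inj.wd_inj (w := [(rt 27, a), (rt 25, t), (rt 28, c), (rt 30, d)]) (by rfl)
    (by simp only [List.map]; decide) (fun r hr => ((P1 r).1 hr).1) e
  simp only [List.cons.injEq, Prod.mk.injEq, true_and, and_true] at this
  exact ⟨this.2.1, this.2.2.1⟩

lemma Pack.eq_x0 {g : twistedF4 K (2 ^ m)} {a t : K} (e : g.1 = (certF4.sys K).wd
    [(rt 33, a), (rt 24, t)]) : g = h.x0 t := by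
  obtain ⟨t', rfl⟩ := h.mem0'.1 (show g.1 ∈ _ from e ▸ (certF4.sys K).wd_mem fun p hp =>
    (P0' _).1 (List.mem_map_of_mem (f := Prod.fst) hp))
  rw [inj0 e]

lemma Pack.eq_x1 {g : twistedF4 K (2 ^ m)} {a t c d : K} (e : g.1 = (certF4.sys K).wd
    [(rt 27, a), (rt 25, t), (rt 28, c), (rt 30, d)]) : g = h.x1 t (c - f t * t) := by
  obtain ⟨t', u', rfl⟩ := h.mem1'.1 (show g.1 ∈ _ from e ▸ (certF4.sys K).wd_mem fun p hp =>
    (P1 _).1 (List.mem_map_of_mem (f := Prod.fst) hp))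
  obtain ⟨rfl, rfl⟩ := inj1 e
  simp

lemma Pack.x0_inj {t t' : K} : h.x0 t = h.x0 t' ↔ t = t' :=
  ⟨fun e => inj0 (congrArg Subtype.val e), fun e => e ▸ rfl⟩

lemma Pack.x1_inj {t u t' u' : K} : h.x1 t u = h.x1 t' u' ↔ t = t' ∧ u = u' :=
  ⟨fun e => by
    obtain ⟨rfl, a⟩ := inj1 (congrArg Subtype.val e)
    exact ⟨rfl, add_left_cancel a⟩, fun ⟨a, b⟩ => by rw [a, b]⟩

lemma Pack.x0_mul (t t' : K) : h.x0 t * h.x0 t' = h.x0 (t + t') := by
  have := h.char
  have c : ∀ t u, Commute ((certF4.sys K).x (rt 24) u) ((certF4.sys K).x (rt 33) t) :=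
    certF4.commute 2 CharTwo.two_eq_zero _ _ _ (by decide +kernel)
  exact h.eq_x0 (by
    simp only [Pack.x0, Subgroup.coe_mul, wd_cons, mul_assoc, x_mul_x_mul, (c _ _).left_comm, wd_nil, one_mul]
    rfl)

lemma Pack.x1_mul (t u t' u' : K) : h.x1 t u * h.x1 t' u' = h.x1 (t + t') (u + u' - f t * t') := by
  have := h.char
  have c : ∀ i j : Fin 48, (i, j) ∈ [(27, 28), (27, 30), (25, 28), (25, 30), (28, 30)] → ∀ t u g,
      (certF4.sys K).x (rt j) u * ((certF4.sys K).x (rt i) t * g) = _ := fun i j h t u =>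
    (certF4.commute 2 CharTwo.two_eq_zero _ _ _ (by revert i j; decide +kernel) t u).left_comm
  have c1 := fun t u g => (mul_assoc _ _ g).symm.trans (congrArg (· * g) (hba (certF4.sys K).toStSys t u))
  refine (h.eq_x1 (by
    simp only [Pack.x1, Subgroup.coe_mul, wd_cons, mul_assoc, x_mul_x_mul, c 27 28 (by decide),
      c 27 30 (by decide), c 25 28 (by decide), c 25 30 (by decide), c 28 30 (by decide), c1, wd_nil, one_mul]
    rfl)).trans (h.x1_inj.2 ⟨rfl, by rw [map_add]; ring⟩)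

lemma Pack.x_zero : h.x0 0 = 1 ∧ h.x1 0 0 = 1 :=
  ⟨Subtype.ext (by simp [Pack.x0, wd]), Subtype.ext (by simp [Pack.x1, wd])⟩

lemma Pack.x1_sq (t u : K) : h.x1 t u ^ 2 = h.x1 0 (f t * t) := by
  have := h.char
  rw [sq, h.x1_mul, CharTwo.add_self_eq_zero, CharTwo.add_self_eq_zero, zero_sub, CharTwo.neg_eq]

include h in
lemma Pack.sq_inj : Function.Injective fun t => f t * t := fun t s e => by
  simp only at e
  by_cases hs : s = 0
  · simpa [hs] using e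
  have e2 := congrArg (fun x => f x ^ 2) e
  simp only [map_mul, mul_pow, h.hff] at e2
  have ht : t ≠ 0 := by rintro rfl; exact absurd e.symm (by simp [hs])
  have : f t ≠ 0 := by simpa
  refine mul_left_cancel₀ (a := t * s * f t ^ 2) (by positivity) ?_
  linear_combination (s * (f t * t + f s * s)) * e - s ^ 2 * e2

/-- action of the torus -/
def Pack.Sc (y : twistedF4 K (2 ^ m)) (a b : K) : Prop := (∀ t, y * h.x0 t * y⁻¹ = h.x0 (a * t)) ∧
  ∀ t u, y * h.x1 t u * y⁻¹ = h.x1 (b * t) (f b * b * u)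

lemma Pack.sc {y : twistedF4 K (2 ^ m)} {c} (hc : (certF4.sys K).ActsC y 1 c) :
    h.Sc y (c (rt 24)) (c (rt 25)) := by
  have h1 := fun t u => h.eq_x1 (g := y * h.x1 t u * y⁻¹) (hc.conj_wd _)
  have h2 := h.x1_inj.1 ((h1 0 _).symm.trans (((congrArg (y * · * y⁻¹) (h.x1_sq 1 0)).symm.trans
    conj_pow.symm).trans (by rw [h1, h.x1_sq])))
  simp only [map_one, mul_one, map_zero, mul_zero, zero_add, sub_zero, true_and] at h2
  exact ⟨fun t => h.eq_x0 (hc.conj_wd _), fun t u => (h1 t u).trans (h.x1_inj.2 ⟨rfl, by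
    simp only [h2, map_mul]; ring⟩)⟩

lemma Pack.exists_sc {y : twistedF4 K (2 ^ m)} (hy : y.1 ∈ (certF4.sys K).H) : ∃ a b, h.Sc y a b ∧
    ∀ n : twistedF4 K (2 ^ m), (certF4.sys K).Acts n (symF4.w 0) → ∃ a', h.Sc (n * y * n⁻¹) a' (a * b) := by
  obtain ⟨c, -, hc⟩ := (certF4.sys K).nconj.exists_chi certF4.r3 hy
  refine ⟨_, _, h.sc hc, fun n ⟨e, he⟩ => ?_⟩
  have h1 := (he.mul hc).mul he.inv
  rw [mul_one, mul_inv_cancel] at h1
  refine ⟨_, Eq.mp (congrArg (h.Sc _ _) ?_) (h.sc (y := n * y * n⁻¹) h1)⟩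
  have h3 : certF4.R.act (symF4.w 0)⁻¹ (rt 25) = rt 26 := by
    rw [Sym.w_inv]; exact Fin.ext ((certF4.act_wp _ _).trans (by decide +kernel))
  rw [h3, RS.act_one, mul_right_comm, mul_inv_cancel₀ (he.ne _), one_mul, certF4.R.chi_comb _ (r := rt 24)
    (s := rt 25) (a := 1) (b := 1) (by decide +kernel), zpow_one, zpow_one, Units.val_mul]

lemma Pack.exists_H (a b : K) (ha : a ≠ 0) (hb : b ≠ 0) :
    ∃ y : twistedF4 K (2 ^ m), y.1 ∈ (certF4.sys K).H ∧ h.Sc y a b := by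
  let c : Kˣ × Kˣ →* (Fin chevF4.rank → Kˣ) := MonoidHom.mk' (fun p =>
    (![Units.map f.toMonoidHom p.1, Units.map f.toMonoidHom p.2, p.2, p.1] : Fin 4 → Kˣ)) fun a b =>
    funext fun i : Fin 4 => by fin_cases i; exacts [map_mul _ _ _, map_mul _ _ _, rfl, rfl]
  let e : Kˣ × Kˣ →* Kˣ × Kˣ := ((Pi.evalMonoidHom _ (nd 3)).prod (Pi.evalMonoidHom _ (nd 2))).comp
    ((certF4.R.cm Kˣ).comp c)
  have hA : ∀ (i : Fin 4) (j : Fin 2), certF4.R.A (nd i) (certF4.R.simple (nd (![3, 2] j))) =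
      mat [[0, 0], [0, -2], [-1, 2], [2, -1]] i j := by decide +kernel
  obtain ⟨p, hp⟩ := Finite.surjective_of_injective (f := e) ((injective_iff_map_eq_one e).2 fun p hp => by
    have h1 := (Finset.prod_congr (s₁ := Finset.univ) rfl fun i _ =>
      congrArg (c p (nd i) ^ ·) (hA i 0)).symm.trans (congrArg Prod.fst hp)
    have h2 := (Finset.prod_congr (s₁ := Finset.univ) rfl fun i _ =>
      congrArg (c p (nd i) ^ ·) (hA i 1)).symm.trans (congrArg Prod.snd hp)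
    obtain ⟨p, q⟩ := p
    simp [Fin.prod_univ_four, mat, c, nd, Units.ext_iff, zpow_ofNat] at h1 h2
    have := p.ne_zero
    have := q.ne_zero
    have : f q ≠ 0 := by simp
    field_simp at h1 h2
    change (p : K) ^ 2 = q at h1
    change (q : K) ^ 2 = p * f q ^ 2 at h2
    have h3 := congrArg f h2
    have h4 := h.hff p
    rw [map_pow, map_mul, map_pow, h.hff] at h3
    have h5 : f p = p := mul_left_cancel₀ (mul_ne_zero p.ne_zero q.ne_zero) (by
      linear_combination -h2 - p * h3 - q * h1)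
    rw [h5, h5] at h4
    have : (p : K) = 1 := mul_left_cancel₀ p.ne_zero (by linear_combination h4)
    exact Prod.ext (Units.ext this) (Units.ext (by simpa [this] using h1.symm))) (Units.mk0 a ha, Units.mk0 b hb)
  have h1 := h.H_eq.ge ⟨c p, mem_fix.2 ⟨(h.hff _).symm, (h.hff _).symm, rfl, rfl⟩, rfl⟩
  have h2 := h.sc (y := ⟨_, h1.2⟩) ((certF4.sys K).nconj.actsC_Theta certF4.r3 (c p))
  rw [show rt 24 = _ from (simple_nd 3).symm, show rt 25 = _ from (simple_nd 2).symm, RS.chi_simple,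
    RS.chi_simple, show certF4.R.cm Kˣ (c p) (nd 3) = _ from congrArg Prod.fst hp,
    show certF4.R.cm Kˣ (c p) (nd 2) = _ from congrArg Prod.snd hp] at h2
  exact ⟨_, h1.1, h2⟩

variable {θ : MulAut (twistedF4 K (2 ^ m))} (hθ : θ ∈ stdAut (certF4.sys K) (twistedF4 K (2 ^ m)))
include hθ

lemma Pack.maps : (certF4.sys K).Acts (θ (h.good.nk 0)) (symF4.w 0) ∧ (∀ t, ∃ t', θ (h.x0 t) = h.x0 t') ∧
    ∀ t u, ∃ t' u', θ (h.x1 t u) = h.x1 t' u' := by
  have := h.char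
  obtain ⟨ρ, hρ⟩ := h.good.exists_perm hθ
  obtain rfl : ρ = 1 := by
    have : ρ 1 ≠ 0 := fun e => by
      obtain ⟨t, ht⟩ := h.mem0'.1 (e ▸ ((hρ 1).2.1 _).2 (h.mem1'.2 ⟨1, 0, rfl⟩))
      have := congrArg (· ^ 2) ht
      simp only [← map_pow, h.x1_sq, sq (h.x0 t), h.x0_mul, CharTwo.add_self_eq_zero, h.x_zero.1,
        θ.map_eq_one_iff] at this
      simpa using (h.x1_inj.1 (this.trans h.x_zero.2.symm)).2
    clear hρ; revert ρ; decide
  exact ⟨(hρ 0).1, fun t => h.mem0'.1 (((hρ 0).2.1 _).2 (h.mem0'.2 ⟨t, rfl⟩)),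
    fun t u => h.mem1'.1 (((hρ 1).2.1 _).2 (h.mem1'.2 ⟨t, u, rfl⟩))⟩

lemma Pack.exists_fld : ∃ c ≠ 0, ∃ c' ≠ 0, ∃ σ : K ≃+* K, (∀ t, θ (h.x0 t) = h.x0 (c * σ t)) ∧
    ∀ t u, ∃ v, θ (h.x1 t u) = h.x1 (c' * σ t) v := by
  obtain ⟨h0, h1, h2⟩ := h.maps hθ
  choose α h1 using h1
  choose β γ h2 using h2
  have hs : ∀ t, θ (h.x1 0 (f t * t)) = h.x1 0 (f (β t 0) * β t 0) := fun t => by
    rw [← h.x1_sq t 0, map_pow, h2, h.x1_sq]
  have h3 : ∀ u, β 0 u = 0 := fun u => by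
    obtain ⟨t, rfl⟩ := Finite.surjective_of_injective h.sq_inj u
    exact (h.x1_inj.1 ((h2 _ _).symm.trans (hs t))).1
  have h4 : ∀ t u t' u', β (t + t') (u + u' - f t * t') = β t u + β t' u' := fun t u t' u' =>
    (h.x1_inj.1 ((h2 _ _).symm.trans (by rw [← h.x1_mul, map_mul, h2, h2, h.x1_mul]))).1
  have h5 : ∀ t u, β t u = β t 0 := fun t u => by simpa [h3] using h4 t 0 0 u
  have h6 : ∀ y a b a' b', h.Sc y a b → h.Sc (θ y) a' b' → ∀ t, α (a * t) = a' * α t ∧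
      β (b * t) 0 = b' * β t 0 := fun y a b a' b' e e' t =>
    ⟨h.x0_inj.1 (by rw [← h1, ← e.1, ← e'.1, ← h1, map_mul, map_mul, map_inv]), (h5 _ _).symm.trans
      (h.x1_inj.1 ((h2 _ _).symm.trans (by rw [← e.2, map_mul, map_mul, map_inv, h2 t 0, e'.2]))).1⟩
  have h7 := fun y hy => h.exists_sc ((h.good.maps_H hθ y).2 hy)
  obtain ⟨c, hc, σ, e⟩ := exists_ringEquiv' α (fun t u => h.x0_inj.1 (by
    rw [← h1, ← h.x0_mul, map_mul, h1, h1, h.x0_mul])) (fun t e => h.x0_inj.1 (θ.injective (by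
      rw [h1, e, h.x_zero.1, map_one]))) fun a ha => by
    obtain ⟨y, hy, e⟩ := h.exists_H a 1 ha one_ne_zero
    obtain ⟨a', b', e', -⟩ := h7 y hy
    exact ⟨a', fun t => (h6 _ _ _ _ _ e e' t).1⟩
  obtain ⟨c', hc', σ', e'⟩ := exists_ringEquiv' (β · 0) (fun t u => (h5 _ _).symm.trans (h4 t 0 u 0))
    (fun t e => by
      have := hs t
      rw [e, mul_zero, h.x_zero.2, θ.map_eq_one_iff] at this
      simpa [← h.x_zero.2, h.x1_inj] using this) fun a ha => by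
    obtain ⟨y, hy, e⟩ := h.exists_H 1 a one_ne_zero ha
    obtain ⟨a', b', e', -⟩ := h7 y hy
    exact ⟨b', fun t => (h6 _ _ _ _ _ e e' t).2⟩
  obtain rfl : σ = σ' := RingEquiv.ext fun a => by
    by_cases ha : a = 0
    · simp [ha]
    obtain ⟨y, hy, s⟩ := h.exists_H a 1 ha one_ne_zero
    obtain ⟨a', b', s', s1⟩ := h7 y hy
    obtain ⟨a₀, b₀, s₀, s2⟩ := h.exists_sc hy
    obtain ⟨_, s1⟩ := s1 _ h0
    obtain ⟨_, s2⟩ := s2 _ (h.good.nk_acts 0)
    have k1 := h6 _ _ _ _ _ s s' 1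
    have k2 := h6 _ _ _ _ _ s2 (by simpa using s1) 1
    have k3 := h.x0_inj.1 ((s.1 1).symm.trans (s₀.1 1))
    have k4 := (h.x1_inj.1 ((s.2 1 0).symm.trans (s₀.2 1 0))).1
    simp only [mul_one, e, e', map_one] at k1 k2 k3 k4
    subst k3 k4
    rw [mul_one] at k2
    exact mul_left_cancel₀ (mul_ne_zero hc hc') (by
      linear_combination c' * k1.1 - c * k2.2 + c * a' * k1.2)
  exact ⟨c, hc, c', hc', σ, fun t => by rw [h1, e], fun t u => ⟨_, by rw [h2, h5, e']⟩⟩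

lemma Pack.fix (hK : Fintype.card K = 2 ^ (2 * m + 1)) (hm : 1 ≤ m)
    (hQ : ∀ t u, ∃ v, θ (h.x1 t u) = h.x1 t v) (t u : K) : θ (h.x1 t u) = h.x1 t u := by
  have := h.char
  choose γ hγ using hQ
  have h1 : ∀ u, γ 0 u = u := fun u => by
    obtain ⟨t, rfl⟩ := Finite.surjective_of_injective h.sq_inj u
    exact (h.x1_inj.1 ((hγ _ _).symm.trans (by rw [← h.x1_sq t 0, map_pow, hγ, h.x1_sq, h.x1_sq]))).2
  have h2 : ∀ t u t' u', γ (t + t') (u + u' - f t * t') = γ t u + γ t' u' - f t * t' := fun t u t' u' =>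
    (h.x1_inj.1 ((hγ _ _).symm.trans (by rw [← h.x1_mul, map_mul, hγ, hγ, h.x1_mul]))).2
  have h3 : ∀ t u, γ t u = γ t 0 + u := fun t u => by simpa [h1] using h2 t 0 0 u
  have h4 : ∀ s, γ s 0 = f s * s * γ 1 0 := fun s => by
    by_cases hs : s = 0
    · simp [hs, h1]
    obtain ⟨y, hy, e⟩ := h.exists_H 1 s one_ne_zero hs
    obtain ⟨a', b', e', -⟩ := h.exists_sc ((h.good.maps_H hθ y).2 hy)
    have := congrArg θ (e.2 1 0)
    rw [map_mul, map_mul, map_inv, hγ 1 0, e'.2, hγ, h.x1_inj] at this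
    simp only [mul_one, mul_zero] at this
    exact this.1 ▸ this.2.symm
  have h5 : γ 1 0 = 0 := by
    by_contra c
    obtain ⟨a, ha⟩ := exists_pow_ne_one (K := K) (n := 1) one_pos (by
      rw [hK]; exact lt_of_lt_of_le (by decide) (Nat.pow_le_pow_right (n := 2) (by decide) (show 2 ≤ _ by omega)))
    have e : ∀ s, f s = s := fun s => by
      have a := h2 s 0 1 0
      rw [h3, h4 (_ + _), h4 s, map_add, map_one] at a
      exact mul_right_cancel₀ c (by linear_combination a - s * γ 1 0 * CharTwo.two_eq_zero (R := K))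
    have := h.hff a
    rw [e, e] at this
    exact ha (Units.ext (mul_left_cancel₀ a.ne_zero (by push_cast; linear_combination this)))
  rw [hγ, h3, h4, h5]; simp

omit hθ h in
theorem card_out (hK : Fintype.card K = 2 ^ (2 * m + 1)) (hm : 1 ≤ m) :
    Nat.card (Out (twistedF4 K (2 ^ m))) = Nat.card (K ≃+* K) := by
  obtain ⟨X, f, h⟩ := exists_pack hK
  refine h.good.card_out_fld certF4.adj h.gen (rk2_of_mem (by simp) _) (fun r t σ => by
    simp only [h.hX, h.hf, map_pow]) (fun M hM (j : Fin 4) => ?_) (h.simple hK hm)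
    (Q := fun θ => (∀ t, θ (h.x0 t) = h.x0 t) ∧ ∀ t u, ∃ v, θ (h.x1 t u) = h.x1 t v) (fun θ hθ => ?_)
    (fun θ hθ hQ k g hg => ?_) fun y hy σ e => ?_
  · change ∃ t ≠ 0, ∃ y ∈ (certF4.sys K).U {r | certF4.R.Pos r ∧ r ≠ certF4.R.simple (nd j)},
      (certF4.sys K).x (certF4.R.simple (nd j)) t * y ∈ _
    have h0 := hM 0 ((h.mem0 _).2 ⟨1, rfl⟩)
    have h1 := hM 1 ((h.mem1 _).2 ⟨(1, 0), rfl⟩)
    fin_cases j
    · exact lead_of_mid (L := []) (by simp) (by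
        simp only [List.map, List.nil_append, certF4.R_pos_iff]; decide +kernel) h0
    · exact lead_of_mid (L := []) (by simp) (by
        simp only [List.map, List.nil_append, certF4.R_pos_iff]; decide +kernel) h1
    · exact lead_of_mid (L := [_]) (by simp) (by
        simp only [List.map, List.nil_append, List.cons_append, certF4.R_pos_iff]; decide +kernel) h1
    · exact lead_of_mid (L := [_]) (by simp) (by
        simp only [List.map, List.nil_append, List.cons_append, certF4.R_pos_iff]; decide +kernel) h0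
  · obtain ⟨c, hc, c', hc', σ, e, e'⟩ := h.exists_fld hθ
    obtain ⟨y, hy, s⟩ := h.exists_H c c' hc hc'
    refine ⟨y, hy, σ, fun α hα => ⟨fun t => ?_, fun t u => ?_⟩⟩
    · rw [MulAut.mul_apply, MulAut.inv_apply, MulEquiv.symm_apply_eq, MulAut.mul_apply,
        h.eq_x0 (hα (h.x0 t) _ rfl), MulAut.conj_apply, s.1, e]
    · obtain ⟨v, hv⟩ := e' t u
      refine ⟨σ.symm ((f c' * c')⁻¹ * v), ?_⟩
      rw [MulAut.mul_apply, MulAut.inv_apply, MulEquiv.symm_apply_eq, MulAut.mul_apply,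
        h.eq_x1 (hα (h.x1 t _) _ rfl), MulAut.conj_apply, s.2, hv]
      simp [h.hf, hc', mul_assoc]
  · fin_cases k
    · obtain ⟨t, rfl⟩ := h.mem0'.1 hg
      exact hQ.1 t
    · obtain ⟨t, u, rfl⟩ := h.mem1'.1 hg
      exact h.fix hθ hK hm hQ.2 t u
  · obtain ⟨a, b, s, -⟩ := h.exists_sc hy
    have := fun t => h.x0_inj.1 ((s.1 t).symm.trans (h.eq_x0 (e (h.x0 t) _ rfl)))
    exact RingEquiv.ext fun v => by simpa [show a = 1 by simpa using this 1] using (this v).symm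

end Chev.F4
end H6
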